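import Cfsg.Agent.H8.CA5

/-! CA-groups: `S₄`-configurations, and the condition on `q` for every `q`. -/

set_option autoImplicit false
set_option linter.unusedSectionVars false

namespace H8.CA
open Subgroup Matrix H4 MulAction
open scoped MatrixGroups

/-- an `S₄`-configuration in a nonabelian simple group gives a proper non-CA subgroup -/
theorem s4_conf {G : Type*} [Group G] [Finite G] [IsSimpleGroup G] (hn : ¬ CA G) {x y a c : G}
    (hx : x ≠ 1) (hy : y ≠ 1) (xx : x * x = 1) (yy : y * y = 1) (xy : x * y = y * x)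
    (ax : a * x = x * a) (ay : a * y = x * y * a) (cy : c * y = y * c) (cx : c * x = x * y * c) :
    ∃ H : Subgroup G, H ≠ ⊤ ∧ ¬ CA H := by
  let V := closure ({x, y} : Set G)
  have hxV : x ∈ V := subset_closure (by simp)
  have hyV : y ∈ V := subset_closure (by simp)
  have key : ∀ g : G, g * x * g⁻¹ ∈ V → g * y * g⁻¹ ∈ V → g ∈ normalizer (V : Set G) := by
    intro g h1 h2
    apply mem_normalizer_fintype
    intro n hn
    induction hn using closure_induction with
    | mem z hz =>
      rcases hz with rfl | rfl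
      · exact h1
      · exact h2
    | one => simpa using V.one_mem
    | mul u v _ _ hu hv => simpa [mul_assoc] using V.mul_mem hu hv
    | inv u _ hu => simpa [mul_assoc] using V.inv_mem hu
  have ha : a ∈ normalizer (V : Set G) := key a (by rw [ax, mul_inv_cancel_right]; exact hxV)
    (by rw [ay, mul_inv_cancel_right]; exact V.mul_mem hxV hyV)
  have hc : c ∈ normalizer (V : Set G) := key c
    (by rw [cx, mul_inv_cancel_right]; exact V.mul_mem hxV hyV)
    (by rw [cy, mul_inv_cancel_right]; exact hyV)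
  refine ⟨normalizer (V : Set G), fun ht => ?_, fun h => ?_⟩
  · rcases (normalizer_eq_top_iff.1 ht).eq_bot_or_eq_top with e | e
    · rw [e] at hxV; exact hx hxV
    · apply hn
      have : IsMulCommutative V := by
        apply isMulCommutative_closure
        rintro u (rfl | rfl) v (rfl | rfl)
        · rfl
        · exact xy
        · exact xy.symm
        · rfl
      exact CA.of_comm fun u v => congrArg Subtype.val
        (this.is_comm.comm (⟨u, e ▸ mem_top u⟩ : V) ⟨v, e ▸ mem_top v⟩)
  · rcases ca_sub_iff.1 h x (le_normalizer hxV) a ha y (le_normalizer hyV) ax.symm xy with e | e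
    · rw [ay, mul_assoc] at e
      exact hx (by simpa using e)
    · have := e c hc
      rw [cx, mul_assoc] at this
      exact hy (by simpa using (mul_left_cancel this).symm)

variable {F : Type*} [Field F]

theorem mkS_mul {a b c d a' b' c' d' : F} (h : a * d - b * c = 1) (h' : a' * d' - b' * c' = 1) :
    mkS a b c d h * mkS a' b' c' d' h' = mkS (a * a' + b * c') (a * b' + b * d') (c * a' + d * c')
      (c * b' + d * d') (by linear_combination (a' * d' - b' * c') * h + h') := by
  apply Subtype.ext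
  change (!![a, b; c, d] : M2 F) * !![a', b'; c', d'] = !![_, _; _, _]
  simp

theorem one_eq_mkS : (1 : PSL(2, F)) = smk' (mkS 1 0 0 1 (by ring)) := by
  rw [← map_one smk']
  congr 1
  apply Subtype.ext
  change (1 : M2 F) = !![_, _; _, _]
  exact one_fin_two

theorem mkS_eq {a b c d a' b' c' d' : F} (h : a * d - b * c = 1) (h' : a' * d' - b' * c' = 1)
    (e : (a' = a ∧ b' = b ∧ c' = c ∧ d' = d) ∨ (a' = -a ∧ b' = -b ∧ c' = -c ∧ d' = -d)) :
    smk' (mkS a b c d h) = smk' (mkS a' b' c' d' h') := by
  rw [smk'_eq_iff]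
  rcases e with ⟨rfl, rfl, rfl, rfl⟩ | ⟨rfl, rfl, rfl, rfl⟩
  · exact Or.inl rfl
  · right
    apply Subtype.ext
    change (!![_, _; _, _] : M2 F) = - !![a, b; c, d]
    simp

theorem s4_psl [Fintype F] (h2 : (2 : F) ≠ 0) (h5 : 5 < Fintype.card F) (hs : IsSquare (2 : F)) :
    ∃ H : Subgroup PSL(2, F), H ≠ ⊤ ∧ ¬ CA H := by
  have := H22.PSL_fin_isSimpleGroup (F := F) 2 le_rfl fun _ => by omega
  obtain ⟨u, v, huv⟩ := exists_refl (F := F)
  obtain ⟨r, hr⟩ := hs
  have r0 : r ≠ 0 := by rintro rfl; exact h2 (by rw [hr, mul_zero])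
  set s := r⁻¹ with hs
  have ss : 2 * (s * s) = 1 := by rw [hr, hs]; field_simp
  have ne1 : ∀ g : SL(2, F), g.1.trace = 0 → smk' g ≠ 1 := by
    intro g hg e
    rw [← map_one smk', eq_comm, smk'_eq_iff] at e
    rcases e with rfl | rfl
    · exact h2 (by simpa [trace_fin_two] using hg)
    · exact h2 (by simpa [trace_fin_two] using hg)
  refine s4_conf (not_ca_psl h2 h5) (x := smk' (mkS 0 1 (-1) 0 (by ring)))
    (y := smk' (mkS u v v (-u) (by linear_combination -huv)))
    (a := smk' (mkS s s (-s) s (by linear_combination ss)))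
    (c := smk' (mkS (s * (1 + u)) (s * v) (s * v) (s * (1 - u))
      (by linear_combination ss - s * s * huv)))
    (ne1 _ (by simp [mkS, trace_fin_two])) (ne1 _ (by simp [mkS, trace_fin_two])) ?_ ?_ ?_ ?_ ?_ ?_ ?_
  all_goals
    simp only [← map_mul, mkS_mul, one_eq_mkS]
    apply mkS_eq
  · right; refine ⟨?_, ?_, ?_, ?_⟩ <;> ring
  · right
    refine ⟨?_, ?_, ?_, ?_⟩
    · linear_combination huv
    · ring
    · ring
    · linear_combination huv
  · right; refine ⟨?_, ?_, ?_, ?_⟩ <;> ring
  · left; refine ⟨?_, ?_, ?_, ?_⟩ <;> ring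
  · left
    refine ⟨?_, ?_, ?_, ?_⟩ <;> ring
  · left; refine ⟨?_, ?_, ?_, ?_⟩ <;> ring
  · right
    refine ⟨?_, ?_, ?_, ?_⟩
    · ring
    · linear_combination s * huv
    · linear_combination (-s) * huv
    · ring

theorem cond_all [Fintype F] (h3 : 3 ≤ Fintype.card F) (hn : ¬ CA PSL(2, F))
    (h : ∀ H : Subgroup PSL(2, F), H ≠ ⊤ → CA H) : QL (Fintype.card F) := by
  have h2 : (2 : F) ≠ 0 := fun e => hn (ca_psl_even e)
  have ho := odd_card_of_two_ne_zero h2
  have h5 : 5 < Fintype.card F := by
    by_contra hc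
    exact hn (ca_psl_small (by omega))
  refine cond ?_ h5 h
  by_contra hc
  obtain ⟨H, h1, h1'⟩ := s4_psl h2 h5 (FiniteField.isSquare_two_iff.2 (by omega))
  exact h1' (h H h1)

theorem cond_all' {G : Type*} [Group G] [Fintype F] (e : G ≃* PSL(2, F)) (h3 : 3 ≤ Fintype.card F)
    (hn : ¬ CA G) (h : ∀ H : Subgroup G, H ≠ ⊤ → CA H) : QL (Fintype.card F) := by
  refine cond_all h3 (fun hc => hn (hc.of_equiv e)) fun H hH => ?_
  refine (h (H.map e.symm.toMonoidHom) fun ht => hH ?_).of_equiv
    (H.equivMapOfInjective _ e.symm.injective)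
  rw [← comap_map_eq_self_of_injective (f := e.symm.toMonoidHom) e.symm.injective H, ht, comap_top]

end H8.CA
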