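import Cfsg.Agent.H8.Jan2
import Cfsg.Agent.H8.Idx
import Cfsg.Agent.H3.Misc
import Cfsg.Agent.H3.ZJ
import Cfsg.Agent.H1.HallTop
import Cfsg.Agent.S0205

/-! Janko's solvability criterion with a coprime operator group. -/

set_option linter.unusedSectionVars false

namespace H8

open Subgroup Cfsg
open scoped Pointwise commutatorElement

universe u v

local notation:max "𝒩 " x:max => Subgroup.normalizer (SetLike.coe (x : Subgroup _))
local notation:max "𝒞 " x:max => Subgroup.centralizer (SetLike.coe (x : Subgroup _))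

/-- An invariant Sylow subgroup for the joint action of `M` and `A`. -/
theorem exists_sylowOf_inv {G : Type u} [Group G] [Finite G] {A : Type v} [Group A] [Finite A]
    {φ : A →* MulAut G} {M K : Subgroup G} (hM : H6.AInv φ M) (hK : H6.AInv φ K)
    (hMK : M ≤ 𝒩 K) (h1 : (Nat.card M).Coprime (Nat.card K))
    (h2 : (Nat.card A).Coprime (Nat.card K)) (hMs : Group.IsSolvable M)
    (hAs : Group.IsSolvable A) (q : ℕ) [Fact q.Prime] :
    ∃ Q : Subgroup G, Q ≤ K ∧ IsPGroup q Q ∧ ¬ q ∣ Q.relIndex K ∧ M ≤ 𝒩 Q ∧ H6.AInv φ Q := by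
  have hn : sdR φ ⊤ ≤ 𝒩 (sdL φ M) := sdR_le_normalizer φ fun a _ => hM a
  obtain ⟨Q', hQ', hn'⟩ := H1.exists_invariant_sylowOf q (A := sdR φ ⊤ ⊔ sdL φ M) (K := sdL φ K)
    (sup_le (sdR_le_normalizer φ fun a _ => hK a) (H1.le_normalizer_map hMK _))
    (by
      refine Nat.Coprime.coprime_dvd_left (H1.card_sup_dvd hn) ?_
      rw [card_sdL, card_sdL, card_sdR, card_top]
      exact Nat.Coprime.mul_left h2 h1)
    (Or.inl (H1.isSolvable_sup (H1.isSolvable_map inferInstance _) (H1.isSolvable_map hMs _) hn))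
  obtain ⟨Q, rfl⟩ := exists_sdL_eq φ (hQ'.1.trans (map_mono le_top))
  refine ⟨Q, (sdL_le_iff φ).1 hQ'.1, ?_, fun h => ?_, fun m hm => ?_, fun a x hx => ?_⟩
  · exact (H1.isPiNat_card_singleton_iff.mp hQ'.2.1).of_equiv (sdLEquiv φ Q).symm
  · have := H1.IsPiHallOf.isPiNat_relIndex hQ' q Fact.out
      (by rwa [relIndex_map_map_of_injective _ _ SemidirectProduct.inl_injective])
    exact this rfl
  · refine mem_normalizer_fintype fun x hx => ?_
    rw [SetLike.mem_coe, ← inl_mem_sdL φ, map_mul, map_mul, map_inv]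
    exact H1.conj_mem_of_mem_normalizer (hn' (mem_sup_right ⟨m, hm, rfl⟩)) ⟨x, hx, rfl⟩
  · exact apply_mem_of_sdR_le_normalizer φ (le_sup_left.trans hn') (mem_top a) hx

/-- Commutators of `2`-elements commute with `2`-elements. -/
def Cl2 (M : Type u) [Group M] : Prop :=
  ∀ a b c : M, (∃ k, orderOf a = 2 ^ k) → (∃ k, orderOf b = 2 ^ k) → (∃ k, orderOf c = 2 ^ k) →
    c * ⁅a, b⁆ = ⁅a, b⁆ * c

theorem Cl2.map {M B : Type u} [Group M] [Group B] [Finite M] (h : Cl2 M) (f : M →* B)
    (hf : Function.Surjective f) : Cl2 B := by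
  rintro a b c ⟨i, hi⟩ ⟨j, hj⟩ ⟨k, hk⟩
  obtain ⟨x, rfl, hx⟩ := exists_lift_pElt f hf hi
  obtain ⟨y, rfl, hy⟩ := exists_lift_pElt f hf hj
  obtain ⟨z, rfl, hz⟩ := exists_lift_pElt f hf hk
  rw [← map_commutatorElement, ← map_mul, ← map_mul, h x y z hx hy hz]

theorem janko_aux {A : Type v} [Group A] [Finite A] (hA : Odd (Nat.card A)) (n : ℕ) :
    ∀ (G : Type u) [Group G] [Finite G] (φ : A →* MulAut G) (M : Subgroup G), Nat.card G = n →
      (Nat.card A).Coprime (Nat.card G) → M ≠ ⊤ → H6.AInv φ M →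
      (∀ H : Subgroup G, M ≤ H → H ≠ ⊤ → H6.AInv φ H → H = M) → Group.IsNilpotent M → Cl2 M →
      Group.IsSolvable G := by
  induction n using Nat.strong_induction_on with
  | _ n ih =>
  intro G _ _ φ M hn hcop hM hMi hmax hnil h2
  have hAs : Group.IsSolvable A := Cfsg.Agent.S0205.result hA
  by_cases hb : M.normalCore = ⊥
  swap
  · have hs := QuotientGroup.mk'_surjective M.normalCore
    have hk : ∀ H : Subgroup G, M ≤ H → (H.map (QuotientGroup.mk' M.normalCore)).comap
        (QuotientGroup.mk' M.normalCore) = H := fun H hH => by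
      rw [comap_map_eq, QuotientGroup.ker_mk', sup_eq_left]; exact (normalCore_le M).trans hH
    refine H1.isSolvable_of_normal_quotient M.normalCore
      (H1.isSolvable_of_le (K := M) inferInstance (normalCore_le M))
      (ih _ (hn ▸ H1.card_quotient_lt hb) _ (H7.quotAut φ _ hMi.normalCore)
        (M.map (QuotientGroup.mk' _)) rfl (hcop.coprime_dvd_right (H1.card_quotient_dvd _))
        (fun h => hM ?_) (hMi.normalCore.map_mk hMi) (fun H h1 h3 h4 => ?_)
        (H1.isNilpotent_map hnil _) (h2.map _ ((QuotientGroup.mk' _).subgroupMap_surjective M)))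
    · rw [← hk M le_rfl, h, comap_top]
    · have h6 := hmax _ (map_le_iff_le_comap.1 h1) (fun h5 => h3 (by
        rw [← map_comap_eq_self_of_surjective hs H, h5, map_top_of_surjective _ hs]))
        (hMi.normalCore.comap_mk h4)
      exact (map_comap_eq_self_of_surjective hs H).symm.trans (congrArg _ h6)
  have hX : ∀ X : Subgroup G, X ≤ M → X ≠ ⊥ → H6.AInv φ X → M ≤ 𝒩 X → 𝒩 X = M := by
    intro X h1 h2 h3 h4
    refine hmax _ h4 (fun h5 => h2 ?_) h3.normalizer
    have h6 := normalizer_eq_top_iff.mp h5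
    exact le_bot_iff.mp (hb ▸ normal_le_normalCore.mpr h1)
  have hS : ∀ q : ℕ, ∀ [Fact q.Prime], q ∣ Nat.card M → ∃ P : Sylow q G, (P : Subgroup G) ≠ ⊥ ∧
      𝒩 (P : Subgroup G) = M ∧ H6.AInv φ (P : Subgroup G) := by
    intro q _ hq
    let T : Sylow q M := default
    have hTn : (T : Subgroup M).Normal := inferInstance
    haveI := T.characteristic_of_normal hTn
    have hTi := hMi.map_char (T : Subgroup M)
    have hTb : (T : Subgroup M).map M.subtype ≠ ⊥ := by
      rw [Ne, Subgroup.map_eq_bot_iff_of_injective _ M.subtype_injective]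
      exact T.ne_bot_of_dvd_card hq
    have hN := hX _ (map_subtype_le _) hTb hTi (H1.le_normalizer_map_subtype_iff.mpr hTn)
    obtain ⟨P, hP⟩ := (T.2.map M.subtype).exists_le_sylow
    have hTP : (T : Subgroup M).map M.subtype = P := by
      by_contra hne
      have h1 := H12.lt_inf_normalizer P.2 (lt_of_le_of_ne hP hne)
      rw [hN] at h1
      exact h1.ne' ((H12.sylIn_map_subtype T).eq_of_le (P.2.to_le inf_le_left) inf_le_right h1.le)
    exact ⟨P, hTP ▸ hTb, hTP ▸ hN, hTP ▸ hTi⟩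
  have hH : (Nat.card M).Coprime M.index := by
    refine Nat.coprime_of_dvd fun q hq h1 h2 => ?_
    have := Fact.mk hq
    obtain ⟨P, -, hP, -⟩ := hS q h1
    exact P.not_dvd_index (h2.trans (index_dvd_of_le (hP ▸ le_normalizer)))
  have hnpc : ∀ q : ℕ, q.Prime → q ∣ Nat.card M → HasNormalPComplement q G := by
    intro q hq hqM
    have := Fact.mk hq
    obtain ⟨P, hPb, hP, hPi⟩ := hS q hqM
    have hPM : (P : Subgroup G) ≤ M := hP ▸ le_normalizer
    by_cases hq2 : q = 2
    · subst hq2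
      have hdec : ∀ m ∈ M, ∃ u ∈ (P : Subgroup G), ∃ c ∈ 𝒞 (P : Subgroup G), u * c = m := by
        intro m hm
        obtain ⟨a, b, ⟨k, hk⟩, hb', hab⟩ :=
          H3.exists_pPart_mul_pPrimePart (p := 2) m (orderOf_pos m).ne'
        refine ⟨m ^ a, mem_sylow_of_mem_normalizer P (hP ▸ pow_mem hm a)
          (isPGroup_zpowers_of_orderOf hk), m ^ b, ?_, hab⟩
        refine H1.le_centralizer_of_coprime_of_isNilpotent hnil (zpowers_le.2 (pow_mem hm b)) hPM
          ?_ (mem_zpowers _)
        rw [Nat.card_zpowers]; exact (H1.IsPGroup.coprime_card P.isPGroup' hb').symm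
      have hMX : ∀ X : Subgroup G, X ≤ P → (P : Subgroup G) ≤ 𝒩 X → M ≤ 𝒩 X := by
        intro X h1 h3 m hm
        obtain ⟨u, hu, c, hc, rfl⟩ := hdec m hm
        exact mul_mem (h3 hu) (cent_le_norm h1 hc)
      have ho : ∀ x (hx : x ∈ (P : Subgroup G)), ∃ k, orderOf (⟨x, hPM hx⟩ : M) = 2 ^ k :=
        fun x hx => by rw [orderOf_mk]; exact exists_orderOf_eq_of_mem P.isPGroup' hx
      have hJ : JH P M := by
        refine ⟨hP, (hX _ (inf_le_left.trans hPM) ?_ (hPi.inf hPi.centralizer) ?_).le, hdec,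
          fun a ha b hb c hc => ?_⟩
        · haveI := P.isPGroup'.isNilpotent
          haveI : Nontrivial (P : Subgroup G) := (nontrivial_iff_ne_bot _).2 hPb
          obtain ⟨⟨z, hz⟩, hz1⟩ := ne_bot_iff_exists_ne_one.1
            ((nontrivial_iff_ne_bot _).1 P.isPGroup'.center_nontrivial)
          intro h1
          have : (z : G) ∈ (P : Subgroup G) ⊓ 𝒞 (P : Subgroup G) := mem_inf.2 ⟨z.2, fun y hy =>
            congrArg Subtype.val (mem_center_iff.1 hz ⟨y, hy⟩)⟩
          rw [h1, mem_bot] at this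
          exact hz1 (Subtype.ext (Subtype.ext this))
        · rw [← hP]
          exact H1.le_normalizer_inf le_rfl (H1.normalizer_le_normalizer_centralizer _)
        · exact congrArg Subtype.val (h2 _ _ _ (ho a ha) (ho b hb) (ho c hc))
      exact hJ.npc hA hPi hMi
        (fun X h1 h3 h4 h5 => (hX X (h1.trans hPM) h3 h4 (hMX X h1 h5)).le)
        (H3.hasNormalPComplement_of_isNilpotent _)
    · refine H3.glauberman_thompson hq2 (Or.inr rfl) P ?_
      rw [hX _ ((H4.centerThompsonOf_le _).trans hPM) (H4.centerThompsonOf_ne_bot P.isPGroup' hPb)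
        (hPi.zj _) (hP ▸ H4.normalizer_le_normalizer_centerThompsonOf _)]
      exact H3.hasNormalPComplement_of_isNilpotent _
  obtain ⟨K, hK, hKM⟩ := H3.exists_normal_complement_of_forall_prime hH hnpc
  have hq : Group.IsSolvable (G ⧸ K) :=
    (H1.isSolvable_quotient_iff_of_isComplement' hKM).mpr inferInstance
  refine H1.isSolvable_of_normal_quotient K ?_ hq
  by_cases hb : K = ⊥
  · rw [hb]; infer_instance
  obtain ⟨q, hq, hqK⟩ := H1.exists_prime_dvd_card hb
  have := Fact.mk hq
  have hc : (Nat.card M).Coprime (Nat.card K) := by rwa [← hKM.index_eq_card]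
  have hKi : H6.AInv φ K := H6.ainv_of_map_le fun a => H1.le_of_coprime_index (by
    rw [card_map_of_injective (φ a).injective, hKM.symm.index_eq_card]; exact hc.symm)
  obtain ⟨Q, hQK, hQq, hQi, hMQ, hQA⟩ := exists_sylowOf_inv hMi hKi le_normalizer_of_normal hc
    (hcop.coprime_dvd_right (card_subgroup_dvd_card K)) inferInstance hAs q
  have hQb : Q ≠ ⊥ := by
    rintro rfl
    exact hQi (by rwa [relIndex_bot_left])
  have hd : K ⊓ M = ⊥ := disjoint_iff.mp hKM.disjoint
  have htop : Q ⊔ M = ⊤ := by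
    by_contra h1
    have he := hmax _ le_sup_right h1 (hQA.sup hMi)
    refine hQb ?_
    rw [eq_bot_iff, ← hd]
    exact le_inf hQK (he ▸ le_sup_left)
  have hKQ := H1.sup_inf_assoc_of_le_normalizer (B := M) hQK (Or.inr hMQ)
  rw [htop, top_inf_eq, inf_comm, hd, sup_bot_eq] at hKQ
  rw [hKQ]
  have := hQq.isNilpotent
  infer_instance

theorem cl2_of_class {M : Type u} [Group M] [Finite M] [Group.IsNilpotent M] (S : Sylow 2 M)
    (h : Group.nilpotencyClass (S : Subgroup M) ≤ 2) : Cl2 M := by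
  haveI := S.isPGroup'.isNilpotent
  have hn : (S : Subgroup M).Normal := inferInstance
  have hm : ∀ a : M, (∃ k, orderOf a = 2 ^ k) → a ∈ (S : Subgroup M) := fun a ⟨k, hk⟩ =>
    mem_sylow_of_mem_normalizer S (by rw [normalizer_eq_top]; exact mem_top a)
      (isPGroup_zpowers_of_orderOf hk)
  intro a b c ha hb hc
  have h1 := Subgroup.upperCentralSeries_eq_top_iff_nilpotencyClass_le.2 h
  have h2 : (⟨a, hm a ha⟩ : (S : Subgroup M)) ∈ Subgroup.upperCentralSeries (S : Subgroup M) 2 :=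
    h1 ▸ mem_top _
  have h3 := Subgroup.mem_upperCentralSeries_succ_iff.1 h2 ⟨b, hm b hb⟩
  rw [Subgroup.upperCentralSeries_one, mem_center_iff] at h3
  exact congrArg Subtype.val (h3 ⟨c, hm c hc⟩)

end H8
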