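import Cfsg.Agent.H8.Idx
import Cfsg.Agent.H8.Elt
import Cfsg.Agent.H8.Cls
import Cfsg.Agent.H1.Super
import Cfsg.Agent.S0111
import Cfsg.Agent.S0200

/-! Consequences of the odd order theorem (taken as the hypothesis `FTH`). -/

namespace H8

open Subgroup Cfsg
open scoped Pointwise

universe u

/-- The odd order theorem in universe `u`. -/
def FTH : Prop := ∀ (G : Type u) [Group G] [Finite G], Odd (Nat.card G) → Group.IsSolvable G

theorem isSolvable_of_simple_cases (P : ∀ (X : Type u) [Group X] [Finite X], Prop)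
    (hN : ∀ (X : Type u) [Group X] [Finite X] (N : Subgroup X) [N.Normal], P X → P N)
    (hQ : ∀ (X : Type u) [Group X] [Finite X] (N : Subgroup X) [N.Normal], P X → P (X ⧸ N))
    (hS : ∀ (X : Type u) [Group X] [Finite X] [IsSimpleGroup X], P X → Group.IsSolvable X)
    (n : ℕ) : ∀ (X : Type u) [Group X] [Finite X], Nat.card X = n → P X → Group.IsSolvable X := by
  induction n using Nat.strong_induction_on with
  | _ n ih =>
  intro X _ _ hn hP
  rcases subsingleton_or_nontrivial X with h | h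
  · infer_instance
  by_cases hs : ∀ N : Subgroup X, N.Normal → N = ⊥ ∨ N = ⊤
  · haveI : IsSimpleGroup X := ⟨hs⟩
    exact hS X hP
  push Not at hs
  obtain ⟨N, hNn, h0, h1⟩ := hs
  refine H1.isSolvable_of_normal_quotient N
    (ih _ (hn ▸ H1.card_lt_card_of_ne_top h1) N rfl (hN X N hP)) (ih _ ?_ _ rfl (hQ X N hP))
  rw [← hn, card_eq_card_quotient_mul_card_subgroup N]
  exact lt_mul_of_one_lt_right Nat.card_pos ((one_lt_card_iff_ne_bot _).2 h0)

variable {G : Type u} [Group G] [Finite G]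

theorem isSolvable_of_simple_of_index_two [IsSimpleGroup G] {M : Subgroup G} (hM : M.index = 2) :
    Group.IsSolvable G := by
  haveI := normal_of_index_eq_two hM
  rcases IsSimpleGroup.eq_bot_or_eq_top_of_normal M inferInstance with h | h
  · rw [h, index_bot] at hM
    haveI : IsCyclic G := isCyclic_of_prime_card (p := 2) hM
    exact H1.isSolvable_of_comm' inferInstance
  · simp [h] at hM

theorem isSolvable_of_simple_of_center_ne_bot [IsSimpleGroup G] {t : G} (ht : t ≠ 1)
    (h : t ∈ center G) : Group.IsSolvable G := by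
  rcases IsSimpleGroup.eq_bot_or_eq_top_of_normal (center G) inferInstance with h1 | h1
  · rw [h1] at h; exact absurd h ht
  · exact H1.isSolvable_of_comm' ⟨⟨fun a b => (mem_center_iff.1 (h1 ▸ mem_top b) a)⟩⟩

theorem exists_sylow_relIndex_dvd {p : ℕ} [hp : Fact p.Prime] (C : Subgroup G) :
    ∃ (Q : Sylow p G) (M : Subgroup G), M ≤ Q ∧ M ≤ C ∧ ∃ k, M.relIndex Q = p ^ k ∧ p ^ k ∣ C.index := by
  obtain ⟨S⟩ : Nonempty (Sylow p C) := inferInstance
  obtain ⟨Q, hQ⟩ := (S.isPGroup'.map C.subtype).exists_le_sylow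
  obtain ⟨k, hk⟩ := Q.isPGroup'.index (((S : Subgroup C).map C.subtype).subgroupOf Q)
  refine ⟨Q, _, hQ, map_subtype_le _, k, hk, ?_⟩
  have h1 : p ^ k ∣ ((S : Subgroup C).map C.subtype).index := hk ▸ relIndex_dvd_index_of_le hQ
  rw [index_map_subtype] at h1
  exact (((Nat.Prime.coprime_iff_not_dvd hp.out).2 S.not_dvd_index).pow_left k).dvd_of_dvd_mul_left h1

theorem isSolvable_of_not_four_dvd (hFT : FTH.{u})
    (h : ∀ x : G, ¬ 4 ∣ (centralizer ({x} : Set G)).index) : Group.IsSolvable G := by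
  refine isSolvable_of_simple_cases
    (fun X _ _ => ∀ x : X, ¬ 4 ∣ (centralizer ({x} : Set X)).index)
    (fun X _ _ N _ h x hx => h x (hx.trans (index_centralizer_coe_dvd N x)))
    (fun X _ _ N _ h x hx => by
      obtain ⟨x, rfl⟩ := QuotientGroup.mk_surjective x
      exact h x (hx.trans (index_centralizer_mk_dvd N x)))
    (fun X _ _ _ h => ?_) _ G rfl h
  by_cases ho : Odd (Nat.card X)
  · exact hFT X ho
  obtain ⟨t, ht⟩ := exists_prime_orderOf_dvd_card' (G := X) 2
    (even_iff_two_dvd.1 (Nat.not_odd_iff_even.1 ho))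
  by_contra hns
  refine hns (isSolvable_of_simple_of_center_ne_bot (t := t) (fun e => by simp [e] at ht) ?_)
  rw [← index_centralizer_eq_one_iff, index_eq_one]
  refine eq_top_of_forall_conj_mem fun x => ?_
  suffices ∃ g : X, g * t * g⁻¹ ∈ centralizer ({x} : Set X) by
    obtain ⟨g, hg⟩ := this
    refine ⟨g, mem_centralizer_singleton_iff.2 ?_⟩
    have := mem_centralizer_singleton_iff.1 hg
    calc g⁻¹ * x * g * t = g⁻¹ * (x * (g * t * g⁻¹)) * g := by group
      _ = t * (g⁻¹ * x * g) := by rw [← this]; group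
  obtain ⟨Q, M, h1, h2, k, h3, h4⟩ := exists_sylow_relIndex_dvd (p := 2) (centralizer ({x} : Set X))
  obtain ⟨T, hT⟩ := (isPGroup_zpowers_of_orderOf (k := 1) (by simpa using ht)).exists_le_sylow
  obtain ⟨g, rfl⟩ := MulAction.exists_smul_eq X T Q
  have h5 : g * t * g⁻¹ ∈ ((g • T : Sylow 2 X) : Subgroup X) :=
    smul_mem_pointwise_smul t (MulAut.conj g) _ (hT (mem_zpowers t))
  by_cases h6 : g * t * g⁻¹ ∈ M
  · exact ⟨g, h2 h6⟩
  have h7 : k = 1 := by
    rcases k with _ | _ | k
    · exact absurd (relIndex_eq_one.1 h3 h5) h6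
    · rfl
    · exact absurd ((pow_dvd_pow 2 (show 2 ≤ k + 1 + 1 by omega)).trans h4) (h x)
  subst h7
  rcases Cfsg.Agent.S0111.result _ M h1 h3 _ (((MulAut.conj g).orderOf_eq t).trans ht) h5 h6 with
    ⟨N, -, h8, -⟩ | ⟨k, hk⟩
  · exact absurd (isSolvable_of_simple_of_index_two h8) hns
  · exact ⟨k * g, h2 (by simpa [mul_assoc] using hk)⟩

theorem isSolvable_of_sylow_two_normal (hFT : FTH.{u}) (P : Sylow 2 G) [(P : Subgroup G).Normal] :
    Group.IsSolvable G := by
  have := P.isPGroup'.isNilpotent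
  refine H1.isSolvable_of_normal_quotient (P : Subgroup G) inferInstance (hFT _ ?_)
  rw [← Nat.not_even_iff_odd, even_iff_two_dvd]
  exact P.not_dvd_index

/-- A group whose Sylow `2`-subgroup is not normal has a real element of odd prime order. -/
theorem exists_real_prime_of_not_normal (P : Sylow 2 G) (h : ¬ (P : Subgroup G).Normal) :
    ∃ x g : G, (orderOf x).Prime ∧ orderOf x ≠ 2 ∧ g * x * g⁻¹ = x⁻¹ := by
  set O := pCore 2 G with hO
  have h1 : 2 ∣ Nat.card (G ⧸ O) := by
    by_contra h2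
    apply h
    have : (P : Subgroup G) = O := (P.is_maximal' (P.isPGroup'.to_sup_of_normal_right
      (H1.isPGroup_pCore 2)) le_sup_left).symm.trans (by
        rw [sup_eq_right]
        intro x hx
        obtain ⟨k, hk⟩ := exists_pow_eq_one_of_mem P.isPGroup' hx
        rw [← QuotientGroup.eq_one_iff, ← orderOf_eq_one_iff]
        refine Nat.eq_one_of_dvd_coprimes
          (((Nat.Prime.coprime_iff_not_dvd Nat.prime_two).2 h2).pow_left k) ?_ (orderOf_dvd_natCard _)
        rw [orderOf_dvd_iff_pow_eq_one, ← QuotientGroup.mk_pow, hk, QuotientGroup.mk_one])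
    rw [this]; infer_instance
  obtain ⟨t, ht⟩ := exists_prime_orderOf_dvd_card' 2 h1
  obtain ⟨y, hy1, hyo, hy⟩ := Cfsg.Agent.S0200.result t ht fun N hN hN2 htN => by
    have := H1.le_pCore hN2 htN
    rw [H1.pCore_quotient_pCore, mem_bot] at this
    simp [this] at ht
  obtain ⟨r, hr, hrd⟩ := Nat.exists_prime_and_dvd (fun e => hy1 (orderOf_eq_one_iff.1 e))
  haveI := Fact.mk hr
  have hr2 : r ≠ 2 := by
    rintro rfl
    exact (Nat.not_even_iff_odd.2 hyo) (even_iff_two_dvd.2 hrd)
  set z := y ^ (orderOf y / r) with hz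
  have hzo : orderOf z = r := orderOf_pow_orderOf_div (orderOf_pos y).ne' hrd
  have hzt : t * z * t⁻¹ = z⁻¹ := by rw [hz, ← conj_pow, hy, inv_pow]
  obtain ⟨x, hx, j, hj⟩ := exists_lift_pElt (QuotientGroup.mk' O) (QuotientGroup.mk'_surjective O)
    (q := r) (k := 1) (y := z) (by simpa using hzo)
  have hcop : (Nat.card (zpowers x)).Coprime (Nat.card O) := by
    obtain ⟨m, hm⟩ := IsPGroup.iff_card.1 (H1.isPGroup_pCore (G := G) 2)
    rw [Nat.card_zpowers, hj, hm]
    exact Nat.Coprime.pow _ _ ((Nat.coprime_primes hr Nat.prime_two).2 hr2)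
  have h2 := H1.map_normalizer_mk' O hcop (Or.inl (H1.isSolvable_of_comm' inferInstance))
  have h3 : t ∈ normalizer ((zpowers x).map (QuotientGroup.mk' O) : Set (G ⧸ O)) := by
    rw [MonoidHom.map_zpowers, hx]
    refine mem_normalizer_fintype ?_
    rintro _ ⟨k, rfl⟩
    rw [← conj_zpow, hzt]
    exact zpow_mem (inv_mem (mem_zpowers z)) k
  rw [← h2] at h3
  obtain ⟨g, hg, rfl⟩ := h3
  have h4 : g * x * g⁻¹ * x ∈ zpowers x ⊓ O := by
    refine mem_inf.2 ⟨mul_mem ((mem_normalizer_iff.1 hg x).1 (mem_zpowers x)) (mem_zpowers x), ?_⟩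
    rw [← QuotientGroup.eq_one_iff]
    change QuotientGroup.mk' O _ = 1
    rw [map_mul, map_mul, map_mul, map_inv, hx, hzt, inv_mul_cancel]
  rw [inf_eq_bot_of_coprime hcop, mem_bot, mul_eq_one_iff_eq_inv] at h4
  have h5 : r ∣ orderOf x := by rw [← hzo, ← hx]; exact orderOf_map_dvd _ _
  have h6 := orderOf_pow_orderOf_div (orderOf_pos x).ne' h5
  exact ⟨x ^ (orderOf x / r), g, by rwa [h6], by rwa [h6], by rw [← conj_pow, h4, inv_pow]⟩

omit [Finite G] in
theorem index_centralizer_of_invert {x t : G} (hx : x ≠ x⁻¹) (ht : t * x * t⁻¹ = x⁻¹)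
    (h : zpowers x ⊔ zpowers t = ⊤) : (centralizer ({x} : Set G)).index = 2 := by
  have h1 : ∀ g : G, g * x * g⁻¹ = x ∨ g * x * g⁻¹ = x⁻¹ := by
    let K : Subgroup G :=
      { carrier := {g | g * x * g⁻¹ = x ∨ g * x * g⁻¹ = x⁻¹}
        one_mem' := Or.inl (by simp)
        mul_mem' := fun {a b} ha hb => by
          have e : a * b * x * (a * b)⁻¹ = a * (b * x * b⁻¹) * a⁻¹ := by group
          have e' : a * x⁻¹ * a⁻¹ = (a * x * a⁻¹)⁻¹ := by group
          simp only [Set.mem_setOf_eq] at *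
          rw [e]
          rcases hb with hb | hb <;> rcases ha with ha | ha <;> simp [hb, ha, e']
        inv_mem' := fun {a} ha => by
          simp only [Set.mem_setOf_eq] at *
          rcases ha with ha | ha
          · left; rw [← ha]; nth_rewrite 2 [ha]; group
          · right
            have : x = (a * x * a⁻¹)⁻¹ := by rw [ha, inv_inv]
            nth_rewrite 1 [this]; group }
    have : (⊤ : Subgroup G) ≤ K := h ▸ sup_le (zpowers_le.2 (Or.inl (by simp)))
      (zpowers_le.2 (Or.inr ht))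
    exact fun g => this (mem_top g)
  rw [index_eq_two_iff]
  refine ⟨t, fun g => ?_⟩
  simp only [mem_centralizer_singleton_iff']
  have e : g * t * x * (g * t)⁻¹ = (g * x * g⁻¹)⁻¹ := by
    calc _ = g * (t * x * t⁻¹) * g⁻¹ := by group
      _ = _ := by rw [ht]; group
  rw [e]
  rcases h1 g with h2 | h2 <;> rw [h2]
  · exact Or.inr ⟨rfl, hx.symm⟩
  · exact Or.inl ⟨inv_inv x, hx.symm⟩

theorem isSolvable_of_subgroups_complete (hFT : FTH.{u})
    (h : ∀ (H : Subgroup G) (x y : H), 1 < (centralizer ({x} : Set H)).index →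
      1 < (centralizer ({y} : Set H)).index →
      ¬ ((centralizer ({x} : Set H)).index).Coprime (centralizer ({y} : Set H)).index) :
    Group.IsSolvable G := by
  obtain ⟨P⟩ : Nonempty (Sylow 2 G) := inferInstance
  by_cases hP : (P : Subgroup G).Normal
  · exact isSolvable_of_sylow_two_normal hFT P
  obtain ⟨x, t, hx, hx2, ht⟩ := exists_real_prime_of_not_normal P hP
  have hne : x ≠ x⁻¹ := by
    intro e
    have : orderOf x ∣ 2 := by rw [orderOf_dvd_iff_pow_eq_one, sq]; exact mul_eq_one_iff_eq_inv.2 e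
    exact hx2 ((Nat.prime_dvd_prime_iff_eq hx Nat.prime_two).1 this)
  set H := zpowers x ⊔ zpowers t with hH
  let x' : H := ⟨x, mem_sup_left (mem_zpowers x)⟩
  let t' : H := ⟨t, mem_sup_right (mem_zpowers t)⟩
  have htop : zpowers x' ⊔ zpowers t' = ⊤ := by
    apply map_injective H.subtype_injective
    rw [Subgroup.map_sup, MonoidHom.map_zpowers, MonoidHom.map_zpowers, ← MonoidHom.range_eq_map,
      range_subtype]
    rfl
  have ht' : t' * x' * t'⁻¹ = x'⁻¹ := Subtype.ext ht
  have h1 := index_centralizer_of_invert (fun e => hne (congrArg Subtype.val e)) ht' htop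
  haveI : (zpowers x').Normal := by
    rw [← normalizer_eq_top_iff, eq_top_iff, ← htop]
    refine sup_le le_normalizer (zpowers_le.2 (mem_normalizer_fintype ?_))
    rintro _ ⟨k, rfl⟩
    rw [← conj_zpow, ht']
    exact zpow_mem (inv_mem (mem_zpowers x')) k
  have h2 : (centralizer ({t'} : Set H)).index ∣ orderOf x := by
    have h3 : centralizer ({t'} : Set H) ⊔ zpowers x' = ⊤ := by
      rw [eq_top_iff, ← htop, sup_comm]
      exact sup_le_sup_right (zpowers_le.2 (mem_centralizer_singleton_iff.2 rfl)) _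
    rw [← relIndex_top_right, ← h3, relIndex_sup_normal_eq]
    exact (index_dvd_card _).trans (by rw [Nat.card_zpowers, ← orderOf_coe])
  have h3 : (centralizer ({t'} : Set H)).index ≠ 1 := by
    rw [Ne, index_centralizer_eq_one_iff, mem_center_iff]
    intro h4
    rw [← h4 x', mul_inv_cancel_right] at ht'
    exact hne (congrArg Subtype.val ht')
  have h4 := ((Nat.dvd_prime hx).1 h2).resolve_left h3
  exact absurd (by rw [h1, h4]; exact (Nat.coprime_primes Nat.prime_two hx).2 hx2.symm)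
    (h H x' t' (by omega) (h4 ▸ hx.one_lt))

end H8
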