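import Cfsg.Agent.H6.SE
import Cfsg.Agent.H17.Sz15
import Cfsg.Agent.Lead.GW1

/-! Groups with an abelian subgroup of even order which is the centralizer of each of its
nonidentity elements. -/

set_option autoImplicit false
set_option linter.unusedSectionVars false

namespace H8
open Subgroup H6 MulAction
open scoped MatrixGroups

variable {G : Type*} [Group G]

/-- `A` is the centralizer of each of its nonidentity elements, has two involutions and is not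
normal -/
structure CAH (A : Subgroup G) : Prop where
  comm : ∀ a ∈ A, ∀ b ∈ A, Commute a b
  cent : ∀ a ∈ A, a ≠ 1 → ∀ c, Commute c a → c ∈ A
  nn : ¬ A.Normal
  two : ∃ s ∈ A, ∃ t ∈ A, orderOf s = 2 ∧ orderOf t = 2 ∧ s ≠ t

namespace CAH

variable [Finite G] {A : Subgroup G} (h : CAH A)
include h

local notation "H" => normalizer (A : Set G)
local notation "D[" u "]" =>
  normalizer (A : Set G) ⊓ Subgroup.map (MulEquiv.toMonoidHom (MulAut.conj u))
    (normalizer (A : Set G))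

omit h [Finite G] in
theorem conj_mem {g t : G} (hg : g ∈ H) (ht : t ∈ A) : g * t * g⁻¹ ∈ A :=
  (mem_normalizer_iff.1 hg t).1 ht

theorem ti {g a : G} (ha : a ∈ A) (h1 : a ≠ 1) (hg : g * a * g⁻¹ ∈ A) : g ∈ H := by
  refine GW.mem_NS_of fun b hb => h.cent _ hg (by simpa using h1) _ ?_
  have := (h.comm b hb a ha).map (MulAut.conj g)
  simpa using this

theorem mem_of_ord2 {t : G} (ht : orderOf t = 2) (hH : t ∈ H) : t ∈ A := by
  obtain ⟨s, hs, -, -, os, -⟩ := h.two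
  have h1 := conj_mem hH hs
  by_cases h2 : s * (t * s * t⁻¹) = 1
  · refine h.cent s hs (ord2_ne_one os) t (conj_eq_iff_commute.1 ?_)
    exact (eq_inv_of_mul_eq_one_right h2).trans (ord2_inv os)
  · refine h.cent _ (A.mul_mem hs h1) h2 t (conj_eq_iff_commute.1 ?_)
    calc t * (s * (t * s * t⁻¹)) * t⁻¹ = (t * s * t⁻¹) * ((t * t) * s * (t * t)⁻¹) := by group
      _ = _ := by rw [ord2_mul_self ht, ← (h.comm _ h1 s hs).eq]; simp

/-- `A` is semiregular on the cosets other than `H`. -/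
theorem semireg {g s : G} (hgH : g ∉ H) (hs : s ∈ A) (hg : g⁻¹ * s * g ∈ H) : s = 1 := by
  by_contra h1
  obtain ⟨p, hp, hd⟩ := Nat.exists_prime_and_dvd (fun e => h1 (orderOf_eq_one_iff.1 e))
  have h0 : orderOf s ≠ 0 := (orderOf_pos s).ne'
  set a := s ^ (orderOf s / p) with ha
  have oa : orderOf a = p := orderOf_pow_orderOf_div h0 hd
  have haA : a ∈ A := A.pow_mem hs _
  have hb : g⁻¹ * a * g ∈ H := by
    have := (normalizer (A : Set G)).pow_mem hg (orderOf s / p)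
    rwa [show g⁻¹ * s * g = g⁻¹ * s * g⁻¹⁻¹ by simp, conj_pow, inv_inv] at this
  have ob : orderOf (g⁻¹ * a * g) = p := by
    rw [← oa, ← GW.ord_conj g⁻¹ a, inv_inv]
  have a1 : a ≠ 1 := fun e => hp.ne_one (by rw [← oa, e, orderOf_one])
  have hbA : g⁻¹ * a * g ∉ A := fun e =>
    hgH (by simpa using inv_mem (h.ti (g := g⁻¹) haA a1 (by simpa using e)))
  have key := GW.card_dvd_of_free (zpowers (g⁻¹ * a * g)) ((A : Set G) \ {1})
    (fun x hx b hb' => ⟨conj_mem (zpowers_le.2 hb hx) hb'.1, by simpa using hb'.2⟩)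
    (fun x hx b hb' e => by
      by_contra x1
      have hxA := h.cent b hb'.1 hb'.2 x (conj_eq_iff_commute.1 e)
      haveI : Fact (Nat.card (zpowers (g⁻¹ * a * g))).Prime := by
        rw [Nat.card_zpowers, ob]; exact ⟨hp⟩
      have := mem_zpowers_of_prime_card (p := Nat.card (zpowers (g⁻¹ * a * g))) rfl
        (g := (⟨x, hx⟩ : zpowers (g⁻¹ * a * g))) (g' := ⟨_, mem_zpowers _⟩)
        (fun e => x1 (congrArg Subtype.val e))
      obtain ⟨k, hk⟩ := this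
      have hk' : x ^ k = g⁻¹ * a * g := by simpa using congrArg Subtype.val hk
      exact hbA (hk' ▸ A.zpow_mem hxA k))
  rw [Nat.card_zpowers, ob, Set.ncard_diff_singleton_of_mem A.one_mem] at key
  have h2 : p ∣ (A : Set G).ncard := by
    rw [← oa, ← Nat.card_coe_set_eq]; exact A.orderOf_dvd_natCard haA
  have h3 : 0 < (A : Set G).ncard := (Set.ncard_pos (Set.toFinite _)).2 ⟨1, A.one_mem⟩
  have := (Nat.dvd_sub h2 key)
  rw [show (A : Set G).ncard - ((A : Set G).ncard - 1) = 1 by omega] at this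
  exact hp.one_lt.ne' (Nat.dvd_one.1 this)

theorem se : Cfsg.IsStronglyEmbedded H := by
  refine stronglyEmbedded_iff.2 ⟨fun ht => h.nn (normalizer_eq_top_iff.1 ht), ?_, ?_⟩
  · obtain ⟨s, hs, -, -, os, -⟩ := h.two
    exact ⟨s, le_normalizer hs, os⟩
  · intro g t ht htH hg
    exact h.ti (h.mem_of_ord2 ht htH) (ord2_ne_one ht) (h.mem_of_ord2 (ord2_conj ht g) hg)

theorem eq_one_of_mem {u d : G} (huH : u ∉ H) (hd : d ∈ D[u]) (h2 : d ∈ A) : d = 1 :=
  h.semireg huH h2 (mem_map_conj.1 hd.2)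

theorem eq_one_of_sq {u d : G} (huH : u ∉ H) (hd : d ∈ D[u]) (h2 : d * d = 1) : d = 1 := by
  by_contra h1
  exact h1 (h.eq_one_of_mem huH hd (h.mem_of_ord2 (ord2_of h2 h1) hd.1))

theorem exists_conj_mem {u : G} (hu : orderOf u = 2) : ∃ g, g * u * g⁻¹ ∈ A := by
  obtain ⟨s, hs, -, -, os, -⟩ := h.two
  obtain ⟨T, hT, hle⟩ := H10.exists_isSylowIn_ge (GW.isPGroup_zp2 os) (le_top : zpowers s ≤ ⊤)
  obtain ⟨g, -, hg⟩ := hT.exists_cj_le (GW.isPGroup_zp2 hu) le_top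
  obtain ⟨z, hz, oz, hc⟩ := exists_central_ord2 hT.isPGroup
    (fun e => ord2_ne_one os (by simpa [e] using hle (mem_zpowers s)))
  have hzA := h.cent s hs (ord2_ne_one os) z (hc s (hle (mem_zpowers s)))
  exact ⟨g, h.cent z hzA (ord2_ne_one oz) _ (hc _ (hg (H10.conj_mem_cj (mem_zpowers u)))).symm⟩

theorem inverts {u : G} (hu : orderOf u = 2) (huH : u ∉ H) : ∀ d ∈ D[u], u * d * u⁻¹ = d⁻¹ := by
  refine inverts_of_fpf (ord2_mul_self hu) (fun d hd => ⟨?_, conj_mem_map_conj.2 hd.1⟩) ?_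
  · have := mem_map_conj.1 hd.2
    rw [ord2_inv hu] at this ⊢
    exact this
  · intro d hd hc
    obtain ⟨g, hg⟩ := h.exists_conj_mem hu
    have hgH : g ∉ H := fun e => huH (by
      simpa [mul_assoc] using le_normalizer (conj_mem (inv_mem e) hg))
    have h1 : g * d * g⁻¹ ∈ A := h.cent _ hg (ord2_ne_one (ord2_conj hu g)) _ (by
      simpa using hc.symm.map (MulAut.conj g))
    have := h.semireg hgH h1 (by simpa [mul_assoc] using hd.1)
    simpa using this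

theorem exists_conj {u s t : G} (hu : orderOf u = 2) (huH : u ∉ H) (hs : s ∈ A)
    (hs1 : orderOf s = 2) (ht : t ∈ A) (ht1 : orderOf t = 2) : ∃ d ∈ D[u], d * s * d⁻¹ = t := by
  obtain ⟨k, hk, hk1, hk2⟩ := se_exists_inverted_conj h.se hu huH hs1 (le_normalizer hs)
    ht1 (le_normalizer ht)
  exact ⟨k, mem_inf_conj_of_inverted hu hk hk1, hk2⟩

theorem exists_mul {u x : G} (hu : orderOf u = 2) (huH : u ∉ H) (hx : x ∈ H) :
    ∃ d ∈ D[u], d⁻¹ * x ∈ A := by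
  obtain ⟨z, hz, -, -, hz2, -⟩ := h.two
  obtain ⟨d, hd, hdz⟩ := h.exists_conj hu huH hz hz2 (conj_mem hx hz) (ord2_conj hz2 x)
  refine ⟨d, hd, h.cent z hz (ord2_ne_one hz2) _ (conj_eq_iff_commute.1 ?_)⟩
  calc d⁻¹ * x * z * (d⁻¹ * x)⁻¹ = d⁻¹ * (x * z * x⁻¹) * d := by group
    _ = z := by rw [← hdz]; group

theorem exists_ne_one {u : G} (hu : orderOf u = 2) (huH : u ∉ H) : ∃ d ∈ D[u], d ≠ 1 := by
  obtain ⟨s, hs, t, ht, os, ot, hne⟩ := h.two
  obtain ⟨d, hd, e⟩ := h.exists_conj hu huH hs os ht ot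
  exact ⟨d, hd, fun h1 => hne (by simpa [h1] using e)⟩

/-- The centralizer of a nonidentity element of `D` lies in `D`. -/
theorem mem_D_of_commute {u d a : G} (hu : orderOf u = 2) (huH : u ∉ H) (hd : d ∈ D[u])
    (hd1 : d ≠ 1) (hc : Commute a d) : a ∈ D[u] := by
  have hcomm := fun a b => commute_of_inverted (h.inverts hu huH) (a := a) (b := b)
  by_cases haH : a ∈ H
  · obtain ⟨e, he, het⟩ := h.exists_mul hu huH haH
    by_cases h1 : e⁻¹ * a = 1
    · rwa [← inv_mul_eq_one.1 h1]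
    · exfalso
      have h2 : d ∈ A := h.cent _ het h1 _ ((hcomm d e hd he).inv_right.mul_right hc.symm)
      exact hd1 (h.eq_one_of_mem huH hd h2)
  · exfalso
    obtain ⟨w, hw, hwH⟩ := se_exists_ord2_coset h.se haH
    have hwH' : w ∉ H := fun h1 =>
      haH (by simpa using Subgroup.inv_mem _ (Subgroup.mul_mem _ hwH (Subgroup.inv_mem _ h1)))
    have hdw : w * d * w⁻¹ = d⁻¹ := by
      refine h.inverts hw hwH' d ⟨hd.1, mem_map_conj.2 ?_⟩
      have : w⁻¹ * d * w = (a⁻¹ * w)⁻¹ * d * (a⁻¹ * w) := by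
        calc w⁻¹ * d * w = w⁻¹ * (a * d * a⁻¹) * w := by rw [conj_eq_iff_commute.2 hc]
          _ = _ := by group
      rw [this]
      exact Subgroup.mul_mem _ (Subgroup.mul_mem _ (Subgroup.inv_mem _ hwH) hd.1) hwH
    obtain ⟨e, he, het⟩ := h.exists_mul hu huH hwH
    have h3 : (e⁻¹ * (a⁻¹ * w)) * d * (e⁻¹ * (a⁻¹ * w))⁻¹ = d⁻¹ := by
      calc (e⁻¹ * (a⁻¹ * w)) * d * (e⁻¹ * (a⁻¹ * w))⁻¹
          = e⁻¹ * (a⁻¹ * (w * d * w⁻¹) * a⁻¹⁻¹) * e⁻¹⁻¹ := by group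
        _ = d⁻¹ := by
          rw [hdw, conj_eq_iff_commute.2 hc.inv_inv,
            conj_eq_iff_commute.2 (hcomm e d he hd).inv_inv]
    have h4 : d * d ∈ A := by
      have h5 := A.mul_mem (conj_mem hd.1 het) (A.inv_mem het)
      have h6 : d * (e⁻¹ * (a⁻¹ * w)) * d⁻¹ * (e⁻¹ * (a⁻¹ * w))⁻¹ = d * d := by
        calc _ = d * ((e⁻¹ * (a⁻¹ * w)) * d * (e⁻¹ * (a⁻¹ * w))⁻¹)⁻¹ := by group
          _ = d * d := by rw [h3, inv_inv]
      rwa [h6] at h5
    have h7 := h.eq_one_of_mem huH (Subgroup.mul_mem _ hd hd) h4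
    exact hd1 (h.eq_one_of_sq huH hd h7)

/-- A nonidentity element of `D` fixes only two cosets. -/
theorem fixed {u d g : G} (hu : orderOf u = 2) (huH : u ∉ H) (hd : d ∈ D[u])
    (hd1 : d ≠ 1) (hg : g⁻¹ * d * g ∈ H) (hgH : g ∉ H) : g⁻¹ * u ∈ H := by
  obtain ⟨w, hw, hwH⟩ := se_exists_ord2_coset h.se hgH
  have hwH' : w ∉ H := fun h1 =>
    hgH (by simpa using Subgroup.inv_mem _ (Subgroup.mul_mem _ hwH (Subgroup.inv_mem _ h1)))
  have hdw : w * d * w⁻¹ = d⁻¹ := by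
    refine h.inverts hw hwH' d ⟨hd.1, mem_map_conj.2 ?_⟩
    have : w⁻¹ * d * w = (g⁻¹ * w)⁻¹ * (g⁻¹ * d * g) * (g⁻¹ * w) := by group
    rw [this]
    exact Subgroup.mul_mem _ (Subgroup.mul_mem _ (Subgroup.inv_mem _ hwH) hg) hwH
  have h1 : Commute (w⁻¹ * u) d := by
    refine conj_eq_iff_commute.1 ?_
    calc w⁻¹ * u * d * (w⁻¹ * u)⁻¹ = w⁻¹ * (u * d * u⁻¹) * w := by group
      _ = d := by rw [h.inverts hu huH d hd, ← hdw]; group
  have h2 := (h.mem_D_of_commute hu huH hd hd1 h1).1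
  simpa [mul_assoc] using Subgroup.mul_mem _ hwH h2

/-- `A` is transitive on the cosets other than `H`. -/
theorem trans {u g : G} (hu : orderOf u = 2) (huH : u ∉ H) (hgH : g ∉ H) :
    ∃ s ∈ A, g⁻¹ * (s * u) ∈ H := by
  obtain ⟨w, hw, hwH⟩ := se_exists_ord2_coset h.se hgH
  have hwH' : w ∉ H := fun h1 =>
    hgH (by simpa using Subgroup.inv_mem _ (Subgroup.mul_mem _ hwH (Subgroup.inv_mem _ h1)))
  obtain ⟨d0, hd0, hd01⟩ := h.exists_ne_one hu huH
  obtain ⟨d, hd, hdt⟩ := h.exists_mul hw hwH' hd0.1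
  have hd1 : d ≠ 1 := by
    rintro rfl
    exact hd01 (h.eq_one_of_mem huH hd0 (by simpa using hdt))
  have hinj : Function.Injective (fun s : A => (⟨s * (d0 * (s : G)⁻¹ * d0⁻¹),
      A.mul_mem s.2 (conj_mem hd0.1 (A.inv_mem s.2))⟩ : A)) := by
    intro a b hab
    have h1 : (a : G) * (d0 * (a : G)⁻¹ * d0⁻¹) = b * (d0 * (b : G)⁻¹ * d0⁻¹) :=
      congrArg Subtype.val hab
    have h2 : Commute ((b : G)⁻¹ * a) d0 := by
      refine conj_eq_iff_commute.1 ?_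
      calc (b : G)⁻¹ * a * d0 * ((b : G)⁻¹ * a)⁻¹
          = (b : G)⁻¹ * (a * (d0 * (a : G)⁻¹ * d0⁻¹)) * d0 * b := by group
        _ = d0 := by rw [h1]; group
    have h3 := h.eq_one_of_mem huH (h.mem_D_of_commute hu huH hd0 hd01 h2) (b⁻¹ * a).2
    exact Subtype.ext (inv_mul_eq_one.1 h3).symm
  have hm : d * d0⁻¹ ∈ A := by
    have := conj_mem hd0.1 (A.inv_mem hdt)
    simpa [mul_assoc] using this
  obtain ⟨s, hs⟩ := (Finite.injective_iff_surjective.1 hinj) ⟨_, hm⟩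
  have hs' : (s : G) * (d0 * (s : G)⁻¹ * d0⁻¹) = d * d0⁻¹ := congrArg Subtype.val hs
  have hs2 : (s : G) * d0 * (s : G)⁻¹ = d := by
    calc (s : G) * d0 * (s : G)⁻¹ = s * (d0 * (s : G)⁻¹ * d0⁻¹) * d0 := by group
      _ = d := by rw [hs']; group
  refine ⟨s, s.2, ?_⟩
  have h5 := h.fixed (g := s * u) hw hwH' hd hd1 (by
    rw [← hs2]
    simpa [mul_assoc] using mem_map_conj.1 hd0.2) (fun h6 => huH (by
      simpa using Subgroup.mul_mem _ (Subgroup.inv_mem _ (le_normalizer s.2)) h6))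
  simpa [mul_assoc] using Subgroup.mul_mem _ hwH (Subgroup.inv_mem _ h5)

theorem exists_out : ∃ u : G, orderOf u = 2 ∧ u ∉ H := by
  obtain ⟨z, hz, -, -, hz2, -⟩ := h.two
  by_contra hc
  push Not at hc
  refine h.nn (normalizer_eq_top_iff.1 (eq_top_iff.2 fun g _ => ?_))
  exact h.ti hz (ord2_ne_one hz2) (h.mem_of_ord2 (ord2_conj hz2 g) (hc _ (ord2_conj hz2 g)))

theorem mem_DD {u d : G} : d ∈ H26.DD ((1 : G) : G ⧸ H) u ↔ d ∈ D[u] := by
  have e : u • ((1 : G) : G ⧸ H) = ((u * 1 : G) : G ⧸ H) := rfl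
  rw [H26.mem_DD, e, smul_mk_eq_iff, smul_mk_eq_iff, mem_inf, mem_map_conj]
  simp [mul_assoc]

theorem r1 {u : G} (hu : orderOf u = 2) (huH : u ∉ H) : H26.R1 G (G ⧸ H) ((1 : G) : G ⧸ H) u A := by
  have hst : ∀ g : G, g ∈ stabilizer G ((1 : G) : G ⧸ H) ↔ g ∈ H := fun g => by
    rw [stabilizer_quotient]
  have hne : ∀ g : G, (g : G ⧸ H) ≠ ((1 : G) : G ⧸ H) → g ∉ H := fun g hg e =>
    hg (QuotientGroup.eq.2 (by simpa using e))
  refine H17.r1_of_reg (fun a ha => (hst a).2 (le_normalizer ha))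
    (fun g hg x hx => conj_mem ((hst g).1 hg) hx) ?_ ?_ (ord2_mul_self hu)
    (fun e => huH ((hst u).1 e)) ?_ ?_
  · intro c d hc hd
    obtain ⟨c, rfl⟩ := QuotientGroup.mk_surjective c
    obtain ⟨d, rfl⟩ := QuotientGroup.mk_surjective d
    obtain ⟨s, hs, e1⟩ := h.trans hu huH (hne c hc)
    obtain ⟨t, ht, e2⟩ := h.trans hu huH (hne d hd)
    refine ⟨t * s⁻¹, A.mul_mem ht (A.inv_mem hs), (smul_mk_eq_iff _ _ _).2 ?_⟩
    simpa [mul_assoc] using mul_mem e2 (inv_mem e1)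
  · intro x hx c hc e
    obtain ⟨c, rfl⟩ := QuotientGroup.mk_surjective c
    exact h.semireg (hne c hc) hx (by simpa [mul_assoc] using (smul_mk_eq_iff _ _ _).1 e)
  · rw [stabilizer_quotient]; exact h.se.2.1
  · rw [show H26.DD ((1 : G) : G ⧸ H) u = D[u] from Subgroup.ext fun _ => h.mem_DD]
    exact h.se.2.2 u huH

theorem faithful : FaithfulSMul G (G ⧸ H) := by
  obtain ⟨u, hu, huH⟩ := h.exists_out
  obtain ⟨z, hz, -, -, hz2, -⟩ := h.two
  refine ⟨fun {a b} hab => ?_⟩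
  have hk : ∀ g : G, g⁻¹ * (b⁻¹ * a) * g ∈ H := fun g => by
    have : (b⁻¹ * a) • (g : G ⧸ H) = g := by rw [mul_smul, hab, inv_smul_smul]
    simpa [mul_assoc] using (smul_mk_eq_iff _ _ _).1 this
  by_contra hne
  have h1 : b⁻¹ * a ≠ 1 := fun e => hne (inv_mul_eq_one.1 e).symm
  have := h.fixed (g := z * u) hu huH ⟨by simpa using hk 1, mem_map_conj.2 (hk u)⟩ h1 (hk _)
    (fun e => huH (by simpa using mul_mem (inv_mem (le_normalizer hz)) e))
  exact ord2_ne_one hz2 (h.semireg huH hz (by simpa [mul_assoc] using inv_mem this))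

theorem iso : ∃ (F : Type) (_ : Field F) (_ : Fintype F),
    Fintype.card F = Nat.card A ∧ Nonempty (G ≃* PSL(2, F)) := by
  obtain ⟨u, hu, huH⟩ := h.exists_out
  haveI := h.faithful
  have hr := h.r1 hu huH
  obtain ⟨s, hs, t, ht, os, ot, hne⟩ := h.two
  have hz : H17.SZ G (G ⧸ H) ((1 : G) : G ⧸ H) u A := ⟨hr, s, t, ord2_ne_one os, ord2_ne_one ot, hne,
    ord2_mul_self os, ord2_mul_self ot, h.comm s hs t ht⟩
  have hK : H26.DD ((1 : G) : G ⧸ H) u ≤ H17.KK ((1 : G) : G ⧸ H) u := fun d hd =>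
    subset_closure ⟨hd, h.inverts hu huH d (h.mem_DD.1 hd)⟩
  obtain ⟨s', r, hsr⟩ := hz.exists_sr
  obtain ⟨F, i1, i2, h1, ⟨e⟩⟩ := (hsr.zas_LL fun x hx h1 => hK (H17.hh_mem hr hx h1)).1
    ⟨⟨fun a b => Subtype.ext (h.comm _ a.2 _ b.2)⟩⟩
  have hL : H17.LL u A (H17.KK ((1 : G) : G ⧸ H) u) = ⊤ := by
    refine eq_top_iff.2 fun g _ => ?_
    by_cases hg : g • ((1 : G) : G ⧸ H) = ((1 : G) : G ⧸ H)
    · obtain ⟨x, hx, d, hd, rfl⟩ := hr.exists_QD hg
      exact mul_mem (H17.le_LL _ _ hx) (H17.le_LL' _ _ (hK hd))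
    · obtain ⟨x, hx, d, hd, y, hy, rfl⟩ := hr.exists_canon3 hg
      exact mul_mem (mul_mem (mul_mem (H17.le_LL _ _ hx) (H17.le_LL' _ _ (hK hd)))
        (H17.t_mem_LL _ _)) (H17.le_LL _ _ hy)
  rw [hL] at e
  exact ⟨F, i1, i2, h1, ⟨topEquiv.symm.trans e⟩⟩

end CAH

end H8
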