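import Mathlib.Algebra.Group.MinimalAxioms
import Mathlib.Tactic.DeriveFintype
import Mathlib.Data.ZMod.Basic
import Mathlib.Data.Set.Card
import Cfsg.Agent.S0111

set_option autoImplicit false
open Subgroup

namespace H8PE

/-- model of the Sylow 2-subgroup of order 64 -/
@[ext] structure M where
  i : ZMod 4
  j : ZMod 4
  a : Bool
  b : Bool
  deriving DecidableEq, Fintype

def ai (a b : Bool) (i j : ZMod 4) : ZMod 4 :=
  if a then -(if b then i - j else i) else (if b then i - j else i)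

def aj (a b : Bool) (j : ZMod 4) : ZMod 4 :=
  if a then -(if b then -j else j) else (if b then -j else j)

instance : Mul M :=
  ⟨fun x y => ⟨x.i + ai x.a x.b y.i y.j, x.j + aj x.a x.b y.j, xor x.a y.a, xor x.b y.b⟩⟩
instance : One M := ⟨⟨0, 0, false, false⟩⟩
instance : Inv M := ⟨fun x => ⟨-ai x.a x.b x.i x.j, -aj x.a x.b x.j, x.a, x.b⟩⟩

theorem mul_def (x y : M) : x * y =
    ⟨x.i + ai x.a x.b y.i y.j, x.j + aj x.a x.b y.j, xor x.a y.a, xor x.b y.b⟩ := rfl

instance : Group M := Group.ofLeftAxioms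
  (by
    rintro ⟨i, j, a, b⟩ ⟨i', j', a', b'⟩ ⟨i'', j'', a'', b''⟩
    simp only [mul_def, M.mk.injEq]
    cases a <;> cases b <;> cases a' <;> cases b' <;>
      simp [ai, aj] <;> constructor <;> ring)
  (by decide) (by decide)

def K : M := ⟨1, 0, false, false⟩
def L : M := ⟨0, 1, false, false⟩
def T : M := ⟨0, 0, true, false⟩
def R : M := ⟨0, 0, false, true⟩
def Z : M := ⟨2, 0, false, false⟩

theorem cardM : Nat.card M = 64 := by
  rw [Nat.card_eq_fintype_card]; decide

theorem d1 : ∀ x : M, x ≠ 1 → x = Z ∨ ∃ y ∈ [K, L, T, R], x * y * x⁻¹ * y⁻¹ = Z ∨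
    ∃ w ∈ [K, L, T, R], (x * y * x⁻¹ * y⁻¹) * w * (x * y * x⁻¹ * y⁻¹)⁻¹ * w⁻¹ = Z := by
  decide +kernel

theorem d2 : ∀ x : M, x.a = false → x * x = 1 → x ≠ 1 → x = Z ∨
    (∃ y : M, y * (L * L) * y⁻¹ = x) ∨ ∃ y : M, y * R * y⁻¹ = x := by
  decide +kernel

theorem d3 : ∀ x : M, x.a = x.b → x * x = 1 → x ≠ 1 → x = Z ∨
    (∃ y : M, y * (L * L) * y⁻¹ = x) ∨ ∃ y : M, y * (R * T) * y⁻¹ = x := by
  decide +kernel

def A : Finset M :=
  Finset.univ.filter fun x => ∃ y : M, y * T * y⁻¹ = x ∨ y * R * y⁻¹ = x ∨ y * (R * T) * y⁻¹ = x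

theorem d4 : A.card = 12 := by decide +kernel
theorem d5 : ∀ x ∈ A, x.j = 0 ∨ x.j = 2 := by decide +kernel
theorem d6 : T * K ∉ A := by decide +kernel
theorem d7 : ∀ x : M, x * Z = Z * x := by decide +kernel

def Q1 : Subgroup M where
  carrier := {x | x.a = false}
  mul_mem' := by
    intro x y hx hy
    simp only [Set.mem_setOf_eq] at hx hy ⊢
    simp [mul_def, hx, hy]
  one_mem' := rfl
  inv_mem' := by intro x hx; exact hx

def Q2 : Subgroup M where
  carrier := {x | x.a = x.b}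
  mul_mem' := by
    intro x y hx hy
    simp only [Set.mem_setOf_eq] at hx hy ⊢
    simp [mul_def, hx, hy]
  one_mem' := rfl
  inv_mem' := by intro x hx; exact hx

theorem q1_index : Q1.index = 2 := by
  rw [index_eq_two_iff]
  refine ⟨T, fun b => ?_⟩
  show Xor ((b * T).a = false) (b.a = false)
  revert b; decide +kernel

theorem q2_index : Q2.index = 2 := by
  rw [index_eq_two_iff]
  refine ⟨T, fun b => ?_⟩
  show Xor ((b * T).a = (b * T).b) (b.a = b.b)
  revert b; decide +kernel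

section hom

variable {G : Type*} [Group G] {k l t r : G}

def g (k l : G) (i j : ZMod 4) : G := k ^ i.val * l ^ j.val

theorem pw_add {x : G} (h : x ^ 4 = 1) (i j : ZMod 4) :
    x ^ (i + j).val = x ^ i.val * x ^ j.val := by
  rw [ZMod.val_add, ← pow_add]
  exact (pow_eq_pow_mod _ h).symm

theorem g_add (k4 : k ^ 4 = 1) (l4 : l ^ 4 = 1) (kl : k * l = l * k) (i j i' j' : ZMod 4) :
    g k l (i + i') (j + j') = g k l i j * g k l i' j' := by
  have hc : Commute (l ^ j.val) (k ^ i'.val) := (Commute.symm kl).pow_pow _ _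
  unfold g
  rw [pw_add k4, pw_add l4]
  calc k ^ i.val * k ^ i'.val * (l ^ j.val * l ^ j'.val)
      = k ^ i.val * (k ^ i'.val * l ^ j.val) * l ^ j'.val := by group
    _ = k ^ i.val * (l ^ j.val * k ^ i'.val) * l ^ j'.val := by rw [hc.eq]
    _ = _ := by group

theorem g_nsmul (k4 : k ^ 4 = 1) (l4 : l ^ 4 = 1) (kl : k * l = l * k) (i j : ZMod 4) (n : ℕ) :
    g k l (n • i) (n • j) = g k l i j ^ n := by
  induction n with
  | zero => simp [g]
  | succ n ih => rw [succ_nsmul, succ_nsmul, g_add k4 l4 kl, ih, pow_succ]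

theorem g_conj (k4 : k ^ 4 = 1) (l4 : l ^ 4 = 1) (kl : k * l = l * k) {c : G}
    {u1 u2 v1 v2 : ZMod 4} (h1 : c * k * c⁻¹ = g k l u1 u2) (h2 : c * l * c⁻¹ = g k l v1 v2)
    (i j : ZMod 4) : c * g k l i j =
      g k l (i.val • u1 + j.val • v1) (i.val • u2 + j.val • v2) * c := by
  rw [g_add k4 l4 kl, g_nsmul k4 l4 kl, g_nsmul k4 l4 kl, ← h1, ← h2, conj_pow, conj_pow]
  unfold g; group

def bp (x : G) (a : Bool) : G := if a then x else 1

theorem inv3 {x : G} (h : x ^ 4 = 1) : x⁻¹ = x ^ 3 := by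
  rw [inv_eq_iff_mul_eq_one, ← pow_succ', h]

theorem t_g (k4 : k ^ 4 = 1) (l4 : l ^ 4 = 1) (kl : k * l = l * k) (tt : t * t = 1)
    (tk : t * k * t = k⁻¹) (tl : t * l * t = l⁻¹) (i j : ZMod 4) :
    t * g k l i j = g k l (-i) (-j) * t := by
  have ti : t⁻¹ = t := inv_eq_of_mul_eq_one_right tt
  have h1 : t * k * t⁻¹ = g k l 3 0 := by
    rw [ti, tk, inv3 k4]; show k ^ 3 = k ^ 3 * l ^ 0; simp
  have h2 : t * l * t⁻¹ = g k l 0 3 := by
    rw [ti, tl, inv3 l4]; show l ^ 3 = k ^ 0 * l ^ 3; simp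
  rw [g_conj k4 l4 kl h1 h2]
  have e : ∀ i j : ZMod 4, (i.val • (3 : ZMod 4) + j.val • (0 : ZMod 4) = -i) ∧
      (i.val • (0 : ZMod 4) + j.val • (3 : ZMod 4) = -j) := by decide
  rw [(e i j).1, (e i j).2]

theorem r_g (k4 : k ^ 4 = 1) (l4 : l ^ 4 = 1) (kl : k * l = l * k) (rr : r * r = 1)
    (rk : r * k * r = k) (rl : r * l * r = k⁻¹ * l⁻¹) (i j : ZMod 4) :
    r * g k l i j = g k l (i - j) (-j) * r := by
  have ri : r⁻¹ = r := inv_eq_of_mul_eq_one_right rr
  have h1 : r * k * r⁻¹ = g k l 1 0 := by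
    rw [ri, rk]; show k = k ^ 1 * l ^ 0; simp
  have h2 : r * l * r⁻¹ = g k l 3 3 := by
    rw [ri, rl, inv3 k4, inv3 l4]; rfl
  rw [g_conj k4 l4 kl h1 h2]
  have e : ∀ i j : ZMod 4, (i.val • (1 : ZMod 4) + j.val • (3 : ZMod 4) = i - j) ∧
      (i.val • (0 : ZMod 4) + j.val • (3 : ZMod 4) = -j) := by decide
  rw [(e i j).1, (e i j).2]

def f0 (k l t r : G) (x : M) : G := g k l x.i x.j * (bp t x.a * bp r x.b)

theorem f0_mul (k4 : k ^ 4 = 1) (l4 : l ^ 4 = 1) (kl : k * l = l * k) (tt : t * t = 1)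
    (rr : r * r = 1) (tr : t * r = r * t) (tk : t * k * t = k⁻¹) (tl : t * l * t = l⁻¹)
    (rk : r * k * r = k) (rl : r * l * r = k⁻¹ * l⁻¹) (x y : M) :
    f0 k l t r (x * y) = f0 k l t r x * f0 k l t r y := by
  have h1 : ∀ (a b : Bool) (i j : ZMod 4), bp t a * bp r b * g k l i j =
      g k l (ai a b i j) (aj a b j) * (bp t a * bp r b) := by
    intro a b i j
    cases a <;> cases b <;> simp only [bp, ai, aj, if_true, if_false, Bool.false_eq_true,
      one_mul, mul_one]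
    · exact r_g k4 l4 kl rr rk rl i j
    · exact t_g k4 l4 kl tt tk tl i j
    · rw [mul_assoc, r_g k4 l4 kl rr rk rl, ← mul_assoc, t_g k4 l4 kl tt tk tl, mul_assoc]
  have h2 : ∀ a b a' b' : Bool, bp t (xor a a') * bp r (xor b b') =
      bp t a * bp r b * (bp t a' * bp r b') := by
    have e1 : ∀ x, r * (t * x) = t * (r * x) := fun x => by rw [← mul_assoc, ← tr, mul_assoc]
    have e2 : ∀ x, t * (t * x) = x := fun x => by rw [← mul_assoc, tt, one_mul]
    intro a b a' b'
    cases a <;> cases b <;> cases a' <;> cases b' <;>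
      simp [bp, mul_assoc, e1, e2, tt, rr, ← tr]
  obtain ⟨i, j, a, b⟩ := x
  obtain ⟨i', j', a', b'⟩ := y
  simp only [f0, mul_def]
  rw [g_add k4 l4 kl, h2]
  calc g k l i j * g k l (ai a b i' j') (aj a b j') * (bp t a * bp r b * (bp t a' * bp r b'))
      = g k l i j * (g k l (ai a b i' j') (aj a b j') * (bp t a * bp r b)) *
          (bp t a' * bp r b') := by group
    _ = g k l i j * (bp t a * bp r b * g k l i' j') * (bp t a' * bp r b') := by rw [h1]
    _ = _ := by group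

end hom

theorem partE {G : Type*} [Group G] [Finite G] [IsSimpleGroup G] (hG : Nat.card G = 95040)
    {k l t r : G} (k4 : k^4 = 1) (l4 : l^4 = 1) (kl : k*l = l*k) (tt : t*t = 1) (rr : r*r = 1)
    (tr : t*r = r*t) (tk : t*k*t = k⁻¹) (tl : t*l*t = l⁻¹) (rk : r*k*r = k)
    (rl : r*l*r = k⁻¹*l⁻¹) (z1 : k*k ≠ 1) (n1 : ¬ IsConj t (k*k)) (zl : IsConj (k*k) (l*l)) :
    Nat.card (closure ({k,l,t,r} : Set G)) = 64 ∧ IsConj t r ∧ IsConj t (r*t) ∧
    (∀ y : G, y*y = 1 → y ≠ 1 → IsConj t y ∨ IsConj (k*k) y) ∧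
    ({a : G | IsConj t a ∧ a*(k*k) = (k*k)*a}.ncard = 12 →
      (∀ g, g*(k*k) = (k*k)*g → IsConj t g → g ∈ closure ({k, l*l, t, r} : Set G)) ∧
      ¬ IsConj t (t*k)) := by
  classical
  let f : M →* G := MonoidHom.mk' (f0 k l t r) (f0_mul k4 l4 kl tt rr tr tk tl rk rl)
  have fK : f K = k := by show k ^ 1 * l ^ 0 * (1 * 1) = k; simp
  have fL : f L = l := by show k ^ 0 * l ^ 1 * (1 * 1) = l; simp
  have fT : f T = t := by show k ^ 0 * l ^ 0 * (t * 1) = t; simp
  have fR : f R = r := by show k ^ 0 * l ^ 0 * (1 * r) = r; simp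
  have fZ : f Z = k * k := by show k ^ 2 * l ^ 0 * (1 * 1) = k * k; simp [sq]
  have finj : Function.Injective f := by
    rw [injective_iff_map_eq_one]
    intro x hx
    by_contra hx1
    apply z1
    rw [← fZ]
    rcases d1 x hx1 with h | ⟨y, -, h | ⟨w, -, h⟩⟩ <;> rw [← h] <;> simp [hx]
  have hS : closure ({k,l,t,r} : Set G) = f.range := by
    apply le_antisymm
    · rw [closure_le]
      rintro x (rfl | rfl | rfl | rfl)
      · exact ⟨K, fK⟩
      · exact ⟨L, fL⟩
      · exact ⟨T, fT⟩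
      · exact ⟨R, fR⟩
    · rintro _ ⟨x, rfl⟩
      have hk : k ∈ closure ({k,l,t,r} : Set G) := subset_closure (by simp)
      have hl : l ∈ closure ({k,l,t,r} : Set G) := subset_closure (by simp)
      have ht : t ∈ closure ({k,l,t,r} : Set G) := subset_closure (by simp)
      have hr : r ∈ closure ({k,l,t,r} : Set G) := subset_closure (by simp)
      refine mul_mem (mul_mem (pow_mem hk _) (pow_mem hl _)) (mul_mem ?_ ?_)
      · unfold bp; split_ifs; exacts [ht, one_mem _]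
      · unfold bp; split_ifs; exacts [hr, one_mem _]
  have c64 : Nat.card f.range = 64 := by
    rw [← cardM]; exact (Nat.card_congr (MonoidHom.ofInjective finj).toEquiv).symm
  haveI : Fact (Nat.Prime 2) := ⟨Nat.prime_two⟩
  have hp : IsPGroup 2 f.range := IsPGroup.of_card (n := 6) (by rw [c64]; norm_num)
  have hi : ¬ 2 ∣ f.range.index := by
    have := f.range.card_mul_index
    rw [c64, hG] at this
    omega
  let P : Sylow 2 G := hp.toSylow hi
  have hP : (P : Subgroup G) = f.range := rfl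
  have TH : ∀ Q : Subgroup M, Q.index = 2 → ∀ u : M, u * u = 1 → u ≠ 1 →
      ∃ x ∈ Q, x * x = 1 ∧ x ≠ 1 ∧ IsConj (f u) (f x) := by
    intro Q hQ u uu u1
    by_cases huQ : u ∈ Q
    · exact ⟨u, huQ, uu, u1, IsConj.refl _⟩
    have fu1 : f u ≠ 1 := fun h => u1 (finj (by rw [h, map_one]))
    have fuu : f u * f u = 1 := by rw [← map_mul, uu, map_one]
    have ho : orderOf (f u) = 2 := orderOf_eq_prime (by rw [sq, fuu]) fu1
    have hrel : (Q.map f).relIndex (P : Subgroup G) = 2 := by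
      rw [hP, MonoidHom.range_eq_map, relIndex_map_map_of_injective _ _ finj, relIndex_top_right,
        hQ]
    rcases Cfsg.Agent.S0111.result P (Q.map f) (by rw [hP]; exact map_le_range f Q) hrel (f u) ho
      ⟨u, rfl⟩ (by rw [mem_map_iff_mem finj]; exact huQ) with ⟨N, hN, hN2, -⟩ | ⟨c, x, hxQ, hx⟩
    · exfalso
      rcases hN.eq_bot_or_eq_top with h | h
      · rw [h, index_bot, hG] at hN2; omega
      · rw [h, index_top] at hN2; omega
    · refine ⟨x, hxQ, finj ?_, fun h => fu1 ?_, isConj_iff.2 ⟨c, hx.symm⟩⟩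
      · rw [map_mul, map_one, hx]
        calc c * f u * c⁻¹ * (c * f u * c⁻¹) = c * (f u * f u) * c⁻¹ := by group
          _ = 1 := by rw [fuu]; group
      · rw [h, map_one] at hx
        calc f u = c⁻¹ * (c * f u * c⁻¹) * c := by group
          _ = 1 := by rw [← hx]; group
  have cj : ∀ x y : M, IsConj (f x) (f (y * x * y⁻¹)) := fun x y =>
    isConj_iff.2 ⟨f y, by simp⟩
  have fLL : f (L * L) = l * l := by rw [map_mul, fL]
  have fRT : f (R * T) = r * t := by rw [map_mul, fR, fT]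
  have e1 : ∀ u : M, u * u = 1 → u ≠ 1 → IsConj (k * k) (f u) ∨ IsConj r (f u) := by
    intro u uu u1
    obtain ⟨x, hx, xx, x1, hc⟩ := TH Q1 q1_index u uu u1
    rcases d2 x hx xx x1 with rfl | ⟨y, rfl⟩ | ⟨y, rfl⟩
    · left; rw [← fZ]; exact hc.symm
    · left; exact zl.trans ((fLL ▸ cj (L * L) y).trans hc.symm)
    · right; exact (fR ▸ cj R y).trans hc.symm
  have e2 : ∀ u : M, u * u = 1 → u ≠ 1 → IsConj (k * k) (f u) ∨ IsConj (r * t) (f u) := by
    intro u uu u1
    obtain ⟨x, hx, xx, x1, hc⟩ := TH Q2 q2_index u uu u1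
    rcases d3 x hx xx x1 with rfl | ⟨y, rfl⟩ | ⟨y, rfl⟩
    · left; rw [← fZ]; exact hc.symm
    · left; exact zl.trans ((fLL ▸ cj (L * L) y).trans hc.symm)
    · right; exact (fRT ▸ cj (R * T) y).trans hc.symm
  have a1 : IsConj t r := by
    rcases e1 T (by decide) (by decide) with h | h <;> rw [fT] at h
    · exact absurd h.symm n1
    · exact h.symm
  have a2 : IsConj t (r * t) := by
    rcases e2 T (by decide) (by decide) with h | h <;> rw [fT] at h
    · exact absurd h.symm n1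
    · exact h.symm
  refine ⟨by rw [hS, c64], a1, a2, ?_, ?_⟩
  · intro y yy y1
    have ho : orderOf y = 2 := orderOf_eq_prime (by rw [sq, yy]) y1
    have hz : IsPGroup 2 (zpowers y) := IsPGroup.of_card (n := 1) (by rw [Nat.card_zpowers, ho]; rfl)
    obtain ⟨P', hP'⟩ := hz.exists_le_sylow
    obtain ⟨c, hc⟩ := MulAction.exists_smul_eq G P' P
    have hm : c * y * c⁻¹ ∈ (P : Subgroup G) := by
      rw [← hc, Sylow.coe_subgroup_smul, mem_pointwise_smul_iff_inv_smul_mem]
      have := hP' (mem_zpowers y)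
      simpa [mul_assoc] using this
    obtain ⟨u, hu⟩ := hm
    have uu : u * u = 1 := finj (by
      rw [map_mul, map_one, hu]
      calc c * y * c⁻¹ * (c * y * c⁻¹) = c * (y * y) * c⁻¹ := by group
        _ = 1 := by rw [yy]; group)
    have u1 : u ≠ 1 := fun h => y1 (by
      rw [h, map_one] at hu
      calc y = c⁻¹ * (c * y * c⁻¹) * c := by group
        _ = 1 := by rw [← hu]; group)
    have hy : IsConj (f u) y := (isConj_iff.2 ⟨c, hu.symm⟩ : IsConj y (f u)).symm
    rcases e1 u uu u1 with h | h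
    · exact Or.inr (h.trans hy)
    · exact Or.inl (a1.trans (h.trans hy))
  · intro h12
    have hsub : f '' (A : Set M) ⊆ {a : G | IsConj t a ∧ a*(k*k) = (k*k)*a} := by
      rintro _ ⟨x, hx, rfl⟩
      refine ⟨?_, by rw [← fZ, ← map_mul, ← map_mul, d7]⟩
      simp only [A, Finset.coe_filter, Finset.mem_univ, true_and, Set.mem_setOf_eq] at hx
      obtain ⟨y, rfl | rfl | rfl⟩ := hx
      · exact fT ▸ cj T y
      · exact a1.trans (fR ▸ cj R y)
      · exact a2.trans (fRT ▸ cj (R * T) y)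
    have heq : f '' (A : Set M) = {a : G | IsConj t a ∧ a*(k*k) = (k*k)*a} :=
      Set.eq_of_subset_of_ncard_le hsub (by
        rw [h12, Set.ncard_image_of_injective _ finj, Set.ncard_coe_finset, d4]) (Set.toFinite _)
    refine ⟨fun c hc1 hc2 => ?_, fun h => ?_⟩
    · have : c ∈ f '' (A : Set M) := by rw [heq]; exact ⟨hc2, hc1⟩
      obtain ⟨x, hx, rfl⟩ := this
      have hk : k ∈ closure ({k, l*l, t, r} : Set G) := subset_closure (by simp)
      have hl : l * l ∈ closure ({k, l*l, t, r} : Set G) := subset_closure (by simp)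
      have ht : t ∈ closure ({k, l*l, t, r} : Set G) := subset_closure (by simp)
      have hr : r ∈ closure ({k, l*l, t, r} : Set G) := subset_closure (by simp)
      refine mul_mem (mul_mem (pow_mem hk _) ?_) (mul_mem ?_ ?_)
      · rcases d5 x hx with h | h <;> rw [h]
        · exact (show l ^ 0 ∈ _ by rw [pow_zero]; exact one_mem _)
        · exact (show l ^ 2 ∈ _ by rw [sq]; exact hl)
      · unfold bp; split_ifs; exacts [ht, one_mem _]
      · unfold bp; split_ifs; exacts [hr, one_mem _]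
    · have fTK : f (T * K) = t * k := by rw [map_mul, fT, fK]
      have : t * k ∈ f '' (A : Set M) := by
        rw [heq]; exact ⟨h, by rw [← fTK, ← fZ, ← map_mul, ← map_mul, d7]⟩
      obtain ⟨x, hx, hx2⟩ := this
      rw [← fTK] at hx2
      exact d6 (finj hx2 ▸ hx)

end H8PE
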