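import Cfsg.Agent.H20.K9d
import Cfsg.Agent.H10.RO5
import Cfsg.Agent.H17.Central

set_option autoImplicit false
open Subgroup Cfsg H10 H20.N9

namespace H8Fac

variable {G : Type*} [Group G] [Finite G] {q : ℕ}

theorem gf (h : Hy G q) {X : Subgroup G} (hX : IsTwoLocal X) (h3 : ¬ 3 ∣ Nat.card X) : GF X := by
  have sol : Group.IsSolvable X :=
    H17.isSolvable_of_two_primes Nat.prime_two h.hq fun r hr h1 => by
      rcases h.prm r hr (h1.trans (card_subgroup_dvd_card X)) with e | e | e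
      exacts [Or.inl e, absurd (e ▸ h1) h3, Or.inr e]
  refine ⟨?_, ?_, ks_of_solvable sol⟩
  · obtain ⟨T, hT, T1, rfl⟩ := hX
    exact charPIn_iff.2 (h.ch.2 T hT T1)
  · rintro ⟨K, φ, hK, hφ⟩
    refine h3 (Dvd.dvd.trans ?_ ((card_dvd_of_surjective φ hφ).trans (card_dvd_of_le hK)))
    rw [Nat.card_perm, Nat.card_fin]
    norm_num [Nat.factorial]

theorem fac (h : Hy G q) : Fac G := fun X P hX h3 hP => by
  have g := gf h hX h3
  refine ⟨fun x hx => ?_, fun x hx => ?_⟩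
  · obtain ⟨c, hc, n, hn, e⟩ := g.fact2 hP hx
    exact ⟨c, hc, n, NN_JH_le _ hn.2, e.symm⟩
  · obtain ⟨c, hc, n, hn, e⟩ := g.fact3 hP hx
    refine ⟨c, ?_, n, hn.2, e.symm⟩
    rw [H20.N9.JH, map_jHat]
    exact hc.2

end H8Fac
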