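import Cfsg.Agent.H20.K9d
import Cfsg.Agent.S1296
import Cfsg.Agent.S3756
import Cfsg.Agent.H17.Central
import Cfsg.Agent.H10.JC3
import Cfsg.Agent.H1.Coprime2
import Cfsg.Agent.H1.Cores

set_option autoImplicit false
open Subgroup Cfsg H10 H20.N9

namespace H8Set

variable {G : Type*} [Group G] [Finite G] {q : ℕ}

theorem conj_in {p : ℕ} [Fact p.Prime] (R : Sylow p G) {Q : Subgroup G} (hQ : IsPGroup p Q) :
    ∃ c : G, ∀ u ∈ Q, c * u * c⁻¹ ∈ (R : Subgroup G) := by
  obtain ⟨P, hP⟩ := hQ.exists_le_sylow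
  obtain ⟨c, rfl⟩ := MulAction.exists_smul_eq G P R
  exact ⟨c, fun u hu => smul_mem_pointwise_smul u (MulAut.conj c) (P : Subgroup G) (hP hu)⟩

theorem not_comp {H : Type*} [Group H] [Group.IsSolvable H] : ¬ HasComponent H := by
  rintro ⟨K, -, h1, h2⟩
  have : Nontrivial K := (QuotientGroup.mk_surjective (s := center K)).nontrivial
  exact Group.IsPerfect.not_isSolvable K inferInstance

theorem setup [IsSimpleGroup G] (hG : ¬ IsMulCommutative G) {a b : ℕ} (hq : q.Prime) (q2 : q ≠ 2)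
    (q3 : q ≠ 3) (hc : Nat.card G = 9 * 2 ^ a * q ^ b) (R : Sylow 3 G)
    (hR : ∀ k ∈ (R : Subgroup G), k ≠ 1 → centralizer ({k} : Set G) = R)
    (he : ∀ x ∈ (R : Subgroup G), x ^ 3 = 1) :
    (∀ t : G, orderOf t = 2 → ¬ 3 ∣ Nat.card (centralizer ({t} : Set G))) ∧
    (PRankLE 2 2 G ∨ (Hy G q ∧ ((∃ H : Subgroup G, IsStronglyEmbedded H) ∨
      ∃ Y : Subgroup G, IsTwoLocal Y ∧ 3 ∣ Nat.card Y))) := by
  have f3 : Fact (Nat.Prime 3) := ⟨Nat.prime_three⟩
  have ns : ¬ Group.IsSolvable G := fun h => hG ⟨⟨IsSimpleGroup.comm_iff_isSolvable.2 h⟩⟩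
  have prm : ∀ r : ℕ, r.Prime → r ∣ Nat.card G → r = 2 ∨ r = 3 ∨ r = q := fun r hr h => by
    rw [hc, hr.dvd_mul, hr.dvd_mul] at h
    rcases h with (h | h) | h
    · exact Or.inr (Or.inl ((Nat.prime_dvd_prime_iff_eq hr Nat.prime_three).1
        (hr.dvd_of_dvd_pow (n := 2) h)))
    · exact Or.inl ((Nat.prime_dvd_prime_iff_eq hr Nat.prime_two).1 (hr.dvd_of_dvd_pow h))
    · exact Or.inr (Or.inr ((Nat.prime_dvd_prime_iff_eq hr hq).1 (hr.dvd_of_dvd_pow h)))
  have c3 : ∀ k x : G, orderOf k = 3 → x * k = k * x → x ^ 3 = 1 := fun k x hk h => by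
    obtain ⟨c, hc⟩ := conj_in R (Q := zpowers k)
      (IsPGroup.of_card (n := 1) (by rw [Nat.card_zpowers, hk]; rfl))
    have h1 := hR _ (hc k (mem_zpowers k)) fun e => by
      rw [conj_eq_one_iff] at e
      rw [e, orderOf_one] at hk
      omega
    have h2 : c * x * c⁻¹ ∈ (R : Subgroup G) := h1 ▸ mem_centralizer_singleton_iff.2 (by
      rw [conj_mul, conj_mul, h])
    have := he _ h2
    rwa [conj_pow, conj_eq_one_iff] at this
  have c2 : ∀ t : G, orderOf t = 2 → ¬ 3 ∣ Nat.card (centralizer ({t} : Set G)) :=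
    fun t ht h => by
      obtain ⟨⟨k, hk⟩, ok⟩ := exists_prime_orderOf_dvd_card' 3 h
      rw [Subgroup.orderOf_mk] at ok
      have := orderOf_dvd_of_pow_eq_one
        (c3 k t ok (mem_centralizer_singleton_iff.1 hk).symm)
      rw [ht] at this
      omega
  have sol : ∀ X : Subgroup G, ¬ 3 ∣ Nat.card X → Group.IsSolvable X := fun X h =>
    H17.isSolvable_of_two_primes Nat.prime_two hq fun r hr h1 => by
      rcases prm r hr (h1.trans (card_subgroup_dvd_card X)) with e | e | e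
      exacts [Or.inl e, absurd (e ▸ h1) h, Or.inr e]
  have ev : Even (Nat.card G) := by
    by_contra h
    refine ns (H17.isSolvable_of_two_primes Nat.prime_three hq fun r hr h1 => ?_)
    exact (prm r hr h1).resolve_left fun e => h (even_iff_two_dvd.2 (e ▸ h1))
  have n9 : ∀ M : Subgroup G, IsTwoLocal M → ¬ 9 ∣ Nat.card M := by
    rintro _ ⟨T, hT, T1, rfl⟩ h9
    obtain ⟨P, hP⟩ := Sylow.exists_subgroup_card_pow_prime 3 (n := 2) h9
    set A := P.map (normalizer (T : Set G)).subtype with hA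
    have cA : Nat.card A = 3 ^ 2 := (card_map_of_injective (subtype_injective _)).trans hP
    obtain ⟨c, hc⟩ := conj_in R (Q := A) (IsPGroup.of_card cA)
    have e3 : ∀ x ∈ A, x ^ 3 = 1 := fun x hx => by
      have := he _ (hc x hx)
      rwa [conj_pow, conj_eq_one_iff] at this
    have : IsMulCommutative A := ⟨⟨fun x y => IsPGroup.commutative_of_card_eq_prime_sq cA x y⟩⟩
    obtain ⟨j, hj⟩ := IsPGroup.iff_card.1 hT
    refine T1 (eq_bot_iff.2 (H1.le_of_forall_centralizer_le (A := A) (fun h => ?_)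
      (map_subtype_le P) (by rw [cA, hj]; exact Nat.Coprime.pow _ _ (by norm_num))
      fun k hk k1 x hx => ?_))
    · have := Monoid.exponent_dvd_of_forall_pow_eq_one (G := A) fun x => Subtype.ext (e3 x x.2)
      rw [h.exponent_eq_card, cA] at this
      omega
    · have h1 := orderOf_dvd_of_pow_eq_one (c3 k x (orderOf_eq_prime (e3 k hk) k1)
        (mem_centralizer_singleton_iff.1 hx.2))
      have h2 := hj ▸ orderOf_dvd_natCard (⟨x, hx.1⟩ : T)
      rw [Subgroup.orderOf_mk] at h2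
      exact mem_bot.2 (orderOf_eq_one_iff.1 (Nat.eq_one_of_dvd_coprimes
        (Nat.Coprime.pow_right j (by norm_num : Nat.Coprime 3 2)) h1 h2))
  have c9 : 3 ∣ Nat.card G := ⟨3 * 2 ^ a * q ^ b, by rw [hc]; ring⟩
  have o2 : pCore 2 G = ⊥ := (pCore_normal 2 G).eq_bot_or_eq_top.resolve_right fun e => by
    obtain ⟨j, hj⟩ := IsPGroup.iff_card.1 (H1.isPGroup_pCore (G := G) 2)
    rw [e, card_top] at hj
    have := Nat.prime_three.dvd_of_dvd_pow (hj ▸ c9)
    omega
  refine ⟨c2, ?_⟩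
  have i2 : ∀ N : Subgroup G, N.Normal → N.index ≠ 2 := fun N hN h => by
    rcases hN.eq_bot_or_eq_top with e | e
    · rw [e, index_bot] at h
      omega
    · rw [e, index_top] at h
      omega
  have oc : oddCore G = ⊥ := (pPrimeCore_normal 2 G).eq_bot_or_eq_top.resolve_right fun e => by
    have := H1.coprime_card_pPrimeCore (G := G) 2
    rw [e, card_top] at this
    exact (Nat.Prime.coprime_iff_not_dvd Nat.prime_two).1 this.symm (even_iff_two_dvd.1 ev)
  rcases Cfsg.Agent.S1296.result ev i2 oc with h | ⟨t, ht, h⟩ | h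
  · exact Or.inl h
  · have := sol _ (c2 t ht)
    exact absurd h not_comp
  · refine Or.inr ⟨⟨hq, ?_, prm, c3, n9, h⟩, ?_⟩
    · have := hq.two_le
      by_contra h5
      have : q = 4 := by omega
      exact absurd (this ▸ hq) (by norm_num)
    by_contra hn
    push Not at hn
    obtain ⟨t, ht⟩ := exists_prime_orderOf_dvd_card' 2 (even_iff_two_dvd.1 ev)
    obtain ⟨M, hM, -⟩ := H10.exists_maximalTwoLocal (L := normalizer (zpowers t : Set G))
      ⟨_, IsPGroup.of_card (n := 1) (by rw [Nat.card_zpowers, ht]; rfl), fun e => by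
        rw [zpowers_eq_bot.1 e, orderOf_one] at ht; omega, rfl⟩
    refine hn.1 M (Cfsg.Agent.S3756.result ev o2 (fun X hX => ⟨sol X (hn.2 X hX), ?_, ?_⟩) M hM)
    · obtain ⟨T, hT, T1, rfl⟩ := hX
      exact h.2 T hT T1
    · rintro ⟨K, N, _, ⟨e⟩⟩
      refine hn.2 X hX (Dvd.dvd.trans ?_ (((N.subgroupOf K).card_quotient_dvd_card).trans
        (card_subgroup_dvd_card K)))
      rw [Nat.card_congr e.toEquiv, Nat.card_perm, Nat.card_fin]
      norm_num [Nat.factorial]

end H8Set
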