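import Cfsg.Agent.H4.Dk1
import Cfsg.Agent.H22.IsoF
import Cfsg.Agent.H18.Small

/-! CA-groups: the `PSL₂` side. -/

set_option autoImplicit false
set_option linter.unusedSectionVars false

namespace H8.CA
open Subgroup Matrix H4 MulAction
open scoped MatrixGroups LinearAlgebra.Projectivization

/-- centralizers of noncentral elements are abelian -/
def CA (G : Type*) [Group G] : Prop :=
  ∀ x : G, x ∉ Subgroup.center G → IsMulCommutative (Subgroup.centralizer ({x} : Set G))

theorem ca_iff {G : Type*} [Group G] : CA G ↔ ∀ x a b : G, x * a = a * x → x * b = b * x →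
    a * b = b * a ∨ ∀ y, x * y = y * x := by
  constructor
  · intro h x a b ha hb
    by_cases hx : x ∈ center G
    · exact Or.inr fun y => (mem_center_iff.1 hx y).symm
    · left
      have := h x hx
      have e := this.is_comm.comm (⟨a, mem_centralizer_singleton_iff.2 ha.symm⟩ : centralizer ({x} : Set G))
        ⟨b, mem_centralizer_singleton_iff.2 hb.symm⟩
      exact congrArg Subtype.val e
  · intro h x hx
    refine ⟨⟨fun a b => Subtype.ext ?_⟩⟩
    rcases h x a b (mem_centralizer_singleton_iff.1 a.2).symm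
      (mem_centralizer_singleton_iff.1 b.2).symm with e | e
    · exact e
    · exact absurd (mem_center_iff.2 fun y => (e y).symm) hx

theorem CA.of_inj {G H : Type*} [Group G] [Group H] (h : CA G) (f : H →* G)
    (hf : Function.Injective f) : CA H := by
  rw [ca_iff] at h ⊢
  intro x a b ha hb
  rcases h (f x) (f a) (f b) (by rw [← map_mul, ha, map_mul]) (by rw [← map_mul, hb, map_mul])
    with e | e
  · left; exact hf (by rw [map_mul, e, map_mul])
  · right; intro y; exact hf (by rw [map_mul, e, map_mul])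

theorem CA.of_equiv {G H : Type*} [Group G] [Group H] (h : CA G) (e : H ≃* G) : CA H :=
  h.of_inj e.toMonoidHom e.injective

theorem CA.sub {G : Type*} [Group G] (h : CA G) (H : Subgroup G) : CA H :=
  h.of_inj H.subtype H.subtype_injective

theorem ca_sub_iff {G : Type*} [Group G] {H : Subgroup G} : CA H ↔ ∀ x ∈ H, ∀ a ∈ H, ∀ b ∈ H,
    x * a = a * x → x * b = b * x → a * b = b * a ∨ ∀ y ∈ H, x * y = y * x := by
  rw [ca_iff]
  constructor
  · intro h x hx a ha b hb e1 e2
    rcases h ⟨x, hx⟩ ⟨a, ha⟩ ⟨b, hb⟩ (Subtype.ext e1) (Subtype.ext e2) with e | e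
    · exact Or.inl (congrArg Subtype.val e)
    · exact Or.inr fun y hy => congrArg Subtype.val (e ⟨y, hy⟩)
  · intro h x a b e1 e2
    rcases h x x.2 a a.2 b b.2 (congrArg Subtype.val e1) (congrArg Subtype.val e2) with e | e
    · exact Or.inl (Subtype.ext e)
    · exact Or.inr fun y => Subtype.ext (e y y.2)

theorem CA.of_le {G : Type*} [Group G] {H K : Subgroup G} (h : CA K) (hle : H ≤ K) : CA H :=
  h.of_inj (inclusion hle) (inclusion_injective hle)

variable {F : Type*} [Field F]

theorem comm_cases {x a : GL (Fin 2) F} (h : pmk x * pmk a = pmk a * pmk x) :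
    x.1 * a.1 = a.1 * x.1 ∨ x.1 * a.1 = -(a.1 * x.1) := by
  rw [← map_mul, ← map_mul, eq_comm, pmk_eq_iff] at h
  obtain ⟨c, hc⟩ := h
  simp only [Units.val_mul] at hc
  have hd := congrArg Matrix.det hc
  rw [det_smul, det_mul, det_mul, Fintype.card_fin] at hd
  have h0 : x.1.det * a.1.det ≠ 0 := mul_ne_zero (gl_det_ne_zero x) (gl_det_ne_zero a)
  have : (c - 1) * (c + 1) = 0 := by
    apply mul_left_cancel₀ h0
    linear_combination -hd
  rcases mul_eq_zero.1 this with e | e
  · left; rw [hc, sub_eq_zero.1 e, one_smul]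
  · right; rw [hc, eq_neg_of_add_eq_zero_left e, neg_smul, one_smul]

theorem pcomm_of {x a : GL (Fin 2) F} (h : x.1 * a.1 = a.1 * x.1 ∨ x.1 * a.1 = -(a.1 * x.1)) :
    pmk x * pmk a = pmk a * pmk x := by
  rw [← map_mul, ← map_mul, eq_comm, pmk_eq_iff]
  rcases h with h | h
  · exact ⟨1, by simp [h]⟩
  · exact ⟨-1, by simp [h]⟩

theorem anti_tr (h2 : (2 : F) ≠ 0) {x a : GL (Fin 2) F} (h : x.1 * a.1 = -(a.1 * x.1)) :
    x.1.trace = 0 := by
  have e : x.1 = -(a.1 * x.1 * (a⁻¹).1) := by
    rw [← neg_mul, ← h, mul_assoc, Units.mul_inv, mul_one]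
  have t := congrArg Matrix.trace e
  rw [trace_neg, trace_mul_comm, ← mul_assoc, Units.inv_mul, one_mul] at t
  have : 2 * x.1.trace = 0 := by linear_combination t
  exact (mul_eq_zero.1 this).resolve_left h2

theorem sq_one_of_tr {x : GL (Fin 2) F} (h : x.1.trace = 0) : pmk x * pmk x = 1 := by
  rw [← map_mul, pmk_eq_one_iff, Units.val_mul, m2_cayley, h, zero_smul, zero_sub, ← neg_smul]
  exact sc_smul_one _

theorem neg_eq_of_two {A : M2 F} (h2 : (2 : F) = 0) : -A = A := by
  ext i j
  simp only [Matrix.neg_apply]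
  linear_combination (-(A i j)) * h2

/-- in `PGL₂`, elements commuting with a non-involution commute -/
theorem pgl_ab {x a b : PGL(2, F)} (hx : x * x ≠ 1 ∨ ((2 : F) = 0 ∧ x ≠ 1)) (ha : x * a = a * x)
    (hb : x * b = b * x) : a * b = b * a := by
  obtain ⟨x, rfl⟩ := ProjGenLinGroup.mk_surjective x
  obtain ⟨a, rfl⟩ := ProjGenLinGroup.mk_surjective a
  obtain ⟨b, rfl⟩ := ProjGenLinGroup.mk_surjective b
  have key : ∀ c : GL (Fin 2) F, pmk x * pmk c = pmk c * pmk x → x.1 * c.1 = c.1 * x.1 := by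
    intro c hc
    rcases comm_cases hc with e | e
    · exact e
    · by_cases h2 : (2 : F) = 0
      · rw [e, neg_eq_of_two h2]
      · rcases hx with hx | hx
        · exact absurd (sq_one_of_tr (anti_tr h2 e)) hx
        · exact absurd hx.1 h2
  have hs : ¬ Sc x.1 := fun hs => by
    have : pmk x = 1 := pmk_eq_one_iff.2 hs
    rcases hx with hx | hx
    · exact hx (by change pmk x * pmk x = 1; rw [this, mul_one])
    · exact hx.2 this
  exact pcomm_of (Or.inl (comm_of_comm hs (key a ha) (key b hb)))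

theorem psl_ab {x a b : PSL(2, F)} (hx : x * x ≠ 1 ∨ ((2 : F) = 0 ∧ x ≠ 1)) (ha : x * a = a * x)
    (hb : x * b = b * x) : a * b = b * a := by
  have hi := ProjectiveSpecialLinearGroup.toPGL_injective (n := Fin 2) (R := F)
  apply hi
  rw [map_mul, map_mul]
  refine pgl_ab (x := ProjectiveSpecialLinearGroup.toPGL x) ?_ (by rw [← map_mul, ha, map_mul])
    (by rw [← map_mul, hb, map_mul])
  rcases hx with hx | hx
  · left; intro e; exact hx (hi (by rw [map_mul, e, map_one]))
  · right; exact ⟨hx.1, fun e => hx.2 (hi (by rw [e, map_one]))⟩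

theorem ca_pgl_even (h2 : (2 : F) = 0) : CA PGL(2, F) := by
  rw [ca_iff]
  intro x a b ha hb
  by_cases hx : x = 1
  · right; intro y; rw [hx, one_mul, mul_one]
  · exact Or.inl (pgl_ab (Or.inr ⟨h2, hx⟩) ha hb)

theorem ca_psl_even (h2 : (2 : F) = 0) : CA PSL(2, F) :=
  (ca_pgl_even h2).of_inj _ ProjectiveSpecialLinearGroup.toPGL_injective

theorem ca_sl : CA SL(2, F) := by
  rw [ca_iff]
  intro x a b ha hb
  by_cases hx : Sc x.1
  · right; intro y; exact Subtype.ext (hx.comm y.1)
  · left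
    exact Subtype.ext (comm_of_comm hx (congrArg Subtype.val ha) (congrArg Subtype.val hb))

theorem ca_stab (v : ℙ F (Fin 2 → F)) : CA (stabilizer PGL(2, F) v) := by
  rw [ca_sub_iff]
  intro x hx a ha b hb e1 e2
  obtain ⟨x, rfl⟩ := ProjGenLinGroup.mk_surjective x
  obtain ⟨a, rfl⟩ := ProjGenLinGroup.mk_surjective a
  obtain ⟨b, rfl⟩ := ProjGenLinGroup.mk_surjective b
  induction v using Projectivization.ind with
  | h v hv =>
  by_cases hs : Sc x.1
  · right; intro y _
    have : pmk x = 1 := pmk_eq_one_iff.2 hs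
    change pmk x * y = y * pmk x
    rw [this, one_mul, mul_one]
  left
  obtain ⟨l, hl⟩ := (pmk_fix_iff hv).1 hx
  have key : ∀ c : GL (Fin 2) F, pmk c ∈ stabilizer PGL(2, F) (Projectivization.mk F v hv) →
      pmk x * pmk c = pmk c * pmk x → x.1 * c.1 = c.1 * x.1 := by
    intro c hc hc'
    obtain ⟨m, hm⟩ := (pmk_fix_iff hv).1 hc
    rcases comm_cases hc' with e | e
    · exact e
    · by_cases h2 : (2 : F) = 0
      · rw [e, neg_eq_of_two h2]
      · exfalso
        have e' := congrArg (· *ᵥ v) e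
        simp only [neg_mulVec, ← mulVec_mulVec, hl, hm, mulVec_smul, smul_smul] at e'
        have e2 : (2 * (l * m)) • v = 0 := by
          rw [two_mul, add_smul]
          nth_rewrite 1 [mul_comm l m, e']
          exact neg_add_cancel _
        have hlm : l * m = 0 :=
          (mul_eq_zero.1 ((smul_eq_zero.1 e2).resolve_right hv)).resolve_left h2
        rcases mul_eq_zero.1 hlm with h0 | h0
        · apply hv
          apply gl_mulVec_injective x
          simp [hl, h0]
        · apply hv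
          apply gl_mulVec_injective c
          simp [hm, h0]
  exact pcomm_of (Or.inl (comm_of_comm hs (key a ha e1) (key b hb e2)))

theorem adj_lin (A : M2 F) (a b : F) :
    (a • (1 : M2 F) + b • A).adjugate = a • (1 : M2 F) + b • A.adjugate := by
  rw [adj_eq, adj_eq, trace_lin, smul_sub, smul_smul]
  module

/-- an element of reflection type conjugates the torus by the adjugate -/
theorem refl_tor {g y a : M2 F} (hg : ¬ Sc g) (hy : y * g = g.adjugate * y) (ha : a * g = g * a) :
    y * a = a.adjugate * y := by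
  obtain ⟨s, t, rfl⟩ := (comm_iff hg).1 ha.symm
  rw [adj_lin, mul_add, add_mul, mul_smul_comm, mul_smul_comm, hy, smul_mul_assoc, smul_mul_assoc,
    mul_one, one_mul]

theorem ca_pN (h2 : (2 : F) ≠ 0) {g : GL (Fin 2) F} (hg : ¬ Sc g.1) : CA (pN g) := by
  rw [ca_sub_iff]
  -- a torus element with `adj a = ± a` is central
  have cen : ∀ a : GL (Fin 2) F, a.1 * g.1 = g.1 * a.1 →
      (a.1.adjugate = a.1 ∨ a.1.adjugate = -a.1) → ∀ y ∈ pN g, pmk a * y = y * pmk a := by
    rintro a ha hadj _ ⟨y, hy, rfl⟩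
    apply pcomm_of
    rcases mem_glN.1 hy with e | e
    · exact Or.inl (comm_of_comm hg ha.symm e.symm)
    · have := refl_tor hg e ha
      rcases hadj with h | h
      · left; rw [this, h]
      · right; rw [this, h, neg_mul, neg_neg]
  -- a torus element commuting with a reflection is central
  have cen2 : ∀ x a : GL (Fin 2) F, x.1 * g.1 = g.1.adjugate * x.1 → a.1 * g.1 = g.1 * a.1 →
      pmk x * pmk a = pmk a * pmk x → ∀ y ∈ pN g, pmk a * y = y * pmk a := by
    intro x a hx ha hc
    refine cen a ha ?_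
    have := refl_tor hg hx ha
    rcases comm_cases hc with e | e
    · left; exact (Units.mul_left_inj x).1 (this.symm.trans e)
    · right; exact (Units.mul_left_inj x).1 (by rw [← this, e, neg_mul])
  rintro _ ⟨x, hx, rfl⟩ _ ⟨a, ha, rfl⟩ _ ⟨b, hb, rfl⟩ e1 e2
  have ha' : pmk a ∈ pN g := ⟨a, ha, rfl⟩
  have hb' : pmk b ∈ pN g := ⟨b, hb, rfl⟩
  rcases mem_glN.1 hx with tx | rx
  · by_cases hs : Sc x.1
    · right; intro y _
      rw [pmk_eq_one_iff.2 hs, one_mul, mul_one]
    have tr : ∀ c : GL (Fin 2) F, x.1 * c.1 = -(c.1 * x.1) → ∀ y ∈ pN g, pmk x * y = y * pmk x := by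
      intro c hc
      refine cen x tx (Or.inr ?_)
      rw [adj_eq, anti_tr h2 hc, zero_smul, zero_sub]
    rcases comm_cases e1 with c1 | c1
    · rcases comm_cases e2 with c2 | c2
      · exact Or.inl (pcomm_of (Or.inl (comm_of_comm hs c1 c2)))
      · exact Or.inr (tr b c2)
    · exact Or.inr (tr a c1)
  · left
    rcases mem_glN.1 ha with ta | ra
    · exact cen2 x a rx ta e1 _ hb'
    rcases mem_glN.1 hb with tb | rb
    · exact (cen2 x b rx tb e2 _ ha').symm
    have tab : (a * b).1 * g.1 = g.1 * (a * b).1 := by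
      have hadj : g.1.adjugate * g.1 = g.1 * g.1.adjugate := by
        rw [adjugate_mul, mul_adjugate]
      have := refl_tor hg ra hadj
      rw [adjugate_adjugate _ (by simp), Fintype.card_fin] at this
      simp only [Nat.sub_self, pow_zero, one_smul] at this
      rw [Units.val_mul, mul_assoc, rb, ← mul_assoc, this, mul_assoc]
    have := cen2 x (a * b) rx tab (by rw [map_mul, ← mul_assoc, e1, mul_assoc, e2, mul_assoc]) _ ha'
    rw [map_mul, mul_assoc] at this
    exact (mul_left_cancel this).symm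

theorem ca_a5 : CA (alternatingGroup (Fin 5)) := by
  letI : Fintype (GaloisField 2 2) := Fintype.ofFinite _
  have hc : Fintype.card (GaloisField 2 2) = 4 := by
    rw [Fintype.card_eq_nat_card, GaloisField.card 2 2 (by norm_num)]; norm_num
  obtain ⟨e⟩ := H18.psl_a5 (F := GaloisField 2 2) (Or.inl hc)
  exact (ca_psl_even (CharTwo.two_eq_zero)).of_equiv e.symm

theorem ca_a4 : CA (alternatingGroup (Fin 4)) := by
  classical
  let f := (Fin.castLEEmb (by norm_num : 4 ≤ 5)).toEquivRange
  refine ca_a5.of_inj (((Equiv.Perm.extendDomainHom f).comp (alternatingGroup (Fin 4)).subtype).codRestrict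
    (alternatingGroup (Fin 5)) fun x => ?_) fun x y h => ?_
  · have := x.2
    rw [Equiv.Perm.mem_alternatingGroup] at this ⊢
    exact (Equiv.Perm.sign_extendDomain x.1 f).trans this
  · exact Subtype.ext (Equiv.Perm.extendDomainHom_injective f (congrArg Subtype.val h))

/-- a noncommuting pair in the centraliser of an involution of `PSL₂(q)`, `q > 5` odd -/
theorem exists_rot [Fintype F] (h2 : (2 : F) ≠ 0) (h5 : 5 < Fintype.card F) :
    ∃ α β : F, α * α + β * β = 1 ∧ α ≠ 0 ∧ β ≠ 0 := by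
  have : ¬ ∀ x : Fˣ, x ^ 4 = 1 := by
    rw [FiniteField.forall_pow_eq_one_iff]
    intro h
    have := Nat.le_of_dvd (by norm_num) h
    omega
  push Not at this
  obtain ⟨t, ht⟩ := this
  have ht' : (t : F) ^ 4 ≠ 1 := fun e => ht (Units.ext (by simpa using e))
  have h1 : 1 + (t : F) ^ 2 ≠ 0 := fun e => ht' (by linear_combination ((t : F) ^ 2 - 1) * e)
  have h3 : 1 - (t : F) ^ 2 ≠ 0 := fun e => ht' (by linear_combination (-(t : F) ^ 2 - 1) * e)
  refine ⟨(1 - t ^ 2) / (1 + t ^ 2), 2 * t / (1 + t ^ 2), ?_, div_ne_zero h3 h1,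
    div_ne_zero (mul_ne_zero h2 t.ne_zero) h1⟩
  field_simp
  ring

theorem exists_refl [Finite F] : ∃ u v : F, u * u + v * v = -1 := by
  obtain ⟨p, hp⟩ := CharP.exists F
  have : NeZero p := ⟨(CharP.char_is_prime F p).ne_zero⟩
  obtain ⟨a, b, h⟩ := CharP.sq_add_sq F p (-1)
  exact ⟨a, b, by push_cast at h; linear_combination h⟩

/-- the projection `SL₂ → PSL₂` -/
abbrev smk' : SL(2, F) →* PSL(2, F) := QuotientGroup.mk' _

theorem smk'_eq_iff {g h : SL(2, F)} : smk' g = smk' h ↔ h = g ∨ h = -g := by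
  rw [← smk_eq_iff]
  exact (ProjectiveSpecialLinearGroup.toPGL_injective (n := Fin 2) (R := F)).eq_iff.symm

theorem smk'_comm_iff {g h : SL(2, F)} : smk' g * smk' h = smk' h * smk' g ↔
    h.1 * g.1 = g.1 * h.1 ∨ h.1 * g.1 = -(g.1 * h.1) := by
  rw [← map_mul, ← map_mul, smk'_eq_iff]
  exact or_congr Subtype.ext_iff Subtype.ext_iff

/-- an element of `SL₂` -/
def mkS (a b c d : F) (h : a * d - b * c = 1) : SL(2, F) := ⟨!![a, b; c, d], by simp [det_fin_two, h]⟩

theorem not_ca_psl [Fintype F] (h2 : (2 : F) ≠ 0) (h5 : 5 < Fintype.card F) : ¬ CA PSL(2, F) := by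
  obtain ⟨α, β, h, hα, hβ⟩ := exists_rot h2 h5
  obtain ⟨u, v, huv⟩ := exists_refl (F := F)
  rw [ca_iff]
  intro hca
  have := hca (smk' (mkS 0 1 (-1) 0 (by ring))) (smk' (mkS α β (-β) α (by linear_combination h)))
    (smk' (mkS u v v (-u) (by linear_combination -huv)))
    (smk'_comm_iff.2 (Or.inl (by simp [mkS, m2_eq_iff])))
    (smk'_comm_iff.2 (Or.inr (by simp [mkS, m2_eq_iff])))
  rcases this with e | e
  · rcases smk'_comm_iff.1 e with e | e
    · simp only [mkS, m2_eq_iff, m2_mul, of_apply, cons_val', cons_val_zero, cons_val_one,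
        cons_val_fin_one] at e
      obtain ⟨e1, e2, -, -⟩ := e
      have a1 : v = 0 := by
        have : 2 * β * v = 0 := by linear_combination -e1
        simpa [h2, hβ] using this
      have a2 : u = 0 := by
        have : 2 * β * u = 0 := by linear_combination e2
        simpa [h2, hβ] using this
      rw [a1, a2] at huv
      simp at huv
    · simp only [mkS, m2_eq_iff, m2_mul, of_apply, cons_val', cons_val_zero, cons_val_one,
        cons_val_fin_one, Matrix.neg_apply] at e
      obtain ⟨e1, e2, -, -⟩ := e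
      have a1 : u = 0 := by
        have : 2 * α * u = 0 := by linear_combination e1
        simpa [h2, hα] using this
      have a2 : v = 0 := by
        have : 2 * α * v = 0 := by linear_combination e2
        simpa [h2, hα] using this
      rw [a1, a2] at huv
      simp at huv
  · rcases smk'_comm_iff.1 (e (smk' (mkS 1 1 0 1 (by ring)))) with e | e
    · simp [mkS, m2_eq_iff] at e
    · simp [mkS, m2_eq_iff] at e

/-- the list of field orders -/
def QL (q : ℕ) : Prop :=
  (q.Prime ∧ 5 < q ∧ ¬ 16 ∣ q ^ 2 - 1) ∨ (∃ p : ℕ, p.Prime ∧ p ≠ 2 ∧ (q = 3 ^ p ∨ q = 5 ^ p))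

theorem not16 {q : ℕ} (h : q % 8 = 3 ∨ q % 8 = 5) : ¬ 16 ∣ q ^ 2 - 1 := by
  intro hd
  have h1 : q ^ 2 % 16 = 9 := by
    rw [Nat.pow_mod]
    have : q % 16 = 3 ∨ q % 16 = 11 ∨ q % 16 = 5 ∨ q % 16 = 13 := by omega
    rcases this with e | e | e | e <;> rw [e]
  omega

theorem mod8_of_not16 {q : ℕ} (ho : q % 2 = 1) (h : ¬ 16 ∣ q ^ 2 - 1) : q % 8 = 3 ∨ q % 8 = 5 := by
  by_contra hn
  apply h
  have h1 : q ^ 2 % 16 = 1 := by
    rw [Nat.pow_mod]
    have : q % 16 = 1 ∨ q % 16 = 7 ∨ q % 16 = 9 ∨ q % 16 = 15 := by omega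
    rcases this with e | e | e | e <;> rw [e]
  omega

theorem pow_mod8 {r p : ℕ} (hr : r = 3 ∨ r = 5) (hp : p % 2 = 1) : r ^ p % 8 = r := by
  obtain ⟨k, rfl⟩ : ∃ k, p = 2 * k + 1 := ⟨p / 2, by omega⟩
  rw [pow_succ, pow_mul, Nat.mul_mod, Nat.pow_mod]
  rcases hr with rfl | rfl <;> simp

theorem QL.mod8 {q : ℕ} (h : QL q) : (q % 8 = 3 ∨ q % 8 = 5) ∧ 5 < q := by
  rcases h with ⟨hp, h5, h16⟩ | ⟨p, hp, h2, h⟩
  · exact ⟨mod8_of_not16 (Nat.odd_iff.1 (hp.odd_of_ne_two (by omega))) h16, h5⟩
  · have ho := Nat.odd_iff.1 (hp.odd_of_ne_two h2)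
    have h3 : 2 ≤ p := hp.two_le
    rcases h with rfl | rfl
    · exact ⟨Or.inl (pow_mod8 (Or.inl rfl) ho),
        lt_of_lt_of_le (by norm_num) (Nat.pow_le_pow_right (by norm_num) h3)⟩
    · exact ⟨Or.inr (pow_mod8 (Or.inr rfl) ho),
        lt_of_lt_of_le (by norm_num) (Nat.pow_le_pow_right (by norm_num) h3)⟩

theorem not8_psl [Fintype F] (h : Fintype.card F % 8 = 3 ∨ Fintype.card F % 8 = 5) :
    ¬ 8 ∣ Nat.card PSL(2, F) := by
  intro hd
  have c := card_psl (F := F)
  have g : Nat.gcd 2 (Fintype.card F - 1) = 2 := Nat.gcd_eq_left (by omega)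
  rw [g] at c
  have h16 : 16 ∣ Fintype.card F * (Fintype.card F ^ 2 - 1) := by
    rw [← c]; exact Nat.mul_dvd_mul_left 2 hd
  refine not16 h ((Nat.Coprime.dvd_mul_left ?_).1 h16)
  have : Nat.Coprime 2 (Fintype.card F) := Nat.coprime_two_left.2 (Nat.odd_iff.2 (by omega))
  exact Nat.Coprime.pow_left 4 this

theorem ca_psl_small [Fintype F] (h : Fintype.card F = 3 ∨ Fintype.card F = 5) : CA PSL(2, F) := by
  rcases h with h | h
  · obtain ⟨e⟩ := H22.psl_two_three h
    exact ca_a4.of_equiv e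
  · obtain ⟨e⟩ := H18.psl_a5 (Or.inr h)
    exact ca_a5.of_equiv e

theorem proper_ca [Fintype F] (hq : QL (Fintype.card F)) (H : Subgroup PSL(2, F)) (hH : H ≠ ⊤) :
    CA H := by
  classical
  obtain ⟨h8, h5⟩ := hq.mod8
  have h2 : (2 : F) ≠ 0 := two_ne_zero_of_odd (Nat.odd_iff.2 (by omega))
  have hi := ProjectiveSpecialLinearGroup.toPGL_injective (n := Fin 2) (R := F)
  set H' := H.map (ProjectiveSpecialLinearGroup.toPGL (n := Fin 2) (R := F)) with hH'
  let e : H ≃* H' := H.equivMapOfInjective _ hi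
  have hc : Nat.card H' = Nat.card H := (Nat.card_congr e.toEquiv).symm
  have n8 : ¬ 8 ∣ Nat.card H' := fun hd =>
    not8_psl h8 (hd.trans (hc ▸ card_subgroup_dvd_card H))
  suffices CA H' from this.of_equiv e
  obtain ⟨p, hp⟩ := CharP.exists F
  have : Fact p.Prime := ⟨CharP.char_is_prime F p⟩
  rcases dickson_pgl p H' with ⟨x, h⟩ | ⟨g, hg, h⟩ | ⟨-, ⟨⟨f⟩⟩ | ⟨⟨f⟩⟩ | ⟨⟨f⟩⟩⟩ | ⟨-, ⟨f⟩⟩ |
    ⟨E, P, h3, h⟩
  · exact (ca_stab x).of_le h
  · exact (ca_pN h2 (not_sc_of_disc hg)).of_le h
  · exact ca_a4.of_equiv f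
  · exfalso
    apply n8
    rw [Nat.card_congr f.toEquiv, Nat.card_perm]
    simp only [Nat.card_eq_fintype_card, Fintype.card_fin]
    decide
  · exact ca_a5.of_equiv f
  · exact ca_a5.of_equiv f
  letI : Fintype E := Fintype.ofFinite E
  have hE : Fintype.card F = Fintype.card E ^ Module.finrank E F := Module.card_eq_pow_finrank
  have hn : 0 < Module.finrank E F := Module.finrank_pos
  have hEo : Nat.card E % 2 = 1 := by
    have : Odd (Fintype.card F) := Nat.odd_iff.2 (by omega)
    rw [hE, Nat.odd_pow_iff hn.ne'] at this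
    rw [Nat.card_eq_fintype_card]; exact Nat.odd_iff.1 this
  rcases h with h | h
  · have ec : H' ≃* pslS E := (MulEquiv.subgroupCongr h).trans
      ((pslS E).equivMapOfInjective _ (MulAut.conj P).injective).symm
    by_cases h1 : Module.finrank E F = 1
    · exfalso
      apply hH
      rw [h1, pow_one] at hE
      have c1 := card_pslS E
      have c2 := card_psl (F := F)
      rw [Nat.card_eq_fintype_card (α := E), ← hE, ← c2] at c1
      have c3 := Nat.eq_of_mul_eq_mul_left (Nat.gcd_pos_of_pos_left _ (by norm_num)) c1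
      exact eq_top_of_card_eq H (by rw [← hc, Nat.card_congr ec.toEquiv, c3])
    have hsm : Fintype.card E = 3 ∨ Fintype.card E = 5 := by
      rcases hq with ⟨hp, -, -⟩ | ⟨l, hl, -, hq⟩
      · rw [hE] at hp
        exact absurd (Nat.Prime.eq_one_of_pow hp) h1
      · have key : ∀ r : ℕ, r.Prime → Fintype.card F = r ^ l → Fintype.card E = r := by
          intro r hr hF
          have hd : Fintype.card E ∣ r ^ l := by rw [← hF, hE]; exact dvd_pow_self _ hn.ne'
          obtain ⟨k, -, hk⟩ := (Nat.dvd_prime_pow hr).1 hd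
          rw [hF, hk, ← pow_mul] at hE
          have := Nat.pow_right_injective hr.two_le hE
          have hk1 : k = 1 := by
            rcases (Nat.prime_mul_iff.1 (this ▸ hl)) with h | h
            · exact absurd h.2 h1
            · exact h.2
          rw [hk, hk1, pow_one]
        rcases hq with hq | hq
        · exact Or.inl (key 3 Nat.prime_three hq)
        · exact Or.inr (key 5 Nat.prime_five hq)
    obtain ⟨f⟩ := nonempty_pslS_equiv E.subtype
    rw [Subfield.fieldRange_subtype] at f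
    exact (ca_psl_small hsm).of_equiv (ec.trans f)
  · exfalso
    apply n8
    have ec : H' ≃* pglS E := (MulEquiv.subgroupCongr h).trans
      ((pglS E).equivMapOfInjective _ (MulAut.conj P).injective).symm
    rw [Nat.card_congr ec.toEquiv, card_pglS]
    refine Dvd.dvd.mul_left ?_ _
    have : Nat.card E ^ 2 % 8 = 1 := by
      rw [Nat.pow_mod]
      have : Nat.card E % 8 = 1 ∨ Nat.card E % 8 = 3 ∨ Nat.card E % 8 = 5 ∨ Nat.card E % 8 = 7 := by
        omega
      rcases this with e | e | e | e <;> rw [e]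
    omega

theorem CA.of_comm {G : Type*} [Group G] (h : ∀ a b : G, a * b = b * a) : CA G :=
  ca_iff.2 fun _ a b _ _ => Or.inl (h a b)

theorem conv [Fintype F] (hq : QL (Fintype.card F)) : ¬ Group.IsSolvable PSL(2, F) ∧
    ¬ CA PSL(2, F) ∧ ∀ H : Subgroup PSL(2, F), H ≠ ⊤ → CA H := by
  obtain ⟨h8, h5⟩ := hq.mod8
  have h2 : (2 : F) ≠ 0 := two_ne_zero_of_odd (Nat.odd_iff.2 (by omega))
  refine ⟨fun hs => ?_, not_ca_psl h2 h5, proper_ca hq⟩
  have := H22.PSL_fin_isSimpleGroup (F := F) 2 le_rfl fun _ => by omega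
  exact not_ca_psl h2 h5 (CA.of_comm (IsSimpleGroup.comm_iff_isSolvable.2 hs))

/-- the converse direction of the statement, for any group isomorphic to `PSL₂(q)` -/
theorem conv' {G : Type*} [Group G] [Fintype F] (e : G ≃* PSL(2, F)) (hq : QL (Fintype.card F)) :
    ¬ Group.IsSolvable G ∧ ¬ CA G ∧ ∀ H : Subgroup G, H ≠ ⊤ → CA H := by
  obtain ⟨h1, h2, h3⟩ := conv hq
  refine ⟨fun hs => h1 (Group.isSolvable_of_surjective (f := e.toMonoidHom) e.surjective),
    fun h => h2 (h.of_equiv e.symm), fun H hH => ?_⟩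
  refine (h3 (H.map e.toMonoidHom) fun ht => hH ?_).of_equiv (H.equivMapOfInjective _ e.injective)
  rw [← comap_map_eq_self_of_injective (f := e.toMonoidHom) e.injective H, ht, comap_top]

theorem cond [Fintype F] (h8 : Fintype.card F % 8 = 3 ∨ Fintype.card F % 8 = 5)
    (h5 : 5 < Fintype.card F) (h : ∀ H : Subgroup PSL(2, F), H ≠ ⊤ → CA H) :
    QL (Fintype.card F) := by
  classical
  obtain ⟨r, hr⟩ := CharP.exists F
  have hr' : Fact r.Prime := ⟨CharP.char_is_prime F r⟩
  letI : Algebra (ZMod r) F := ZMod.algebra F r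
  have hF := FiniteField.pow_finrank_eq_card r F
  set n := Module.finrank (ZMod r) F with hn
  have hn0 : 0 < n := Module.finrank_pos
  by_cases h1 : n = 1
  · left
    rw [h1, pow_one] at hF
    exact ⟨hF ▸ hr'.out, h5, not16 h8⟩
  right
  obtain ⟨l, hl, m, hm⟩ := Nat.exists_prime_and_dvd h1
  have hm0 : m ≠ 0 := by rintro rfl; omega
  have hdv : Module.finrank (ZMod r) (GaloisField r m) ∣ n := by
    rw [GaloisField.finrank r hm0, hm]; exact Dvd.intro_left l rfl
  obtain ⟨φ⟩ := FiniteField.nonempty_algHom_of_finrank_dvd hdv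
  letI : Fintype (GaloisField r m) := Fintype.ofFinite _
  have hK : Fintype.card (GaloisField r m) = r ^ m := by
    rw [Fintype.card_eq_nat_card, GaloisField.card r m hm0]
  have hi := ProjectiveSpecialLinearGroup.toPGL_injective (n := Fin 2) (R := F)
  let E := (φ : GaloisField r m →+* F).fieldRange
  obtain ⟨f⟩ := nonempty_pslS_equiv (φ : GaloisField r m →+* F)
  let H := (pslS E).comap (ProjectiveSpecialLinearGroup.toPGL (n := Fin 2) (R := F))
  have hle : pslS E ≤ (ProjectiveSpecialLinearGroup.toPGL (n := Fin 2) (R := F)).range := by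
    intro x hx
    obtain ⟨g, rfl, -⟩ := mem_pslS.1 hx
    exact ⟨smk' g, rfl⟩
  have hmap : H.map (ProjectiveSpecialLinearGroup.toPGL (n := Fin 2) (R := F)) = pslS E :=
    map_comap_eq_self hle
  have ec : H ≃* PSL(2, GaloisField r m) :=
    ((H.equivMapOfInjective _ hi).trans (MulEquiv.subgroupCongr hmap)).trans f
  have hro : r % 2 = 1 := by
    have : Odd (r ^ n) := by rw [hF]; exact Nat.odd_iff.2 (by omega)
    exact Nat.odd_iff.1 ((Nat.odd_pow_iff hn0.ne').1 this)
  have hKo : Odd (Fintype.card (GaloisField r m)) := by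
    rw [hK]; exact (Nat.odd_iff.2 hro).pow
  have hlt : r ^ m < Fintype.card F := by
    rw [← hF, hm]
    refine Nat.pow_lt_pow_right hr'.out.one_lt ?_
    have := hl.two_le
    nlinarith [Nat.pos_of_ne_zero hm0]
  have hH : H ≠ ⊤ := by
    intro ht
    have c1 := card_psl (F := GaloisField r m)
    have c2 := card_psl (F := F)
    have c3 : Nat.card PSL(2, GaloisField r m) = Nat.card PSL(2, F) := by
      rw [← Nat.card_congr ec.toEquiv, ht, card_top]
    have g1 : Nat.gcd 2 (Fintype.card F - 1) = 2 := Nat.gcd_eq_left (by omega)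
    have g2 : Nat.gcd 2 (Fintype.card (GaloisField r m) - 1) = 2 :=
      Nat.gcd_eq_left (by have := Nat.odd_iff.1 hKo; omega)
    rw [g1] at c2
    rw [g2, c3, c2, hK] at c1
    have a1 : (r ^ m) ^ 2 - 1 ≤ Fintype.card F ^ 2 - 1 :=
      Nat.sub_le_sub_right (Nat.pow_le_pow_left hlt.le 2) 1
    have a2 : 0 < Fintype.card F ^ 2 - 1 := by
      have : 1 < Fintype.card F ^ 2 := Nat.one_lt_pow (by norm_num) (by omega)
      omega
    have := Nat.mul_lt_mul_of_lt_of_le hlt a1 a2
    omega
  have hca := (h H hH).of_equiv ec.symm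
  have hsm : r ^ m ≤ 5 := by
    by_contra hc
    exact not_ca_psl (two_ne_zero_of_odd hKo) (by omega) hca
  have r3 : 3 ≤ r := by have := hr'.out.two_le; omega
  have hm1 : m = 1 := by
    by_contra hc
    have : 3 ^ 2 ≤ r ^ m :=
      (Nat.pow_le_pow_left r3 2).trans (Nat.pow_le_pow_right (by omega) (by omega))
    omega
  subst hm1
  rw [mul_one] at hm
  rw [pow_one] at hsm
  have hr35 : r = 3 ∨ r = 5 := by omega
  rw [hm] at hF
  refine ⟨l, hl, ?_, ?_⟩
  · rintro rfl
    rcases hr35 with rfl | rfl <;> omega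
  · rcases hr35 with rfl | rfl
    · exact Or.inl hF.symm
    · exact Or.inr hF.symm

end H8.CA
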