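import Cfsg.Agent.S2775
import Cfsg.Agent.S0483
import Cfsg.Agent.H8.CA5
import Cfsg.Agent.H5.CoresOf
import Cfsg.Agent.H10.Cores

/-! A strongly closed four-group normalizing an odd `p`-group. -/

set_option autoImplicit false
set_option linter.unusedSectionVars false

namespace H8
open Subgroup Cfsg
open scoped MatrixGroups

universe u

theorem l2four_odd {X : Type*} [Group X] {p : ℕ} [hp' : Fact p.Prime] (hp : p ≠ 2) {Z : Subgroup X}
    (hZ : IsPGroup p Z) {y : X} (hy : y ∈ Z) (h : y * y = 1) : y = 1 := by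
  obtain ⟨k, hk⟩ := hZ ⟨y, hy⟩
  have e : y ^ p ^ k = 1 := congrArg Subtype.val hk
  have h2 : y ^ 2 = 1 := by rw [pow_two, h]
  have := pow_gcd_eq_one.2 ⟨e, h2⟩
  rwa [Nat.Coprime.gcd_eq_one (Nat.Coprime.pow_left _
    ((Nat.coprime_primes hp'.out Nat.prime_two).2 hp)), pow_one] at this

theorem l2four {X : Type u} [Group X] [Finite X] (hO : Cfsg.pPrimeCore 2 X = ⊥) (S : Sylow 2 X)
    (hS : ∀ a ∈ (S : Subgroup X), a * a = 1) {V : Subgroup X} (hV : Cfsg.IsStronglyClosed V S)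
    (cV : Nat.card V = 4) {x : X} (hxV : x ∈ normalizer (V : Set X))
    (hx : ∀ v ∈ V, v ≠ 1 → x * v * x⁻¹ ≠ v) {p : ℕ} [Fact p.Prime] (hp : p ≠ 2) {Z : Subgroup X}
    (hZ : IsPGroup p Z) (hVZ : V ≤ normalizer (Z : Set X)) {d1 d2 v1 v2 : X} (m1 : d1 ∈ Z)
    (m2 : d2 ∈ Z) (a1 : v1 ∈ V) (a2 : v2 ∈ V) (n1 : v1 ≠ 1) (n2 : v2 ≠ 1) (n12 : v1 ≠ v2)
    (c1 : d1 * v1 = v1 * d1) (c2 : d2 * v2 = v2 * d2) :
    d1 * v2 = v2 * d1 ∨ d2 * v1 = v1 * d2 := by
  classical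
  have sq : ∀ v ∈ V, v * v = 1 := fun v hv => hS v (hV.1 hv)
  have iv : ∀ v ∈ V, v⁻¹ = v := fun v hv => inv_eq_of_mul_eq_one_right (sq v hv)
  have cm : ∀ a ∈ V, ∀ b ∈ V, a * b = b * a := fun a ha b hb => by
    rw [← iv _ (V.mul_mem ha hb), mul_inv_rev, iv a ha, iv b hb]
  have hA : IsMulCommutative V := ⟨⟨fun a b => Subtype.ext (cm a a.2 b b.2)⟩⟩
  set K := normalClosure (V : Set X) with hK
  have hVK : V ≤ K := le_normalClosure
  have hOK : pPrimeCore 2 K = ⊥ := by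
    have h1 : H5.oppOf 2 K ≤ H5.oppOf 2 (⊤ : Subgroup X) :=
      H5.le_oppOf le_top (H5.le_normalizer_oppOf 2 (by rw [normalizer_eq_top]))
        (H5.coprime_card_oppOf 2 K)
    rw [H5.oppOf_top, hO, le_bot_iff] at h1
    exact (map_eq_bot_iff_of_injective _ K.subtype_injective).1 h1
  obtain ⟨h1, -, ⟨T, hT1, hT2⟩, -⟩ := Cfsg.Agent.S2775.result S V hA hV K rfl K (MonoidHom.id K)
    Function.surjective_id (by rw [hOK]; exact MonoidHom.ker_id)
  rw [map_id] at hT1 hT2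
  have hTV : (T : Subgroup K) = V.subgroupOf K := by
    refine le_antisymm (fun t ht => ?_) hT1
    rw [hT2]
    refine mem_sup_right (subset_closure ⟨ht, ?_⟩)
    have hp2 : IsPGroup 2 ((T : Subgroup K).map K.subtype) := T.isPGroup'.map _
    obtain ⟨Q, hQ⟩ := hp2.exists_le_sylow
    obtain ⟨g, hg⟩ := MulAction.exists_smul_eq X Q S
    have hm : g * t * g⁻¹ ∈ (S : Subgroup X) := by
      rw [← hg, Sylow.coe_subgroup_smul, mem_pointwise_smul_iff_inv_smul_mem]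
      simpa [mul_assoc] using hQ ⟨t, ht, rfl⟩
    have := hS _ hm
    apply Subtype.ext
    have e : g * (t * t) * g⁻¹ = 1 := by rw [← this]; group
    simpa [pow_two] using e
  -- the commutators
  have y1Z : d1 * v2 * d1⁻¹ * v2⁻¹ ∈ Z := by
    have := (mem_normalizer_iff.1 (hVZ a2) d1⁻¹).1 (Z.inv_mem m1)
    simpa [mul_assoc] using Z.mul_mem m1 this
  have y2Z : d2 * v1 * d2⁻¹ * v1⁻¹ ∈ Z := by
    have := (mem_normalizer_iff.1 (hVZ a1) d2⁻¹).1 (Z.inv_mem m2)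
    simpa [mul_assoc] using Z.mul_mem m2 this
  have fin : ∀ d v : X, d * v * d⁻¹ * v⁻¹ = 1 → d * v = v * d := fun d v h => by
    rw [mul_inv_eq_one, mul_inv_eq_iff_eq_mul] at h; exact h
  have hOV : pCoreOf 2 K ≤ V := by
    rintro _ ⟨t, ht, rfl⟩
    have : t ∈ V.subgroupOf K := by rw [hT2]; exact mem_sup_left ht
    exact this
  have hOn : (pCoreOf 2 K).Normal := by
    rw [← normalizer_eq_top_iff, eq_top_iff]
    exact H10.le_NN_pCoreOf' (by rw [normalizer_eq_top])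
  by_cases hO2 : pCoreOf 2 K = ⊥
  swap
  · left
    obtain ⟨⟨v, hv⟩, hv1⟩ := (ne_bot_iff_exists_ne_one).1 hO2
    have hv1' : v ≠ 1 := fun e => hv1 (Subtype.ext e)
    have hw := hOn.conj_mem v hv x
    have hc : 3 ≤ Nat.card (pCoreOf 2 K) := by
      have : Finite (pCoreOf 2 K) := inferInstance
      have h3 : ({1, ⟨v, hv⟩, ⟨_, hw⟩} : Finset (pCoreOf 2 K)).card = 3 := by
        rw [Finset.card_eq_three]
        refine ⟨_, _, _, hv1.symm, fun e => ?_, fun e => ?_, rfl⟩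
        · have := congrArg Subtype.val e
          exact hv1' (by simpa using this.symm)
        · exact hx v (hOV hv) hv1' (congrArg Subtype.val e).symm
      letI := Fintype.ofFinite (pCoreOf 2 K)
      rw [Nat.card_eq_fintype_card, ← h3]
      exact Finset.card_le_univ _
    have hd : Nat.card (pCoreOf 2 K) ∣ 4 := cV ▸ card_dvd_of_le hOV
    have h4 : Nat.card (pCoreOf 2 K) = 4 := by
      have := Nat.le_of_dvd (by norm_num) hd
      interval_cases h : Nat.card (pCoreOf 2 K)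
      · omega
      · rfl
    have hE : pCoreOf 2 K = V := eq_of_le_of_card_ge hOV (by rw [h4, cV])
    rw [hE] at hOn
    have yV : d1 * v2 * d1⁻¹ * v2⁻¹ ∈ V := V.mul_mem (hOn.conj_mem _ a2 _) (V.inv_mem a2)
    exact fin _ _ (l2four_odd hp hZ y1Z (sq _ yV))
  rw [H10.pCoreOf_eq_bot_iff] at hO2
  rw [hO2, bot_sup_eq] at h1
  have : Group.IsPerfect K := ⟨h1⟩
  have cT : Nat.card (T : Subgroup K) = 4 := by
    rw [hTV, Nat.card_congr (subgroupOfEquivOfLe hVK).toEquiv, cV]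
  have hk4 : IsKleinFour (T : Subgroup K) := by
    refine ⟨cT, ?_⟩
    have : Nontrivial (T : Subgroup K) := Finite.one_lt_card_iff_nontrivial.1 (by omega)
    refine (Monoid.exponent_eq_prime_iff Nat.prime_two).2 fun g hg => ?_
    refine orderOf_eq_prime (Subtype.ext (Subtype.ext ?_)) hg
    have : g.1 ∈ V.subgroupOf K := hTV ▸ g.2
    simpa [pow_two] using sq _ this
  have eb : K ⧸ oddCore K ≃* K :=
    (QuotientGroup.quotientMulEquivOfEq hOK).trans QuotientGroup.quotientBot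
  rcases Cfsg.Agent.S0483.result T 2 le_rfl IsKleinFour.nonempty_mulEquiv with
    ⟨F, _, _, -, -, ⟨e⟩⟩ | ⟨⟨e⟩⟩
  swap
  · exfalso
    have c7 : Nat.card K = 2520 := by
      rw [← Nat.card_congr eb.toEquiv, Nat.card_congr e.toEquiv, nat_card_alternatingGroup]
      simp [Nat.factorial]
    have := T.card_eq_multiplicity
    rw [cT, c7] at this
    have h8 : 2 ^ 3 ∣ 2 ^ (Nat.factorization 2520) 2 :=
      pow_dvd_pow 2 ((Nat.prime_two.pow_dvd_iff_le_factorization (by norm_num)).1 (by norm_num))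
    omega
  have e' := eb.symm.trans e
  have ab : ∀ w ∈ K, ∀ a ∈ K, ∀ b ∈ K, w * w ≠ 1 → w * a = a * w → w * b = b * w →
      a * b = b * a := by
    intro w hw a ha b hb h e1 e2
    have := CA.psl_ab (x := e' ⟨w, hw⟩) (a := e' ⟨a, ha⟩) (b := e' ⟨b, hb⟩)
      (Or.inl fun h' => h (by
        rw [← map_mul, ← map_one e'] at h'
        exact congrArg Subtype.val (e'.injective h')))
      (by rw [← map_mul, ← map_mul]; exact congrArg e' (Subtype.ext e1))
      (by rw [← map_mul, ← map_mul]; exact congrArg e' (Subtype.ext e2))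
    rw [← map_mul, ← map_mul] at this
    exact congrArg Subtype.val (e'.injective this)
  have hKn : K.Normal := normalClosure_normal
  have y1K : d1 * v2 * d1⁻¹ * v2⁻¹ ∈ K := K.mul_mem (hKn.conj_mem _ (hVK a2) _) (K.inv_mem (hVK a2))
  have y2K : d2 * v1 * d2⁻¹ * v1⁻¹ ∈ K := K.mul_mem (hKn.conj_mem _ (hVK a1) _) (K.inv_mem (hVK a1))
  by_contra hc
  push Not at hc
  set y1 := d1 * v2 * d1⁻¹ * v2⁻¹ with hy1
  set y2 := d2 * v1 * d2⁻¹ * v1⁻¹ with hy2
  have q1 : y1 ≠ 1 := fun h => hc.1 (fin _ _ h)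
  have q2 : y2 ≠ 1 := fun h => hc.2 (fin _ _ h)
  have hW : IsPGroup p (Z ⊓ K : Subgroup X) := hZ.to_inf_left
  have : Nontrivial (Z ⊓ K : Subgroup X) := ⟨⟨⟨y1, y1Z, y1K⟩, 1, fun h => q1 (congrArg Subtype.val h)⟩⟩
  have := hW.center_nontrivial
  obtain ⟨⟨w, hw⟩, hw1⟩ := exists_ne (1 : center (Z ⊓ K : Subgroup X))
  have hw' : w.1 * w.1 ≠ 1 := fun h =>
    hw1 (Subtype.ext (Subtype.ext (l2four_odd hp hZ w.2.1 h)))
  have k1 := congrArg Subtype.val (mem_center_iff.1 hw ⟨y1, y1Z, y1K⟩)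
  have k2 := congrArg Subtype.val (mem_center_iff.1 hw ⟨y2, y2Z, y2K⟩)
  have c12 : y1 * y2 = y2 * y1 := ab w.1 w.2.2 y1 y1K y2 y2K hw' k1.symm k2.symm
  have c1v : y1 * v1 = v1 * y1 := by
    have e1 : Commute v1 d1 := c1.symm
    have e2 : Commute v1 v2 := cm _ a1 _ a2
    exact (((e1.mul_right e2).mul_right e1.inv_right).mul_right e2.inv_right).symm
  have c2v := ab y1 y1K v1 (hVK a1) y2 y2K (fun h => q1 (l2four_odd hp hZ y1Z h)) c1v c12
  apply q2
  refine l2four_odd hp hZ y2Z ?_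
  have s1 := sq _ a1
  calc y2 * y2 = y2 * (v1 * v1) * y2 := by rw [s1, mul_one]
    _ = y2 * v1 * (v1 * y2) := by simp only [mul_assoc]
    _ = y2 * v1 * (y2 * v1) := by rw [c2v]
    _ = d2 * (v1 * v1) * d2⁻¹ := by rw [hy2]; group
    _ = 1 := by rw [s1]; group

end H8
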