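import Cfsg.Agent.H8.Count
import Cfsg.Agent.H8.Cyc
import Cfsg.Agent.H8.Elt
import Cfsg.Agent.H2.Frob

/-! The number of subgroups of a given prime power order. -/

set_option autoImplicit false
set_option linter.unusedSectionVars false

namespace H8
open Subgroup MulAction
open scoped Pointwise

variable {G : Type*} [Group G] [Finite G]

theorem card_stab_dvd (S : Set G) : Nat.card (stabilizer G S) ∣ Nat.card S :=
  H2.card_dvd_of_free (A := stabilizer G S) S
    (fun a x hx => (mem_stabilizer_iff.1 a.2).le (Set.smul_mem_smul_set hx))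
    fun a x _ e => Subtype.ext (mul_right_cancel (b := x) (by rw [OneMemClass.coe_one, one_mul]; exact e))

theorem card_good (q : ℕ) : Nat.card {S : Set G // Nat.card S = q ∧ Nat.card (stabilizer G S) = q} * q
    = Nat.card {H : Subgroup G // Nat.card H = q} * Nat.card G := by
  have hc : ∀ (H : Subgroup G) (s : G), Nat.card {x | x * s⁻¹ ∈ H} = Nat.card H := fun H s =>
    Nat.card_congr ((Equiv.mulRight s⁻¹).subtypeEquiv fun _ => Iff.rfl)
  have hst : ∀ (H : Subgroup G) (s : G), stabilizer G {x | x * s⁻¹ ∈ H} = H := fun H s => by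
    ext g
    rw [mem_stabilizer_set]
    refine ⟨fun h => by simpa using (h s).2 (by simp), fun h b => ?_⟩
    simp only [smul_eq_mul, Set.mem_setOf_eq, mul_assoc]
    exact H.mul_mem_cancel_left h
  let A := {S : Set G // Nat.card S = q ∧ Nat.card (stabilizer G S) = q}
  haveI := Fintype.ofFinite A
  have e1 : Nat.card (Σ S : A, S.1) = Nat.card A * q := by
    rw [Nat.card_sigma, Finset.sum_congr rfl fun S _ => S.2.1, Finset.sum_const, smul_eq_mul,
      Finset.card_univ, Nat.card_eq_fintype_card]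
  rw [← e1, ← Nat.card_prod]
  refine Nat.card_congr (Equiv.ofBijective (fun z => (⟨_, z.1.2.2⟩, z.2.1)) ⟨?_, ?_⟩)
  · have key : ∀ S : A, ∀ s ∈ S.1, S.1 = {x | x * s⁻¹ ∈ stabilizer G S.1} := fun S s hs =>
      (Set.eq_of_subset_of_ncard_le (fun x hx => by
        simpa using (mem_stabilizer_set.1 hx s).2 hs) (by
        rw [← Nat.card_coe_set_eq, ← Nat.card_coe_set_eq, hc, S.2.1, S.2.2])).symm
    rintro ⟨S, s, hs⟩ ⟨T, t, ht⟩ e
    simp only [Prod.mk.injEq, Subtype.mk.injEq] at e
    obtain ⟨e2, rfl⟩ := e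
    obtain rfl : S = T := Subtype.ext (by rw [key S s hs, key T s ht, e2])
    rfl
  · rintro ⟨⟨H, hH⟩, s⟩
    exact ⟨⟨⟨{x | x * s⁻¹ ∈ H}, by rw [hc, hst]; exact ⟨hH, hH⟩⟩, s, by simp⟩,
      Prod.ext (Subtype.ext (hst H s)) rfl⟩

theorem choose_modEq {p β m : ℕ} (hp : p.Prime) (h : Nat.card G = p ^ β * m) :
    (p ^ β * m).choose (p ^ β) ≡ Nat.card {H : Subgroup G // Nat.card H = p ^ β} * m
      [MOD p * m] := by
  classical
  haveI := Fintype.ofFinite G
  have h1 := card_good (G := G) (p ^ β)
  rw [h, mul_comm (p ^ β), ← mul_assoc] at h1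
  rw [← Nat.eq_of_mul_eq_mul_right (pow_pos hp.pos β) h1]
  have h2 : Nat.card {S : Set G // Nat.card S = p ^ β} = (p ^ β * m).choose (p ^ β) := by
    rw [← h, Nat.card_eq_fintype_card (α := G), ← Fintype.card_finset_len, ← Nat.card_eq_fintype_card]
    exact (Nat.card_congr ((Fintype.finsetEquivSet (α := G)).subtypeEquiv fun s => by simp)).symm
  have h3 := dvd_sum_of_action (L := G) (X := Set G) (R := ℕ)
    (fun S => if Nat.card S = p ^ β ∧ Nat.card (stabilizer G S) ≠ p ^ β then 1 else 0)
    (fun g S => by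
      have e1 : Nat.card (g • S : Set G) = Nat.card S := by
        rw [Nat.card_coe_set_eq, Nat.card_coe_set_eq, Set.ncard_smul_set]
      have e2 : Nat.card (stabilizer G (g • S)) = Nat.card (stabilizer G S) := by
        rw [stabilizer_smul_eq_stabilizer_map_conj]
        exact card_map_of_injective (MulAut.conj g).injective
      simp only [e1, e2]) (p * m) (fun S => by
      split_ifs with hS
      swap
      · simp
      obtain ⟨j, hj, hj'⟩ := (Nat.dvd_prime_pow hp).1 (hS.1 ▸ card_stab_dvd S)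
      have h4 := (stabilizer G S).card_mul_index
      obtain ⟨c, rfl⟩ := Nat.exists_eq_add_of_lt (lt_of_le_of_ne hj fun e => hS.2 (e ▸ hj'))
      rw [hj', h, add_assoc, pow_add, mul_assoc] at h4
      rw [Nat.cast_id, mul_one, Nat.eq_of_mul_eq_mul_left (pow_pos hp.pos j) h4, pow_succ, mul_assoc]
      exact Dvd.intro_left _ rfl)
  rw [← h2, Nat.subtype_card (Finset.univ.filter fun S : Set G => Nat.card S = p ^ β) (by simp),
    Nat.subtype_card (Finset.univ.filter fun S : Set G => Nat.card S = p ^ β ∧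
      Nat.card (stabilizer G S) = p ^ β) (by simp),
    ← Finset.card_filter_add_card_filter_not (fun S : Set G => Nat.card (stabilizer G S) = p ^ β),
    Finset.filter_filter, Finset.filter_filter]
  rw [← Finset.card_filter] at h3
  exact (Nat.modEq_iff_dvd' (Nat.le_add_right _ _)).2 (by simpa using h3) |>.symm

theorem card_sub_modEq {p β : ℕ} (hp : p.Prime) (hd : p ^ β ∣ Nat.card G) :
    Nat.card {H : Subgroup G // Nat.card H = p ^ β} ≡ 1 [MOD p] := by
  obtain ⟨m, hm⟩ := hd
  have h0 : p ^ β * m ≠ 0 := hm ▸ Nat.card_pos.ne'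
  haveI : NeZero (p ^ β * m) := ⟨h0⟩
  haveI := Fact.mk hp
  have hc : Nat.card (Multiplicative (ZMod (p ^ β * m))) = p ^ β * m := by simp
  have h1 := (choose_modEq hp hm).symm.trans (choose_modEq hp hc)
  have h2 : Nat.card {H : Subgroup (Multiplicative (ZMod (p ^ β * m))) // Nat.card H = p ^ β} = 1 := by
    obtain ⟨K, hK⟩ := Sylow.exists_subgroup_card_pow_prime p (G := Multiplicative (ZMod (p ^ β * m)))
      (n := β) (hc.symm ▸ Dvd.intro _ rfl)
    refine Nat.card_eq_one_iff_exists.2 ⟨⟨K, hK⟩, fun H => Subtype.ext ?_⟩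
    exact eq_of_card_eq_of_isCyclic (P := ⊤) inferInstance le_top le_top (H.2.trans hK.symm)
  rw [h2] at h1
  exact (Nat.ModEq.mul_right_cancel' (by rintro rfl; simp at h0) h1)

theorem card_normal_sub_modEq {p s : ℕ} (hp : p.Prime) (hG : IsPGroup p G) (hd : p ^ s ∣ Nat.card G) :
    Nat.card {H : Subgroup G // H.Normal ∧ Nat.card H = p ^ s} ≡ 1 [MOD p] := by
  haveI := Fact.mk hp
  letI : MulAction G {H : Subgroup G // Nat.card H = p ^ s} :=
    { smul := fun g H => ⟨H.1.map (MulAut.conj g).toMonoidHom,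
        (card_map_of_injective (MulAut.conj g).injective).trans H.2⟩
      one_smul := fun H => Subtype.ext (by
        show H.1.map (MulAut.conj 1).toMonoidHom = H.1
        rw [map_one]; exact map_id _)
      mul_smul := fun g h H => Subtype.ext (by
        show H.1.map (MulAut.conj (g * h)).toMonoidHom =
          (H.1.map (MulAut.conj h).toMonoidHom).map (MulAut.conj g).toMonoidHom
        rw [map_map, map_mul]; rfl) }
  refine Nat.ModEq.trans ?_ (card_sub_modEq hp hd)
  refine Nat.ModEq.trans ?_ (hG.card_modEq_card_fixedPoints _).symm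
  rw [Nat.card_congr (β := fixedPoints G {H : Subgroup G // Nat.card H = p ^ s})]
  exact
    { toFun := fun H => ⟨⟨H.1, H.2.2⟩, fun g => Subtype.ext (@Normal.map_conj_eq _ _ _ H.2.1 g)⟩
      invFun := fun H => ⟨H.1.1, ⟨fun a ha g => by
        have : H.1.1.map (MulAut.conj g).toMonoidHom = H.1.1 := congrArg Subtype.val (H.2 g)
        rw [← this]; exact mem_map_of_mem _ ha⟩, H.1.2⟩
      left_inv := fun _ => rfl
      right_inv := fun _ => rfl }

end H8
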