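import Cfsg.Agent.H8.FTc
import Cfsg.Agent.H8.Count
import Cfsg.Agent.H2.FPF2
import Cfsg.Agent.H17.Central
import Cfsg.Agent.S1227
import Cfsg.Agent.S1229

/-! Nonsolvable groups all of whose elements have order `1` or one of three primes. -/

namespace H8

open Subgroup

universe u

variable {G : Type u} [Group G] [Finite G]

theorem ncard_range_orderOf_le :
    (Set.range (orderOf : G → ℕ)).ncard ≤ Nat.card (MulAction.orbitRel.Quotient (MulAut G) G) := by
  let f : MulAction.orbitRel.Quotient (MulAut G) G → ℕ :=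
    Quotient.lift orderOf (fun a b h => by
      obtain ⟨α, rfl⟩ := MulAction.orbitRel_apply.1 h
      exact α.orderOf_eq b)
  have : Set.range (orderOf : G → ℕ) = f '' Set.univ := by
    ext n
    constructor
    · rintro ⟨g, rfl⟩
      exact ⟨Quotient.mk'' g, trivial, rfl⟩
    · rintro ⟨x, -, rfl⟩
      induction x using Quotient.inductionOn' with
      | h g => exact ⟨g, rfl⟩
  rw [this, ← Set.ncard_univ]
  exact Set.ncard_image_le (Set.toFinite _)

theorem exists_three_primes (hFT : FTH.{u}) (hns : ¬ Group.IsSolvable G) :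
    ∃ r s : ℕ, r.Prime ∧ s.Prime ∧ r ≠ 2 ∧ s ≠ 2 ∧ r ≠ s ∧ 2 ∣ Nat.card G ∧ r ∣ Nat.card G ∧
      s ∣ Nat.card G := by
  have h2 : 2 ∣ Nat.card G := even_iff_two_dvd.1 (Nat.not_odd_iff_even.1 fun h => hns (hFT G h))
  obtain ⟨r, hr, hrd, hr2⟩ : ∃ r : ℕ, r.Prime ∧ r ∣ Nat.card G ∧ r ≠ 2 := by
    by_contra h
    push Not at h
    exact hns (H17.isSolvable_of_two_primes Nat.prime_two Nat.prime_two
      fun r hr hd => Or.inl (h r hr hd))
  obtain ⟨s, hs, hsd, hs2, hsr⟩ : ∃ s : ℕ, s.Prime ∧ s ∣ Nat.card G ∧ s ≠ 2 ∧ s ≠ r := by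
    by_contra h
    push Not at h
    exact hns (H17.isSolvable_of_two_primes Nat.prime_two hr
      fun s hs hd => (eq_or_ne s 2).imp id (h s hs hd))
  exact ⟨r, s, hr, hs, hr2, hs2, hsr.symm, h2, hrd, hsd⟩

theorem orders_of_four_orbits {r s : ℕ} (hr : r.Prime) (hs : s.Prime) (hr2 : r ≠ 2) (hs2 : s ≠ 2)
    (hrs : r ≠ s) (h2 : 2 ∣ Nat.card G) (hrd : r ∣ Nat.card G) (hsd : s ∣ Nat.card G)
    (h4 : Nat.card (MulAction.orbitRel.Quotient (MulAut G) G) = 4) (g : G) :
    orderOf g = 1 ∨ orderOf g = 2 ∨ orderOf g = r ∨ orderOf g = s := by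
  haveI := Fact.mk hr
  haveI := Fact.mk hs
  have h1 : ({1, 2, r, s} : Set ℕ) = Set.range (orderOf : G → ℕ) := by
    refine Set.eq_of_subset_of_ncard_le ?_ ?_ (Set.finite_range _)
    · rintro n (rfl | rfl | rfl | rfl)
      · exact ⟨1, orderOf_one⟩
      · exact exists_prime_orderOf_dvd_card' 2 h2
      · exact exists_prime_orderOf_dvd_card' _ hrd
      · exact exists_prime_orderOf_dvd_card' _ hsd
    · refine ncard_range_orderOf_le.trans (h4.trans ?_).le
      rw [Set.ncard_insert_of_notMem (by simp [hr.ne_one.symm, hs.ne_one.symm]),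
        Set.ncard_insert_of_notMem (by simp [hr2.symm, hs2.symm]), Set.ncard_pair hrs]
  have : orderOf g ∈ ({1, 2, r, s} : Set ℕ) := h1 ▸ ⟨g, rfl⟩
  exact this

theorem orderOf_eq_of_commute_of_prime_orders (hord : ∀ g : G, orderOf g = 1 ∨ (orderOf g).Prime)
    {x c : G} (hx : x ≠ 1) (hc : c * x = x * c) : c = 1 ∨ orderOf c = orderOf x := by
  have hxp := (hord x).resolve_left (by rwa [orderOf_eq_one_iff])
  rcases hord c with h | h
  · exact Or.inl (orderOf_eq_one_iff.1 h)
  right
  by_contra hne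
  have h1 := (show Commute c x from hc).orderOf_mul_eq_mul_orderOf_of_coprime
    ((Nat.coprime_primes h hxp).2 hne)
  rcases hord (c * x) with h2 | h2
  · rw [h1] at h2
    exact h.ne_one (Nat.eq_one_of_mul_eq_one_right h2)
  · rw [h1] at h2
    exact Nat.not_prime_mul h.ne_one hxp.ne_one h2

theorem isSolvable_of_sylow_two_cyclic (hFT : FTH.{u}) (T : Sylow 2 G)
    (h : IsCyclic (T : Subgroup G)) : Group.IsSolvable G := by
  by_cases h2 : Odd (Nat.card G)
  · exact hFT G h2
  have h3 : (Nat.card G).minFac = 2 :=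
    (Nat.minFac_eq_two_iff _).2 (even_iff_two_dvd.1 (Nat.not_odd_iff_even.1 h2))
  have h4 := IsCyclic.isComplement' h3 h
  refine H1.isSolvable_of_normal_quotient
    (MonoidHom.transferSylow T (h.normalizer_le_centralizer h3)).ker (hFT _ ?_) ?_
  · rw [← h4.index_eq_card, ← Nat.not_even_iff_odd, even_iff_two_dvd]
    exact T.not_dvd_index
  · obtain ⟨k, hk⟩ := IsPGroup.iff_card.1 T.isPGroup'
    have := (IsPGroup.of_card (p := 2) (h4.symm.index_eq_card.trans hk)).isNilpotent
    infer_instance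

theorem alt_five_of_prime_orders (hFT : FTH.{u}) (hns : ¬ Group.IsSolvable G) {r s : ℕ}
    (hr : r.Prime) (hs : s.Prime)
    (hord : ∀ g : G, orderOf g = 1 ∨ orderOf g = 2 ∨ orderOf g = r ∨ orderOf g = s) :
    Nonempty (G ≃* alternatingGroup (Fin 5)) := by
  classical
  have hord' : ∀ g : G, orderOf g = 1 ∨ (orderOf g).Prime := fun g => by
    rcases hord g with h | h | h | h <;> simp [h, hr, hs, Nat.prime_two]
  obtain ⟨T⟩ : Nonempty (Sylow 2 G) := inferInstance
  have hnc : ¬ IsCyclic (T : Subgroup G) := fun h => hns (isSolvable_of_sylow_two_cyclic hFT T h)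
  have hnn : ¬ (T : Subgroup G).Normal := fun h => hns (isSolvable_of_sylow_two_normal hFT T)
  have hC : ∀ t : G, orderOf t = 2 → IsMulCommutative (centralizer ({t} : Set G)) ∧
      ∀ c ∈ centralizer ({t} : Set G), c ^ 2 = 1 := by
    intro t ht
    have h1 : ∀ c ∈ centralizer ({t} : Set G), c ^ 2 = 1 := fun c hc => by
      rcases orderOf_eq_of_commute_of_prime_orders hord' (x := t) (fun e => by simp [e] at ht)
        (mem_centralizer_singleton_iff.1 hc) with h | h
      · rw [h, one_pow]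
      · rw [← ht, ← h, pow_orderOf_eq_one]
    refine ⟨H1.isMulCommutative_iff'.2 fun a ha b hb => ?_, h1⟩
    have e := h1 _ (mul_mem ha hb)
    have ea := h1 a ha
    have eb := h1 b hb
    rw [sq, mul_eq_one_iff_eq_inv] at e ea eb
    rw [e, mul_inv_rev, ← ea, ← eb]
  obtain ⟨h3t, hfix, hreg⟩ := Cfsg.Agent.S1229.result T hnc hnn hC
  set H := normalizer ((T : Subgroup G) : Set G) with hH
  obtain ⟨q, hq⟩ : ∃ q, q = Nat.card (T : Subgroup G) := ⟨_, rfl⟩
  have hTH : ∀ t : (T : Subgroup G), (t : G)⁻¹ • (QuotientGroup.mk 1 : G ⧸ H) = QuotientGroup.mk 1 :=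
    fun t => QuotientGroup.eq.2 (by
      simp only [smul_eq_mul, mul_one, inv_inv]; exact le_normalizer t.2)
  have hTe : ∀ x ∈ (T : Subgroup G), x ≠ 1 → orderOf x = 2 := fun x hx h1 => by
    obtain ⟨k, hk⟩ := exists_orderOf_eq_of_mem T.isPGroup' hx
    have := (hord' x).resolve_left (by rwa [orderOf_eq_one_iff])
    exact (Nat.prime_dvd_prime_iff_eq Nat.prime_two this).1 (hk ▸ dvd_pow_self 2 (by
      rintro rfl
      exact this.ne_one hk)) |>.symm
  obtain ⟨u, hu, huH⟩ : ∃ u : G, orderOf u = 2 ∧ u ∉ H := by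
    by_contra h
    push Not at h
    refine hnn ⟨fun x hx g => ?_⟩
    by_cases h1 : x = 1
    · simp [h1]
    have h2 : orderOf (g * x * g⁻¹) = 2 := ((MulAut.conj g).orderOf_eq x).trans (hTe x hx h1)
    exact mem_sylow_of_mem_normalizer T (h _ h2) (isPGroup_zpowers_of_orderOf (k := 1) h2)
  obtain ⟨hinv, hcH, hcomp⟩ := Cfsg.Agent.S1227.result T hnc hnn hC u hu huH
  set D := H ⊓ H.map (MulAut.conj u).toMonoidHom with hD
  change Nat.card H = Nat.card (T : Subgroup G) * (Nat.card (T : Subgroup G) - 1) at hcH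
  rw [← hq] at hcH
  obtain ⟨n, hn⟩ := IsPGroup.iff_card.1 T.isPGroup'
  have hq4 : 4 ∣ q := by
    rcases n with _ | _ | n
    · haveI := (Nat.card_eq_one_iff_unique.1 hn).1
      exact absurd isCyclic_of_subsingleton hnc
    · exact absurd (isCyclic_of_prime_card (p := 2) hn) hnc
    · rw [hq, hn]; exact pow_dvd_pow 2 (show 2 ≤ n + 1 + 1 by omega)
  have hq0 : 4 ≤ q := Nat.le_of_dvd (hq ▸ Nat.card_pos) hq4
  have hX : H.index = q + 1 := by
    obtain ⟨x0, hx0⟩ : ∃ x0 : G ⧸ H, x0 ≠ QuotientGroup.mk 1 :=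
      ⟨QuotientGroup.mk u, fun e => huH (by simpa using QuotientGroup.eq.1 e.symm)⟩
    have h1 : Nat.card {y : G ⧸ H // y ≠ QuotientGroup.mk 1} = q := by
      rw [hq]
      refine (Nat.card_eq_of_bijective (fun t : (T : Subgroup G) =>
        (⟨(t : G) • x0, fun e => hx0 ?_⟩ : {y : G ⧸ H // y ≠ QuotientGroup.mk 1})) ⟨?_, ?_⟩).symm
      · rw [smul_eq_iff_eq_inv_smul] at e
        rw [e, hTH]
      · intro a b e
        have e' : (a : G) • x0 = (b : G) • x0 := congrArg Subtype.val e
        exact Subtype.ext ((hreg x0 _ hx0 (fun e2 => hx0 (by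
          rw [smul_eq_iff_eq_inv_smul] at e2
          rw [e2, hTH]))).unique ⟨a.2, e'⟩ ⟨b.2, rfl⟩)
      · rintro ⟨y, hy⟩
        obtain ⟨t, ⟨h1, h2⟩, -⟩ := hreg x0 y hx0 hy
        exact ⟨⟨t, h1⟩, Subtype.ext h2⟩
    haveI := Fintype.ofFinite (G ⧸ H)
    rw [Nat.card_eq_fintype_card, Fintype.card_subtype_compl, Fintype.card_subtype_eq,
      ← Nat.card_eq_fintype_card] at h1
    have : 0 < Nat.card (G ⧸ H) := Nat.card_pos
    change Nat.card (G ⧸ H) = _
    omega
  have hG : Nat.card G = q * (q - 1) * (q + 1) := by rw [← H.card_mul_index, hcH, hX]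
  have hDc : Nat.card D = q - 1 := by
    have h1 := hcomp.card_mul
    rw [Nat.card_congr (subgroupOfEquivOfLe (inf_le_left : D ≤ H)).toEquiv,
      Nat.card_congr (subgroupOfEquivOfLe (le_normalizer : (T : Subgroup G) ≤ H)).toEquiv, hcH,
      mul_comm, ← hq] at h1
    exact Nat.eq_of_mul_eq_mul_left (by omega) h1
  haveI : IsMulCommutative D := H1.isMulCommutative_iff'.2 fun a ha b hb => by
    have e := hinv _ (mul_mem ha hb)
    rw [← conj_mul, hinv a ha, hinv b hb, ← mul_inv_rev, inv_inj] at e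
    exact e.symm
  have hDcyc : IsCyclic D := H2.isCyclic_of_fpf_comm' D T (fun h => by
    rw [hq, h, card_bot] at hq0; omega) inf_le_left (fun a ha ha1 => by
    rw [eq_bot_iff]
    intro x hx
    by_contra hx1
    rcases orderOf_eq_of_commute_of_prime_orders hord' hx1
      (mem_centralizer_singleton_iff.1 hx.2).symm with h | h
    · exact ha1 h
    · have := D.orderOf_dvd_natCard ha
      rw [h, hTe x hx.1 hx1, hDc] at this
      omega)
  have hq1 : (q - 1).Prime := by
    obtain ⟨g, hg⟩ := IsCyclic.exists_ofOrder_eq_natCard (α := D)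
    rw [← orderOf_coe, hDc] at hg
    exact hg ▸ (hord' g).resolve_left (by omega)
  have hq4' : q = 4 := by
    by_contra hne
    have h3 : 3 ∣ q + 1 := by
      have h1 : ¬ 3 ∣ q - 1 := fun h => by
        have := (Nat.prime_dvd_prime_iff_eq Nat.prime_three hq1).1 h
        omega
      have h2 : ¬ 3 ∣ q := fun h => by
        have := (Nat.prime_dvd_prime_iff_eq Nat.prime_three Nat.prime_two).1
          (Nat.prime_three.dvd_of_dvd_pow (n := n) (by rwa [← hn, ← hq]))
        omega
      rcases (show q % 3 = 0 ∨ q % 3 = 1 ∨ q % 3 = 2 by omega) with h | h | h <;> omega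
    have hprimes : ∀ l : ℕ, l.Prime → l ∣ q + 1 → l = 3 := by
      have aux : ∀ l : ℕ, l.Prime → l ∣ Nat.card G → l = 2 ∨ l = r ∨ l = s := fun l hl hd => by
        haveI := Fact.mk hl
        obtain ⟨x, hx⟩ := exists_prime_orderOf_dvd_card' l hd
        have := hord x
        rw [hx] at this
        exact this.resolve_left hl.ne_one
      intro l hl hd
      have a1 := aux l hl (hG ▸ hd.mul_left _)
      have a2 := aux 3 Nat.prime_three (hG ▸ h3.mul_left _)
      have a3 := aux _ hq1 (hG ▸ ((dvd_mul_left _ _).mul_right _))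
      have a4 : l ≠ q - 1 := by
        rintro rfl
        have : q - 1 ∣ 2 := by
          have := Nat.dvd_sub hd (dvd_refl (q - 1))
          rwa [show q + 1 - (q - 1) = 2 by omega] at this
        have := Nat.le_of_dvd two_pos this
        omega
      have a5 : l ≠ 2 := by rintro rfl; omega
      omega
    obtain ⟨b, hb⟩ : ∃ b, q + 1 = 3 ^ b :=
      ⟨_, Nat.eq_prime_pow_of_unique_prime_dvd (by omega) fun {l} hl hd => hprimes l hl hd⟩
    haveI := Fact.mk Nat.prime_three
    have hconj : ∀ x y : G, orderOf x = 3 → orderOf y = 3 → IsConj x y := by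
      have aux : ∀ x : G, orderOf x = 3 → ∃ a : G ⧸ H, a ≠ x • a ∧ a ≠ x • x • a ∧
          x • a ≠ x • x • a ∧ x • x • x • a = a := by
        intro x hx
        have e3 : ∀ a : G ⧸ H, x • x • x • a = a := fun a => by
          rw [← mul_smul, ← mul_smul, mul_assoc, ← pow_three, ← hx, pow_orderOf_eq_one, one_smul]
        obtain ⟨a, ha⟩ : ∃ a : G ⧸ H, a ≠ x • a := by
          by_contra h
          push Not at h
          haveI := Fintype.ofFinite (G ⧸ H)
          obtain ⟨a, b, c, h1, h2, h3⟩ := Fintype.two_lt_card_iff.1 (show 2 < Fintype.card (G ⧸ H) by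
            rw [← Nat.card_eq_fintype_card]; change 2 < H.index; omega)
          simp [hfix x a b c h1 h2 h3 (h a).symm (h b).symm (h c).symm] at hx
        refine ⟨a, ha, fun e => ha ?_, fun e => ha (smul_left_cancel x e), e3 a⟩
        nth_rewrite 2 [e]
        rw [e3]
      intro x y hx hy
      obtain ⟨a, a1, a2, a3, a4⟩ := aux x hx
      obtain ⟨c, c1, c2, c3, c4⟩ := aux y hy
      obtain ⟨k, k1, k2, k3⟩ := h3t _ _ _ _ _ _ a1 a2 a3 c1 c2 c3
      refine isConj_iff.2 ⟨k, (inv_mul_eq_one.1 (hfix _ _ _ _ c1 c2 c3 ?_ ?_ ?_)).symm⟩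
      · nth_rewrite 1 [← k1]
        simp only [mul_smul, inv_smul_smul, k2]
      · nth_rewrite 1 [← k2]
        simp only [mul_smul, inv_smul_smul, k3]
      · nth_rewrite 1 [← k3]
        simp only [mul_smul, inv_smul_smul, a4, k1]
        rw [inv_smul_eq_iff, c4]
    obtain ⟨S⟩ : Nonempty (Sylow 3 G) := inferInstance
    have hS : Nat.card S = q + 1 := by
      have h1 : ¬ 3 ∣ q * (q - 1) := by
        intro h
        rcases (Nat.Prime.dvd_mul Nat.prime_three).1 h with h | h <;> omega
      rw [S.card_eq_multiplicity, hG, Nat.factorization_mul (by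
        exact Nat.mul_ne_zero (by omega) (by omega)) (by omega), Finsupp.add_apply,
        Nat.factorization_eq_zero_of_not_dvd h1, zero_add, hb,
        Nat.factorization_pow_self Nat.prime_three]
    haveI : Nontrivial (S : Subgroup G) := Finite.one_lt_card_iff_nontrivial.1 (by omega)
    haveI := S.isPGroup'.center_nontrivial
    obtain ⟨⟨z, hz⟩, hz1⟩ := exists_ne (1 : center (S : Subgroup G))
    have hz1 : (z : G) ≠ 1 := fun e => hz1 (Subtype.ext (Subtype.ext e))
    have ho3 : ∀ x : G, x ^ (q + 1) = 1 → x ≠ 1 → orderOf x = 3 := fun x hx h1 =>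
      hprimes _ ((hord' x).resolve_left (by rwa [orderOf_eq_one_iff])) (orderOf_dvd_of_pow_eq_one hx)
    have hzo : orderOf (z : G) = 3 := ho3 _ (by
      rw [← hS]; exact congrArg Subtype.val (pow_card_eq_one' (x := z))) hz1
    have hCz : centralizer ({(z : G)} : Set G) = S := S.is_maximal'
      (isPGroup_of_forall_pow fun c hc => ⟨1, by
        rcases orderOf_eq_of_commute_of_prime_orders hord' hz1
          (mem_centralizer_singleton_iff.1 hc) with h | h
        · simp [h]
        · rw [pow_one, ← hzo, ← h, pow_orderOf_eq_one]⟩)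
      fun x hx => mem_centralizer_singleton_iff.2
        (congrArg Subtype.val (mem_center_iff.1 hz ⟨x, hx⟩))
    have hidx : (centralizer ({(z : G)} : Set G)).index = q * (q - 1) := by
      have := (S : Subgroup G).card_mul_index
      rw [hS, hG, mul_comm] at this
      rw [hCz]
      exact Nat.eq_of_mul_eq_mul_right (by omega) this
    have h5 := frobenius_dvd (G := G) (m := q + 1) (hG ▸ dvd_mul_left _ _)
    have h6 : {g : G | g ^ (q + 1) = 1} = insert 1 (ConjClasses.mk (z : G)).carrier := by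
      ext g
      simp only [Set.mem_setOf_eq, Set.mem_insert_iff, ConjClasses.mem_carrier_iff_mk_eq,
        ConjClasses.mk_eq_mk_iff_isConj]
      constructor
      · intro hg
        by_cases h1 : g = 1
        · exact Or.inl h1
        · exact Or.inr (hconj _ _ (ho3 g hg h1) hzo)
      · rintro (rfl | h)
        · exact one_pow _
        · obtain ⟨k, hk⟩ := isConj_iff.1 h.symm
          rw [← orderOf_dvd_iff_pow_eq_one, ← hk]
          exact (dvd_of_eq (((MulAut.conj k).orderOf_eq _).trans hzo)).trans h3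
    change q + 1 ∣ Nat.card {g : G | g ^ (q + 1) = 1} at h5
    rw [Nat.card_coe_set_eq, h6, Set.ncard_insert_of_notMem (by
      rw [ConjClasses.mem_carrier_iff_mk_eq, ConjClasses.mk_eq_mk_iff_isConj, isConj_one_right]
      exact hz1), ncard_carrier_mk, hidx] at h5
    obtain ⟨m, rfl⟩ : ∃ m, q = m + 2 := ⟨q - 2, by omega⟩
    have h7 : (m + 2) * (m + 2 - 1) + 1 = (m + 2 + 1) * m + 3 := by
      rw [show m + 2 - 1 = m + 1 by omega]; ring
    rw [h7, Nat.dvd_add_right (dvd_mul_right _ _)] at h5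
    have := Nat.le_of_dvd (by norm_num) h5
    omega
  haveI := Fintype.ofFinite (G ⧸ H)
  have hX5 : Fintype.card (G ⧸ H) = 5 := by
    rw [← Nat.card_eq_fintype_card]; change H.index = 5; omega
  let e := Fintype.equivFinOfCardEq hX5
  let ρ : G →* Equiv.Perm (Fin 5) :=
    (Equiv.permCongrHom e).toMonoidHom.comp (MulAction.toPermHom G (G ⧸ H))
  have hρ : Function.Injective ρ := by
    refine (Equiv.permCongrHom e).injective.comp ((injective_iff_map_eq_one _).2 fun g hg => ?_)
    obtain ⟨a, b, c, h1, h2, h3⟩ := Fintype.two_lt_card_iff.1 (show 2 < Fintype.card (G ⧸ H) by omega)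
    exact hfix g a b c h1 h2 h3 (DFunLike.congr_fun hg a) (DFunLike.congr_fun hg b)
      (DFunLike.congr_fun hg c)
  have hidx : ρ.range.index = 2 := by
    have := ρ.range.card_mul_index
    rw [← Nat.card_congr (MonoidHom.ofInjective hρ).toEquiv, hG, hq4', Nat.card_eq_fintype_card,
      Fintype.card_perm, Fintype.card_fin] at this
    simp only [Nat.factorial] at this
    omega
  exact ⟨(MonoidHom.ofInjective hρ).trans
    (MulEquiv.subgroupCongr (Equiv.Perm.eq_alternatingGroup_of_index_eq_two hidx))⟩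

end H8
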