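import Cfsg.Agent.H8.Z4b
import Cfsg.Agent.H4.GA1
import Cfsg.Agent.H17.GB4
import Cfsg.Agent.H16.Misc
import Cfsg.Agent.H8.GWQ3
import Cfsg.Agent.Lead.GW
import Cfsg.Agent.H7.Simple

/-! Quasisimple groups whose Sylow `2`-subgroup has centre of index four. -/

set_option autoImplicit false
set_option linter.unusedSectionVars false

namespace H8.Z4
open Subgroup H10 Cfsg
open scoped commutatorElement

universe u
variable {G : Type u} [Group G] [Finite G]
variable {P Q S Z : Subgroup G} {z : G} {p : ℕ}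

theorem der_small (hp : p.Prime) (hZ : Z ≤ S) (hc : Z ≤ CC(S)) (hi : Z.relIndex S = p ^ 2) :
    ∃ z ∈ ⁅S, S⁆, z ^ p = 1 ∧ ⁅S, S⁆ ≤ zpowers z := by
  by_cases ab : S ≤ CC(S)
  · exact ⟨1, one_mem _, one_pow _, (comm_eq_bot.2 ab).le.trans bot_le⟩
  obtain ⟨a, ha, b, hb, hab⟩ : ∃ a ∈ S, ∃ b ∈ S, b * a ≠ a * b := by
    by_contra hn
    push Not at hn
    exact ab (le_CC_iff.2 hn)
  have nZ : S ≤ NN(Z) := (le_CC_symm hc).trans (CC_le_NN Z)
  have d := H16.der_le_of_relIndex_sq hp nZ hi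
  have m := commutator_mem_commutator ha hb
  have l1 : Z ⊔ zpowers a ≤ S := sup_le hZ (zpowers_le.2 ha)
  have ca : Z ⊔ zpowers a ≤ centralizer {a} :=
    sup_le (fun c h => mem_centralizer_singleton_iff.2 (hc h a ha).symm)
      (zpowers_le.2 (mem_centralizer_singleton_iff.2 rfl))
  have b1 : b ∉ Z ⊔ zpowers a := fun h => hab (mem_centralizer_singleton_iff.1 (ca h))
  have e := relIndex_mul_relIndex Z (Z ⊔ zpowers a) S le_sup_left l1
  rw [hi] at e
  have n1 : Z.relIndex (Z ⊔ zpowers a) ≠ 1 := fun h =>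
    hab (hc (relIndex_eq_one.1 h (mem_sup_right (mem_zpowers a))) b hb)
  have n2 : (Z ⊔ zpowers a).relIndex S ≠ 1 := fun h => b1 (relIndex_eq_one.1 h hb)
  obtain ⟨i1, i2⟩ := (hp.mul_eq_prime_sq_iff n1 n2).1 e
  have ap : a ^ p ∈ Z := by
    have := normal_subgroupOf (l1.trans nZ)
    exact i1 ▸ (Z.subgroupOf (Z ⊔ zpowers a)).pow_index_mem ⟨a, mem_sup_right (mem_zpowers a)⟩
  have eS : Z ⊔ zpowers a ⊔ zpowers b = S :=
    (H1.eq_or_eq_of_relIndex_prime (i2 ▸ hp) le_sup_left (sup_le l1 (zpowers_le.2 hb))).resolve_left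
      fun h => b1 (h ▸ mem_sup_right (mem_zpowers b))
  refine ⟨_, m, ?_, ?_⟩
  · rw [← H10.commutator_pow_of_commute (hc (d m) a ha), commutatorElement_eq_one_iff_mul_comm]
    exact (hc ap b hb).symm
  have nN : S ≤ NN(zpowers ⁅a, b⁆) :=
    (le_CC_symm (zpowers_le.2 (hc (d m)))).trans (CC_le_NN _)
  have st : ∀ x ∈ S, ⁅x, a⁆ ∈ zpowers ⁅a, b⁆ → ⁅x, b⁆ ∈ zpowers ⁅a, b⁆ →
      x ∈ stabMod S (zpowers ⁅a, b⁆) := fun x hx h1 h2 => by
    refine ⟨nN hx, fun v hv => ?_⟩
    have : S ≤ stabMod (zpowers x) (zpowers ⁅a, b⁆) := by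
      have q : ∀ y ∈ S, ⁅x, y⁆ ∈ zpowers ⁅a, b⁆ → y ∈ stabMod (zpowers x) (zpowers ⁅a, b⁆) :=
        fun y hy h => ⟨nN hy, fun w hw => by
          obtain ⟨k, rfl⟩ := mem_zpowers_iff.1 hw
          rw [← commutatorElement_inv (x ^ k), H9.commutator_zpow_left
            (hc (d (commutator_mem_commutator hx hy)) x hx)]
          exact inv_mem (zpow_mem h k)⟩
      rw [← eS]
      refine sup_le (sup_le (fun c h => q c (hZ h) ?_) (zpowers_le.2 (q a ha h1)))
        (zpowers_le.2 (q b hb h2))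
      rw [commutatorElement_eq_one_iff_mul_comm.2 (hc h x hx)]; exact one_mem _
    rw [← commutatorElement_inv v]
    exact inv_mem ((this hv).2 x (mem_zpowers x))
  refine (le_stabMod.1 ?_).2
  conv_lhs => rw [← eS]
  refine sup_le (sup_le (fun c h => st c (hZ h) ?_ ?_) (zpowers_le.2 (st a ha (by simp) (by simp))))
    (zpowers_le.2 (st b hb ?_ (by simp)))
  · rw [commutatorElement_eq_one_iff_mul_comm.2 (hc h a ha).symm]; exact one_mem _
  · rw [commutatorElement_eq_one_iff_mul_comm.2 (hc h b hb).symm]; exact one_mem _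
  · exact commutatorElement_inv a b ▸ inv_mem (mem_zpowers _)

theorem mem_zpowers_two (h : z * z = 1) {x : G} (hx : x ∈ zpowers z) : x = 1 ∨ x = z := by
  obtain ⟨j, rfl⟩ := mem_zpowers_iff.1 hx
  rcases Int.even_or_odd' j with ⟨l, rfl | rfl⟩
  · left; rw [zpow_mul, zpow_two, h]; simp
  · right; rw [zpow_add, zpow_mul, zpow_two, h]; simp

theorem exists_T4 (hP : IsSylowIn 2 P ⊤) (hn : ¬ P ≤ CC(P)) (hi : (P ⊓ CC(P)).relIndex P = 4) :
    ∃ z, T4 P z ∧ ⁅P, P⁆ ≤ zpowers z := by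
  obtain ⟨z, m, h2, hle⟩ := der_small Nat.prime_two inf_le_left inf_le_right hi
  have d := H16.der_le_of_relIndex_sq Nat.prime_two
    ((le_CC_symm inf_le_right).trans (CC_le_NN (P ⊓ CC(P)))) hi m
  rw [pow_two] at h2
  refine ⟨z, ⟨hP, fun e => hn (comm_eq_bot.1 ?_), h2, d.1, d.2, fun a ha b hb => ?_, hn, hi⟩, hle⟩
  · rwa [e, zpowers_one_eq_bot, le_bot_iff] at hle
  · have e : a * b * a⁻¹ = ⁅a, b⁆ * b := by rw [commutatorElement_def]; group
    rcases mem_zpowers_two h2 (hle (commutator_mem_commutator ha hb)) with h | h <;> rw [e, h]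
    · simp
    · exact Or.inr (d.2 b hb).symm

theorem ab_syl (hs : IsSimpleGroup G) (hn : ¬ IsMulCommutative G) (hG : H5.Gd.ThmS G)
    (hQ : IsSylowIn 2 Q ⊤) (h1 : Q ≠ ⊥) (ab : Q ≤ CC(Q)) : H5.Gd.TD G ∨ (8 ∣ Nat.card Q ∧
      ∀ a ∈ Q, a ≠ 1 → ∀ b ∈ Q, b ≠ 1 → ∃ n ∈ NN(Q), n * a * n⁻¹ = b) := by
  obtain ⟨-, ⟨⟨M, hM⟩, h8⟩ | h | h⟩ := hG _ (om_ne_bot ab hQ.isPGroup h1)
    (sc_om hQ le_rfl ab fun _ _ _ h => h)
  · obtain ⟨V, K, W, t, b⟩ := H17.exists_bf_top hM hn (H16.GD.sy_of_in hQ)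
    have e : Q = V := by_contra fun e => b.not_comm e (isMulCommutative_iff_le_CC.2 ab)
    subst e
    refine Or.inr ⟨?_, fun a ha a1 c hc c1 => ?_⟩
    · rw [hQ.card_eq_pow, card_top]
      exact pow_dvd_pow 2 ((Nat.prime_two.pow_dvd_iff_le_factorization (k := 3) Nat.card_pos.ne').1 h8)
    · obtain ⟨k, hk, e⟩ := b.trans a ha a1 c hc c1
      exact ⟨k⁻¹, inv_mem (b.DN (mem_sup_left hk)), by rw [inv_inv, e]⟩
  · exact Or.inl h
  · obtain ⟨h1, -, h2⟩ := H16.GD.tr_syl (h.of_equiv topEquiv.symm) hQ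
    refine Or.inr ⟨h1 ▸ dvd_rfl, fun a ha a1 c hc c1 => ?_⟩
    obtain ⟨n, hn, e⟩ := h2 a ha a1 c hc c1
    exact ⟨n, hn.2, e⟩

theorem cen_le [Fact p.Prime] (hp : commutator G = ⊤) (hS : IsSylowIn p S ⊤) :
    center G ⊓ S ≤ ⁅S, S⁆ := fun x hx => by
  obtain ⟨T, rfl⟩ := hS.exists_sylow_top
  exact H3.mem_commutator_sylow_of_central T hx.2 (hp ▸ mem_top x) hx.1

theorem cen_le_CC (S : Subgroup G) : center G ≤ CC(S) := center_le_centralizer _

theorem cen_card [hp : Fact p.Prime] (h : commutator G = ⊤) (hS : IsSylowIn p S ⊤) {k : ℕ}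
    (hk : (center G).relIndex S = p ^ k) :
    (k ≤ 1 → center G ⊓ S = ⊥) ∧ (k ≤ 2 → Nat.card (center G ⊓ S : Subgroup G) ∣ p) := by
  have l := cen_le h hS
  have h1 : k ≤ 1 → center G ⊓ S = ⊥ := fun hk1 => by
    have : S ≤ CC(S) := by
      interval_cases k
      · exact (relIndex_eq_one.1 (by simpa using hk)).trans (cen_le_CC S)
      · exact isMulCommutative_iff_le_CC.1
          (H16.comm_of_center_relIndex (cen_le_CC S) (by rw [hk, pow_one]; exact hp.out))
    rwa [comm_eq_bot.2 this, le_bot_iff] at l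
  refine ⟨h1, fun hk2 => ?_⟩
  rcases Nat.lt_or_ge k 2 with c | c
  · rw [h1 (by omega), card_bot]; exact one_dvd _
  obtain rfl : k = 2 := by omega
  obtain ⟨z, -, hz, hle⟩ := der_small hp.out inf_le_right (inf_le_left.trans (cen_le_CC S))
    (by rw [inf_relIndex_right, hk])
  exact (card_dvd_of_le (l.trans hle)).trans (by
    rw [Nat.card_zpowers]; exact orderOf_dvd_of_pow_eq_one hz)

theorem cen_le_syl [Fact p.Prime] (hS : IsSylowIn p S ⊤) (hZ : Z ≤ center G) (h : IsPGroup p Z) :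
    Z ≤ S := hS.le_of_le_NN h le_top (hZ.trans ((cen_le_CC S).trans (CC_le_NN S)))

/-- a perfect central extension of odd order kernel with quotient of order `2520` -/
theorem cen_a7 (h : commutator G = ⊤) (hP : IsSylowIn 2 P ⊤) (h2 : center G ⊓ P = ⊥)
    (hc : Nat.card (G ⧸ center G) = 2520) : Nat.card (center G) ∣ 3 := by
  have key : ∀ (p : ℕ) [Fact p.Prime] (S : Subgroup G), IsSylowIn p S ⊤ →
      ∃ k, (center G).relIndex S = p ^ k ∧ p ^ k ∣ 2520 := fun p _ S hS => by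
    obtain ⟨k, hk⟩ := IsPGroup.iff_card.1 (hS.isPGroup.map (QuotientGroup.mk' (center G)))
    refine ⟨k, ?_, hk ▸ hc ▸ card_subgroup_dvd_card _⟩
    rw [← hk, ← relIndex_ker, QuotientGroup.ker_mk']
  have h3 : IsPGroup 3 (center G) := by
    refine IsPGroup.of_card (Nat.eq_prime_pow_of_unique_prime_dvd Nat.card_pos.ne' ?_)
    intro p hp hd
    have := Fact.mk hp
    obtain ⟨x, hx, ox⟩ := exists_orderOf_eq_of_dvd hd
    have q : ∀ S, IsSylowIn p S ⊤ → center G ⊓ S ≠ ⊥ := fun S hS e => by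
      have : x ∈ center G ⊓ S := ⟨hx, cen_le_syl hS (zpowers_le.2 hx)
        (isPGroup_zpowers_of_orderOf_eq ox) (mem_zpowers x)⟩
      exact ne_one_of_orderOf_eq ox (by rwa [e, mem_bot] at this)
    by_cases e : p = 2
    · subst e; exact (q P hP h2).elim
    obtain ⟨S, hS⟩ := exists_isSylowIn p (⊤ : Subgroup G)
    obtain ⟨k, hk, hd⟩ := key p S hS
    have k2 : 2 ≤ k := by
      by_contra c
      exact q S hS ((cen_card h hS hk).1 (by omega))
    have d := (pow_dvd_pow p k2).trans hd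
    have l : p ≤ 50 := by nlinarith [Nat.le_of_dvd (by norm_num) d]
    interval_cases p <;> first | rfl | omega | (norm_num at hp)
  have := Fact.mk Nat.prime_three
  obtain ⟨S, hS⟩ := exists_isSylowIn 3 (⊤ : Subgroup G)
  obtain ⟨k, hk, hd⟩ := key 3 S hS
  have k2 : k ≤ 2 := by
    by_contra c
    have := (pow_dvd_pow 3 (show 3 ≤ k by omega)).trans hd
    omega
  have := (cen_card h hS hk).2 k2
  rwa [inf_eq_left.2 (cen_le_syl hS le_rfl h3)] at this

theorem T4.map {Y : Type*} [Group Y] [Finite Y] (k : T4 P z) {f : G →* Y}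
    (hf : Function.Surjective f) (h : P ⊓ f.ker = ⊥) : T4 (P.map f) (f z) := by
  have z1 : f z ≠ 1 := fun e => k.z1 (by
    have : z ∈ P ⊓ f.ker := ⟨k.zP, e⟩
    rwa [h, mem_bot] at this)
  have c : ∀ y ∈ P, f y ∈ CC(P.map f) → y ∈ CC(P) := fun y hy hc t ht => by
    rcases k.comm t ht y hy with e | e
    · exact mul_inv_eq_iff_eq_mul.1 e
    · have := congrArg f e
      rw [map_mul, map_mul, hc _ (mem_map_of_mem f ht), map_inv, mul_inv_cancel_right, map_mul] at this
      exact (z1 (by simpa using this)).elim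
  refine ⟨k.syl.map_top hf, z1, by rw [← map_mul, k.zz, map_one], mem_map_of_mem f k.zP,
    map_CC_le f P (mem_map_of_mem f k.zc), ?_,
    fun e => k.nab fun y hy => c y hy (e (mem_map_of_mem f hy)), ?_⟩
  · rintro _ ⟨a, ha, rfl⟩ _ ⟨b, hb, rfl⟩
    rcases k.comm a ha b hb with e | e
    · left; rw [← map_inv, ← map_mul, ← map_mul, e]
    · right; rw [← map_inv, ← map_mul, ← map_mul, e, map_mul]
  · have e : P.map f ⊓ CC(P.map f) = (P ⊓ CC(P)).map f := by
      refine le_antisymm ?_ (le_inf (map_mono inf_le_left) ((map_mono inf_le_right).trans (map_CC_le f P)))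
      rintro _ ⟨⟨y, hy, rfl⟩, hc⟩
      exact mem_map_of_mem f ⟨hy, c y hy hc⟩
    have h1 := card_mul_relIndex (K := P.map f ⊓ CC(P.map f)) inf_le_left
    have h2 := card_mul_relIndex (K := P ⊓ CC(P)) inf_le_left
    have h3 := H1.card_map_mul_card_inf_ker P f
    have h4 := H1.card_map_mul_card_inf_ker (P ⊓ CC(P)) f
    rw [h, card_bot, mul_one] at h3
    rw [eq_bot_iff.2 ((inf_le_inf_right _ inf_le_left).trans h.le), card_bot, mul_one] at h4
    rw [h3, ← h2, k.idx] at h1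
    nth_rw 1 [e] at h1
    rw [h4] at h1
    exact Nat.eq_of_mul_eq_mul_left Nat.card_pos h1

theorem not_isolated (hs : IsSimpleGroup G) (hn : ¬ IsMulCommutative G) :
    ¬ IsIsolatedInvolution z := fun h => by
  have := H19.zstar_center h (sSup_eq_bot.2 fun N hN => (hN.1.eq_bot_or_eq_top).resolve_right
    fun e => by
      have h2 := hN.2
      rw [e, card_top] at h2
      have := Nat.Coprime.eq_one_of_dvd h2.symm (h.1 ▸ orderOf_dvd_natCard z)
      omega)
  rw [H7.simple_center_eq_bot hs hn, mem_bot] at this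
  have h1 := h.1
  simp [this] at h1

theorem main (hq : IsQuasisimple G) (k : T4 P z) (hz : ⁅P, P⁆ ≤ zpowers z)
    (hG : ¬ IsMulCommutative (G ⧸ center G) → H5.Gd.ThmS (G ⧸ center G)) :
    Nat.card P = 8 ∧ (Nonempty (G ≃* alternatingGroup (Fin 7)) ∨
      (Nat.card (center G) = 3 ∧ Nonempty (G ⧸ center G ≃* alternatingGroup (Fin 7))) ∨
      ∃ (F : Type) (_ : Field F) (_ : Fintype F), Odd (Fintype.card F) ∧
        Nonempty (G ⧸ center G ≃* Matrix.ProjectiveSpecialLinearGroup (Fin 2) F)) := by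
  have hp : commutator G = ⊤ := hq.1.commutator_eq_top
  have sf := QuotientGroup.mk'_surjective (center G)
  have kf := QuotientGroup.ker_mk' (center G)
  generalize QuotientGroup.mk' (center G) = f at sf kf
  have hp' : commutator (G ⧸ center G) = ⊤ := by
    rw [_root_.commutator_def, ← map_top_of_surjective f sf, ← map_commutator]
    exact congrArg (Subgroup.map f) hp
  have hn : ¬ IsMulCommutative (G ⧸ center G) := fun h => by
    have := hq.2.toNontrivial
    rw [(commutator_eq_bot_iff_center_eq_top _).2 (center_eq_top_iff.2 h)] at hp'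
    exact bot_ne_top hp'
  have l := (cen_le hp k.syl).trans hz
  have hQ := k.syl.map_top sf
  have c1 := H1.card_map_mul_card_inf_ker P f
  by_cases zc : z ∈ center G
  · have i1 : (center G).relIndex P = Nat.card (P.map f) := by rw [← relIndex_ker, kf]
    have d4 : 4 ∣ Nat.card (P.map f) := by
      rw [← i1, ← k.idx, ← inf_relIndex_right (center G)]
      exact relIndex_dvd_of_le_left _ (le_inf inf_le_right (inf_le_left.trans (cen_le_CC P)))
    have ab : P.map f ≤ CC(P.map f) := comm_eq_bot.1 (by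
      rw [← map_commutator, Subgroup.map_eq_bot_iff, kf]; exact hz.trans (zpowers_le.2 zc))
    rcases ab_syl hq.2 hn (hG hn) hQ (fun e => by rw [e, card_bot] at d4; omega) ab with
      ⟨h8, F, i, j, h1, -, h2⟩ | ⟨h8, h⟩
    · refine ⟨?_, Or.inr (Or.inr ⟨F, i, j, h1, h2⟩)⟩
      obtain ⟨m, hm⟩ := IsPGroup.iff_card.1 hQ.isPGroup
      have m3 : m < 3 := by
        by_contra c
        exact h8 ((pow_dvd_pow 2 (not_lt.1 c)).trans (hm ▸ card_subgroup_dvd_card _))
      have e : P ⊓ f.ker = zpowers z := by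
        rw [kf, inf_comm]; exact le_antisymm l (zpowers_le.2 ⟨zc, k.zP⟩)
      rw [e, Nat.card_zpowers, orderOf_eq_prime (p := 2) (by rw [pow_two, k.zz]) k.z1, hm] at c1
      rw [hm] at d4
      interval_cases m <;> omega
    · exfalso
      obtain ⟨a, ha, a1⟩ : ∃ a ∈ P ⊓ CC(P), f a ≠ 1 := by
        by_contra c
        push Not at c
        have := relIndex_dvd_of_le_left P (show P ⊓ CC(P) ≤ center G from fun a ha => kf ▸ c a ha)
        rw [i1, k.idx] at this
        have := Nat.le_of_dvd (by norm_num) (h8.trans this)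
        omega
      obtain ⟨y, hy, hy'⟩ := k.exists_not
      obtain ⟨n, hn, e⟩ := h _ (mem_map_of_mem f ha.1) a1 _ (mem_map_of_mem f hy)
        (fun e => hy' (cen_le_CC P (kf ▸ e)))
      obtain ⟨n, rfl⟩ := sf n
      have nP : n ∈ NN(P) := mem_NN_of_cj_le (k.syl.le_of_le_NN (isPGroup_cj n k.syl.isPGroup) le_top (by
        refine le_trans ?_ (sup_le (le_NN_self P) ((cen_le_CC P).trans (CC_le_NN P)))
        rw [← kf, ← comap_map_eq, ← map_le_iff_le_comap, map_cj, cj_eq_of_mem_NN hn]))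
      have : (n * a * n⁻¹)⁻¹ * y ∈ center G := by
        rw [← kf, MonoidHom.mem_ker, map_mul, map_inv, map_mul, map_mul, map_inv, e, inv_mul_cancel]
      exact hy' ((mul_mem_cancel_left (inv_mem (conj_CC nP ha.2))).1 (cen_le_CC P this))
  · have h0 : center G ⊓ P = ⊥ := (eq_bot_iff_forall _).2 fun x hx =>
      (mem_zpowers_two k.zz (l hx)).resolve_right fun e => zc (e ▸ hx.1)
    have h1 : P ⊓ f.ker = ⊥ := by rw [kf, inf_comm, h0]
    obtain ⟨x, y, d⟩ := (k.map sf h1).dh hp' (not_isolated hq.2 hn) fun A h h' => (hG hn A h h').1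
    rw [h1, card_bot, mul_one, GW.Q8.dh_card d] at c1
    refine ⟨c1.symm, ?_⟩
    rcases GW.known hq.2 hn (GW.Q8.dih_of_sylow hQ (GW.Q8.cd_of_dh d)) with ⟨F, i, j, h1, -, h2⟩ | ⟨⟨e⟩⟩
    · exact Or.inr (Or.inr ⟨F, i, j, h1, h2⟩)
    have := cen_a7 hp k.syl h0 (by
      rw [Nat.card_congr e.toEquiv, nat_card_alternatingGroup]; simp [Nat.factorial])
    rcases (Nat.dvd_prime Nat.prime_three).1 this with c | c
    · rw [card_eq_one] at c
      exact Or.inl ⟨(QuotientGroup.quotientBot.symm.trans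
        (QuotientGroup.quotientMulEquivOfEq c.symm)).trans e⟩
    · exact Or.inr (Or.inl ⟨c, ⟨e⟩⟩)

end H8.Z4
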