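import Cfsg.Agent.H1.Ord1

/-! Same-order counts: Sylow tools. -/

set_option autoImplicit false
set_option linter.unusedSectionVars false

namespace H8.NS
open Subgroup H1.Ord
open scoped Pointwise

variable {G : Type*} [Group G] [Finite G]

theorem sum_le (D : Finset ℕ) : ∑ d ∈ D, s G d ≤ Nat.card G := by
  classical
  have h1 : ∑ d ∈ D, s G d = ∑ d ∈ D.filter (fun d => s G d ≠ 0), s G d :=
    (Finset.sum_filter_ne_zero D).symm
  have h2 : D.filter (fun d => s G d ≠ 0) ⊆ (Nat.card G).divisors := by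
    intro d hd
    exact Nat.mem_divisors.2 ⟨s_card (Finset.mem_filter.1 hd).2, Nat.card_pos.ne'⟩
  have h3 := sum_s G (n := Nat.card G) Nat.card_pos.ne'
  have h4 : Nat.card {g : G // g ^ Nat.card G = 1} ≤ Nat.card G :=
    Nat.card_le_card_of_injective Subtype.val Subtype.val_injective
  rw [h1]
  exact (Finset.sum_le_sum_of_subset h2).trans (h3 ▸ h4)

theorem card_eq_sum {E : ℕ} (hE : E ≠ 0) (h : ∀ m, s G m ≠ 0 → m ∣ E) :
    Nat.card G = ∑ d ∈ E.divisors, s G d := by
  rw [← sum_s G hE]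
  refine (Nat.card_congr ⟨Subtype.val, fun g => ⟨g, ?_⟩, fun _ => rfl, fun _ => rfl⟩).symm
  exact orderOf_dvd_iff_pow_eq_one.1 (h _ (s_ne.2 ⟨g, rfl⟩))

theorem dvd_of_pp {n N : ℕ} (h : ∀ p k : ℕ, p.Prime → 0 < k → p ^ k ∣ n → p ^ k ∣ N) : n ∣ N := by
  refine (Nat.dvd_iff_prime_pow_dvd_dvd N n).2 fun p k hp hk => ?_
  rcases Nat.eq_zero_or_pos k with rfl | h0
  · simp
  · exact h p k hp h0 hk

theorem pp_dvd {p k a n N : ℕ} (h : ¬ p ^ (a + 1) ∣ n) (hN : p ^ a ∣ N) (hk : p ^ k ∣ n) :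
    p ^ k ∣ N := by
  by_cases hle : k ≤ a
  · exact (pow_dvd_pow p hle).trans hN
  · exact absurd ((pow_dvd_pow p (by omega)).trans hk) h

theorem card_sylow {p k : ℕ} [hp : Fact p.Prime] (h1 : p ^ k ∣ Nat.card G)
    (h2 : ¬ p ^ (k + 1) ∣ Nat.card G) (P : Sylow p G) : Nat.card P = p ^ k := by
  rw [Sylow.card_eq_multiplicity]
  congr 1
  have h0 : Nat.card G ≠ 0 := Nat.card_pos.ne'
  have a1 := (hp.out.pow_dvd_iff_le_factorization h0).1 h1
  have a2 : ¬ k + 1 ≤ (Nat.card G).factorization p :=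
    fun h => h2 ((hp.out.pow_dvd_iff_le_factorization h0).2 h)
  omega

theorem exists_syl {p k : ℕ} [hp : Fact p.Prime] {x : G} (hx : x ^ p ^ k = 1) :
    ∃ Q : Sylow p G, x ∈ Q := by
  have : IsPGroup p (zpowers x) := by
    refine IsPGroup.of_card_dvd_pow (n := k) ?_
    rw [Nat.card_zpowers]
    exact orderOf_dvd_of_pow_eq_one hx
  obtain ⟨Q, hQ⟩ := this.exists_le_sylow
  exact ⟨Q, hQ (mem_zpowers x)⟩

theorem syl_eq {p k : ℕ} [hp : Fact p.Prime] (hc : ∀ P : Sylow p G, Nat.card P = p ^ k) {x : G}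
    (hx : orderOf x = p ^ k) {Q : Sylow p G} (hQ : x ∈ Q) : (Q : Subgroup G) = zpowers x := by
  symm
  refine Subgroup.eq_of_le_of_card_ge (zpowers_le.2 hQ) ?_
  rw [Nat.card_zpowers, hx]
  exact (hc Q).le

/-- Elements whose order has full `p`-part are evenly distributed over the Sylow subgroups. -/
theorem s_eq_mul {p k m : ℕ} [hp : Fact p.Prime] (hc : ∀ P : Sylow p G, Nat.card P = p ^ k)
    (hm : p ^ k ∣ m) (P : Sylow p G) :
    s G m = Nat.card (Sylow p G) * Nat.card {g : G // orderOf g = m ∧ g ^ (m / p ^ k) ∈ P} := by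
  classical
  have := Fintype.ofFinite G
  have := Fintype.ofFinite (Sylow p G)
  have hord : ∀ g : G, orderOf g = m → orderOf (g ^ (m / p ^ k)) = p ^ k := by
    intro g hg
    have h0 : m ≠ 0 := hg ▸ (orderOf_pos g).ne'
    subst hg
    exact orderOf_pow_orderOf_div h0 hm
  have hex : ∀ g : {g : G // orderOf g = m}, ∃ Q : Sylow p G, g.1 ^ (m / p ^ k) ∈ Q :=
    fun g => exists_syl (k := k) (orderOf_dvd_iff_pow_eq_one.1 (hord g.1 g.2).dvd)
  choose f hf using hex
  have hfib : ∀ Q : Sylow p G, (Finset.univ.filter (fun g => f g = Q)).card =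
      Nat.card {g : G // orderOf g = m ∧ g ^ (m / p ^ k) ∈ P} := by
    intro Q
    obtain ⟨c, hcQ⟩ := MulAction.exists_smul_eq G Q P
    rw [← Fintype.card_subtype, ← Nat.card_eq_fintype_card]
    have hmem : ∀ y : G, y ∈ P ↔ c⁻¹ * y * c ∈ Q := by
      intro y
      rw [← hcQ]
      change y ∈ (MulAut.conj c) • (Q : Subgroup G) ↔ _
      rw [Subgroup.mem_pointwise_smul_iff_inv_smul_mem]
      simp
    have hiff : ∀ g : {g : G // orderOf g = m}, f g = Q ↔ g.1 ^ (m / p ^ k) ∈ Q := by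
      intro g
      constructor
      · rintro rfl; exact hf g
      · intro h
        apply Sylow.ext
        rw [syl_eq hc (hord g.1 g.2) h, syl_eq hc (hord g.1 g.2) (hf g)]
    have ho : ∀ a y : G, orderOf (a * y * a⁻¹) = orderOf y := fun a y =>
      (MulAut.conj a).orderOf_eq y
    refine Nat.card_congr ⟨fun g => ⟨c * g.1.1 * c⁻¹, by rw [ho]; exact g.1.2, ?_⟩,
      fun g => ⟨⟨c⁻¹ * g.1 * c, by simpa using (ho c⁻¹ g.1).trans g.2.1⟩, ?_⟩, ?_, ?_⟩
    · rw [hmem, conj_pow]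
      simpa [mul_assoc] using (hiff _).1 g.2
    · rw [hiff]
      have := (hmem _).1 g.2.2
      have e : (c⁻¹ * g.1 * c) ^ (m / p ^ k) = c⁻¹ * g.1 ^ (m / p ^ k) * c := by
        simpa using conj_pow (a := c⁻¹) (b := g.1) (i := m / p ^ k)
      simpa [e] using this
    · intro g
      ext
      simp [mul_assoc]
    · intro g
      ext
      simp [mul_assoc]
  unfold s
  rw [Nat.card_eq_fintype_card, ← Finset.card_univ,
    Finset.card_eq_sum_card_fiberwise (f := f) (t := Finset.univ) (fun _ _ => Finset.mem_univ _)]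
  simp only [hfib]
  simp

theorem nsyl_dvd {p k m : ℕ} [hp : Fact p.Prime] (h1 : p ^ k ∣ Nat.card G)
    (h2 : ¬ p ^ (k + 1) ∣ Nat.card G) (hm : p ^ k ∣ m) : Nat.card (Sylow p G) ∣ s G m :=
  ⟨_, s_eq_mul (card_sylow h1 h2) hm default⟩

theorem s_cyc {p k : ℕ} [hp : Fact p.Prime] (h1 : s G (p ^ k) ≠ 0)
    (h2 : ¬ p ^ (k + 1) ∣ Nat.card G) :
    s G (p ^ k) = Nat.card (Sylow p G) * (p ^ k).totient := by
  classical
  have hc := card_sylow (s_card h1) h2
  obtain ⟨x, hx⟩ := s_ne.1 h1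
  obtain ⟨P, hP⟩ := exists_syl (p := p) (k := k) (x := x) (by rw [← hx]; exact pow_orderOf_eq_one _)
  rw [s_eq_mul hc dvd_rfl P]
  congr 1
  have hz := syl_eq hc hx hP
  have hpos : 0 < p ^ k := pow_pos hp.out.pos k
  rw [Nat.div_self hpos]
  have := Fintype.ofFinite (zpowers x)
  have h3 := IsCyclic.card_orderOf_eq_totient (α := zpowers x) (d := p ^ k)
    (by rw [← Nat.card_eq_fintype_card, Nat.card_zpowers, hx])
  rw [← h3, ← Fintype.card_subtype, ← Nat.card_eq_fintype_card]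
  refine Nat.card_congr ⟨fun g => ⟨⟨g.1, hz ▸ (by simpa using g.2.2)⟩, by simpa using g.2.1⟩,
    fun g => ⟨g.1.1, by simpa using g.2, by
      have h4 : (g.1 : G) ∈ (P : Subgroup G) := hz.ge g.1.2
      simpa using h4⟩, fun _ => rfl, fun _ => rfl⟩

theorem sol_le {p k : ℕ} [hp : Fact p.Prime] (h1 : p ^ k ∣ Nat.card G)
    (h2 : ¬ p ^ (k + 1) ∣ Nat.card G) :
    ∑ d ∈ (p ^ k).divisors, s G d ≤ Nat.card (Sylow p G) * p ^ k := by
  classical
  have hc := card_sylow h1 h2
  rw [← sum_s G (pow_pos hp.out.pos k).ne']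
  have hex : ∀ g : {g : G // g ^ p ^ k = 1}, ∃ Q : Sylow p G, g.1 ∈ Q := fun g => exists_syl g.2
  choose f hf using hex
  have := Fintype.ofFinite (Sylow p G)
  have h3 : Nat.card (Σ Q : Sylow p G, Q) = Nat.card (Sylow p G) * p ^ k := by
    rw [Nat.card_sigma, Finset.sum_congr rfl (fun Q _ => hc Q)]
    simp
  rw [← h3]
  refine Nat.card_le_card_of_injective (fun g => ⟨f g, ⟨g.1, hf g⟩⟩) ?_
  intro a b hab
  exact Subtype.ext (congrArg (fun z : (Σ Q : Sylow p G, Q) => (z.2 : G)) hab)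

theorem nsyl_mod (p : ℕ) [hp : Fact p.Prime] : Nat.card (Sylow p G) % p = 1 % p :=
  card_sylow_modEq_one p G

theorem nsyl_card (p : ℕ) [hp : Fact p.Prime] : Nat.card (Sylow p G) ∣ Nat.card G := by
  rw [Sylow.card_eq_index_normalizer (default : Sylow p G)]
  exact index_dvd_card _

/-- For a Sylow subgroup of prime order, `|G|` divides `n_p (p - 1) |C(x)|`. -/
theorem card_dvd {p : ℕ} [hp : Fact p.Prime] (h1 : p ∣ Nat.card G)
    (h2 : ¬ p ^ 2 ∣ Nat.card G) : ∃ x : G, orderOf x = p ∧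
      Nat.card G ∣ Nat.card (Sylow p G) * (p - 1) * Nat.card (centralizer ({x} : Set G)) := by
  classical
  have hc := card_sylow (k := 1) (by simpa using h1) h2
  obtain ⟨x, hx⟩ := exists_prime_orderOf_dvd_card' p h1
  obtain ⟨P, hP⟩ := exists_syl (p := p) (k := 1) (x := x)
    (by rw [pow_one, ← hx]; exact pow_orderOf_eq_one _)
  have hz := syl_eq hc (by rw [hx, pow_one]) hP
  refine ⟨x, hx, ?_⟩
  have e1 := Sylow.card_eq_index_normalizer P
  set N := normalizer ((P : Subgroup G) : Set G)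
  have e2 := N.index_mul_card
  let φ := (P : Subgroup G).normalizerMonoidHom
  have e3 := φ.ker.index_mul_card
  have e4 : φ.ker.index ∣ p - 1 := by
    rw [index_ker]
    refine (card_subgroup_dvd_card _).trans ?_
    have : IsCyclic (P : Subgroup G) := by rw [hz]; infer_instance
    rw [IsCyclic.card_mulAut]
    have := hc P
    rw [pow_one] at this
    change (Nat.card P).totient ∣ _
    rw [this, Nat.totient_prime hp.out]
  have e5 : Nat.card φ.ker ∣ Nat.card (centralizer ({x} : Set G)) := by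
    rw [normalizerMonoidHom_ker]
    have : Nat.card ((centralizer ((P : Subgroup G) : Set G)).subgroupOf N) =
        Nat.card (centralizer ((P : Subgroup G) : Set G)) :=
      Nat.card_congr (subgroupOfEquivOfLe (centralizer_le_normalizer _)).toEquiv
    rw [this]
    exact card_dvd_of_le (centralizer_le (by simpa using hP))
  rw [← e2, ← e3, e1, mul_assoc]
  exact Nat.mul_dvd_mul_left _ (Nat.mul_dvd_mul e4 e5)

theorem s_mul {p q : ℕ} (hp : p.Prime) (hq : q.Prime) (hne : p ≠ q) {x : G} (hx : orderOf x = p)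
    (h : q ∣ Nat.card (centralizer ({x} : Set G))) : s G (p * q) ≠ 0 := by
  haveI := Fact.mk hq
  obtain ⟨y, hy⟩ := exists_prime_orderOf_dvd_card' q h
  have hy' : orderOf (y : G) = q := by simpa using hy
  have hc : Commute x (y : G) := by
    have := y.2
    rw [mem_centralizer_singleton_iff] at this
    exact this.symm
  refine s_ne.2 ⟨x * y, ?_⟩
  rw [hc.orderOf_mul_eq_mul_orderOf_of_coprime, hx, hy']
  rw [hx, hy']
  exact (Nat.coprime_primes hp hq).2 hne

theorem cent_card {p : ℕ} (hp : p.Prime) (h2 : ¬ p ^ 2 ∣ Nat.card G) {x : G} (hx : orderOf x = p)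
    (h : ∀ q, q.Prime → q ≠ p → q ∣ Nat.card G → s G (p * q) = 0) :
    Nat.card (centralizer ({x} : Set G)) ∣ p := by
  refine dvd_of_pp fun q k hq hk hd => ?_
  by_cases hqp : q = p
  · subst hqp
    exact pp_dvd (a := 1) h2 (by simp) (hd.trans (card_subgroup_dvd_card _))
  · have h3 : q ∣ Nat.card (centralizer ({x} : Set G)) := (dvd_pow_self q hk.ne').trans hd
    exact absurd (h q hq hqp (h3.trans (card_subgroup_dvd_card _)))
      (s_mul hp hq (Ne.symm hqp) hx h3)

theorem sol_le_normal (N : Subgroup G) [N.Normal] {n : ℕ} (hn : n ≠ 0) (h : n.Coprime N.index) :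
    ∑ d ∈ n.divisors, s G d ≤ Nat.card N := by
  rw [← sum_s G hn]
  refine Nat.card_le_card_of_injective (fun g => ⟨g.1, ?_⟩) ?_
  · rw [← QuotientGroup.eq_one_iff, ← orderOf_eq_one_iff]
    refine Nat.eq_one_of_dvd_coprimes h ?_ (orderOf_dvd_natCard _)
    apply orderOf_dvd_of_pow_eq_one
    rw [← QuotientGroup.mk_pow, g.2, QuotientGroup.mk_one]
  · intro a b hab
    exact Subtype.ext (congrArg (fun z : N => (z : G)) hab)

/-- An element of prime order `p` with centraliser of order `p` permutes the elements of order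
`m > 1` of a normal `p'`-subgroup without fixed points. -/
theorem fpf {p : ℕ} (hp : p.Prime) {x : G} (hx : orderOf x = p)
    (hC : Nat.card (centralizer ({x} : Set G)) ∣ p) (N : Subgroup G) [hN : N.Normal]
    (hpN : ¬ p ∣ Nat.card N) {m : ℕ} (hm : m ≠ 1) : p ∣ s N m := by
  classical
  haveI := Fact.mk hp
  have := Fintype.ofFinite {g : N // orderOf g = m}
  let f : Function.End {g : N // orderOf g = m} := fun g =>
    ⟨⟨x * g.1 * x⁻¹, hN.conj_mem _ g.1.2 x⟩, by
      rw [← Subgroup.orderOf_coe]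
      exact ((MulAut.conj x).orderOf_eq _).trans (by rw [Subgroup.orderOf_coe]; exact g.2)⟩
  have hpow : ∀ (i : ℕ) (g : {g : N // orderOf g = m}), (((f ^ i) g).1 : G) = x ^ i * g.1 * (x ^ i)⁻¹ := by
    intro i
    induction i with
    | zero => intro g; simp; rfl
    | succ i ih =>
      intro g
      rw [pow_succ', pow_succ']
      change x * (((f ^ i) g).1 : G) * x⁻¹ = _
      rw [ih]; group
  have hf : f ^ p ^ 1 = 1 := by
    funext g
    apply Subtype.ext; apply Subtype.ext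
    rw [hpow, pow_one, ← hx, pow_orderOf_eq_one]
    simp; rfl
  have h1 := Equiv.Perm.card_fixedPoints_modEq hf
  have h2 : IsEmpty f.fixedPoints := by
    refine ⟨fun g => ?_⟩
    have h3 : x * (g.1.1 : G) * x⁻¹ = g.1.1 := congrArg (fun z => (z.1 : G)) g.2
    have h4 : (g.1.1 : G) ∈ centralizer ({x} : Set G) := by
      rw [mem_centralizer_singleton_iff]
      exact (mul_inv_eq_iff_eq_mul.1 h3).symm
    have h5 : m ∣ p := by
      rw [← g.1.2, ← Subgroup.orderOf_coe]
      exact (Subgroup.orderOf_dvd_natCard _ h4).trans hC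
    have h6 : m ∣ Nat.card N := g.1.2 ▸ orderOf_dvd_natCard _
    rcases (Nat.dvd_prime hp).1 h5 with h | h
    · exact hm h
    · exact hpN (h ▸ h6)
  rw [Fintype.card_eq_zero (α := f.fixedPoints)] at h1
  unfold s
  rw [Nat.card_eq_fintype_card]
  exact (Nat.modEq_zero_iff_dvd).1 h1

theorem vals {S : Set ℕ}
    (h : ((fun m : ℕ => Nat.card {g : G // orderOf g = m}) '' Set.range (orderOf : G → ℕ)) = S) :
    (∀ m, s G m = 0 ∨ s G m ∈ S) ∧ ∀ v ∈ S, ∃ m, s G m = v := by
  subst h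
  refine ⟨fun m => ?_, ?_⟩
  · by_cases h0 : s G m = 0
    · exact Or.inl h0
    · obtain ⟨g, hg⟩ := s_ne.1 h0
      exact Or.inr ⟨m, ⟨g, hg⟩, rfl⟩
  · rintro v ⟨m, -, rfl⟩
    exact ⟨m, rfl⟩

theorem s_zero : s G 0 = 0 := by
  by_contra h
  obtain ⟨g, hg⟩ := s_ne.1 h
  exact (orderOf_pos g).ne' hg

theorem s_two {v : ℕ} (hv : v % 2 = 1) (h1 : v ≠ 1) (h : ∃ m, s G m = v) : s G 2 = v := by
  obtain ⟨m, hm⟩ := h
  by_cases h2 : 2 < m
  · have := s_even (G := G) h2
    omega
  · have a0 := s_zero (G := G)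
    have a1 := s_one G
    interval_cases m <;> omega

end H8.NS
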