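import Cfsg.Agent.H7.AutAlt

/-! Squares of automorphisms of alternating groups are induced by the symmetric group. -/

set_option autoImplicit false

namespace H8.Sy
open Equiv Equiv.Perm Subgroup

variable {α : Type*} [Fintype α] [DecidableEq α]

theorem isConj_alt {u v : alternatingGroup α} (h : IsConj (u : Perm α) v)
    (hc : ¬ centralizer {(u : Perm α)} ≤ alternatingGroup α) : IsConj u v := by
  obtain ⟨σ, e⟩ := isConj_iff.1 h
  by_cases s : σ ∈ alternatingGroup α
  · exact isConj_iff.2 ⟨⟨σ, s⟩, Subtype.ext e⟩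
  obtain ⟨τ, h1, h2⟩ := SetLike.not_le_iff_exists.1 hc
  refine isConj_iff.2 ⟨⟨σ * τ, ?_⟩, Subtype.ext ?_⟩
  · rw [mem_alternatingGroup] at s h2 ⊢
    rw [Perm.sign_mul, (Int.units_eq_one_or _).resolve_left s, (Int.units_eq_one_or _).resolve_left h2]
    simp
  · change σ * τ * u * (σ * τ)⁻¹ = v
    rw [← e, mul_assoc σ, mem_centralizer_singleton_iff.1 h1]; group

theorem type_six (h6 : Fintype.card α = 6) {u : Perm α} (h1 : u ≠ 1) (h3 : u ^ 3 = 1)
    (h : ¬ u.IsThreeCycle) : u.cycleType = {3, 3} := by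
  have := Fact.mk Nat.prime_three
  have e := cycleType_of_pow_prime_eq_one h3
  have s := u.sum_cycleType_le
  have k0 : u.cycleType.card ≠ 0 := fun c => h1 (cycleType_eq_zero.1 (Multiset.card_eq_zero.1 c))
  have k1 : u.cycleType.card ≠ 1 := fun c => h (by rw [IsThreeCycle, e, c]; rfl)
  rw [e, Multiset.sum_replicate, h6, smul_eq_mul] at s
  rw [e, show u.cycleType.card = 2 by omega]; rfl

theorem three_of_conj {u v : alternatingGroup α} (h : IsConj u v) (hu : (u : Perm α).IsThreeCycle) :
    (v : Perm α).IsThreeCycle :=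
  (isConj_iff_cycleType_eq.1 ((alternatingGroup α).subtype.map_isConj h)).symm.trans hu

theorem sq_mem_range (h5 : 5 ≤ Fintype.card α) (φ : MulAut (alternatingGroup α)) :
    φ * φ ∈ (MulAut.conjNormal : Perm α →* MulAut (alternatingGroup α)).range := by
  have k : ∀ ψ : MulAut (alternatingGroup α), (∃ σ : Perm α, ∀ g, (ψ g : Perm α) = σ * g * σ⁻¹) →
      ψ ∈ (MulAut.conjNormal : Perm α →* MulAut (alternatingGroup α)).range := fun ψ ⟨σ, h⟩ =>
    ⟨σ, MulEquiv.ext fun g => Subtype.ext (h g).symm⟩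
  by_cases h6 : Fintype.card α = 6
  swap
  · exact k _ (H7.exists_conj_of_aut (by omega) h6 _)
  refine k _ (H7.exists_conj_of_three (by omega) ((alternatingGroup α).subtype.comp (φ * φ).toMonoidHom)
    (Subtype.val_injective.comp (φ * φ).injective) fun c hc => ?_)
  change (φ (φ c) : Perm α).IsThreeCycle
  have h5' : 5 ≤ Nat.card α := by rwa [Nat.card_eq_fintype_card]
  have m : ∀ {u v}, IsConj u v → IsConj (φ u) (φ v) := fun h => φ.toMonoidHom.map_isConj h
  by_cases h : (φ c : Perm α).IsThreeCycle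
  · exact three_of_conj (m (alternatingGroup.isThreeCycle_isConj h5' hc h)) h
  have c1 : c ≠ 1 := fun e => hc.ne_one (congrArg Subtype.val e)
  have c3 : c ^ 3 = 1 := Subtype.ext (by
    rw [SubgroupClass.coe_pow, ← hc.orderOf, pow_orderOf_eq_one]; rfl)
  have t : ∀ ψ : MulAut (alternatingGroup α), ¬ (ψ c : Perm α).IsThreeCycle →
      (ψ c : Perm α).cycleType = {3, 3} := fun ψ h =>
    type_six h6 (fun e => c1 (ψ.map_eq_one_iff.1 (Subtype.ext e)))
      (by rw [← SubgroupClass.coe_pow, ← map_pow, c3, map_one]; rfl) h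
  have e : φ (φ⁻¹ c) = c := φ.apply_symm_apply c
  have h' : ¬ (φ⁻¹ c : Perm α).IsThreeCycle := fun d =>
    h (three_of_conj (by simpa only [e] using m (alternatingGroup.isThreeCycle_isConj h5' d hc)) hc)
  have := isConj_alt (isConj_of_cycleType_eq ((t _ h').trans (t _ h).symm)) fun l => by
    have := (centralizer_le_alternating_iff.1 l).2.2 3
    rw [t _ h'] at this
    simp at this
  exact three_of_conj (by simpa only [e] using m this) hc

theorem mem_range_of_odd (h5 : 5 ≤ Fintype.card α) {φ : MulAut (alternatingGroup α)}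
    (h : Odd (orderOf φ)) :
    φ ∈ (MulAut.conjNormal : Perm α →* MulAut (alternatingGroup α)).range := by
  obtain ⟨k, hk⟩ := h
  have := pow_orderOf_eq_one φ
  rw [hk, pow_succ, pow_mul, pow_two] at this
  rw [eq_inv_of_mul_eq_one_right this]
  exact inv_mem (pow_mem (sq_mem_range h5 φ) k)

end H8.Sy
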