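import Cfsg.Agent.H17.Be1

/-! Binary actions: general lemmas. -/

set_option autoImplicit false
set_option linter.unusedSectionVars false

namespace H8.Bin

open Subgroup MulAction _root_.Cfsg
open scoped Pointwise

/-- relational complexity two -/
def Bin (G Ω : Type*) [Group G] [MulAction G Ω] : Prop :=
  ∀ (n : ℕ) (I J : Fin n → Ω), 2 ≤ n → (∀ i j : Fin n, i ≠ j → ∃ g : G, g • I i = J i ∧ g • I j = J j) →
    ∃ g : G, ∀ i, g • I i = J i

/-- the consequence of being binary that is used throughout -/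
def ML (G Ω : Type*) [Group G] [MulAction G Ω] : Prop :=
  ∀ a b : G, ∃ f : G, (∀ x : Ω, a • x = x → f • x = x) ∧ (∀ x : Ω, b • x = x → f • x = x) ∧
    ∀ x : Ω, a • x = b • x → f • x = a • x

variable {G Ω : Type*} [Group G] [MulAction G Ω]

theorem Bin.ml [Finite Ω] (h : Bin G Ω) : ML G Ω := by
  classical
  intro a b
  let S : Set Ω := {x | a • x = x ∨ b • x = x ∨ a • x = b • x}
  let σ : Ω → Ω := fun x => if a • x = b • x then a • x else x
  have key : ∀ x ∈ S, ∀ y ∈ S, ∃ g : G, g • x = σ x ∧ g • y = σ y := by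
    intro x hx y hy
    by_cases h1 : a • x = b • x <;> by_cases h2 : a • y = b • y <;> simp only [σ, h1, h2, if_true, if_false]
    · exact ⟨b, rfl, rfl⟩
    · rcases hy with hy | hy | hy
      exacts [⟨a, h1, hy⟩, ⟨b, rfl, hy⟩, absurd hy h2]
    · rcases hx with hx | hx | hx
      exacts [⟨a, hx, h2⟩, ⟨b, hx, rfl⟩, absurd hx h1]
    · exact ⟨1, one_smul _ _, one_smul _ _⟩
  have fin : ∀ f : G, (∀ x ∈ S, f • x = σ x) → (∀ x : Ω, a • x = x → f • x = x) ∧
      (∀ x : Ω, b • x = x → f • x = x) ∧ ∀ x : Ω, a • x = b • x → f • x = a • x := fun f hf => by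
    refine ⟨fun x hx => ?_, fun x hx => ?_, fun x hx => ?_⟩
    · rw [hf x (Or.inl hx)]; simp only [σ]; split_ifs; exacts [hx, rfl]
    · rw [hf x (Or.inr (Or.inl hx))]; simp only [σ]; split_ifs with h1; exacts [h1.trans hx, rfl]
    · rw [hf x (Or.inr (Or.inr hx))]; simp only [σ, hx, if_true]
  rcases S.eq_empty_or_nonempty with h0 | ⟨x0, hx0⟩
  · exact ⟨1, fin 1 fun x hx => absurd (h0 ▸ hx) (Set.notMem_empty x)⟩
  obtain ⟨n, ⟨e⟩⟩ := Finite.exists_equiv_fin S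
  let I : Fin (n + 2) → Ω := fun i => if h : i.1 < n then (e.symm ⟨i.1, h⟩).1 else x0
  have hI : ∀ i, I i ∈ S := fun i => by
    simp only [I]; split_ifs; exacts [(e.symm _).2, hx0]
  obtain ⟨f, hf⟩ := h (n + 2) I (fun i => σ (I i)) (by omega) fun i j _ => key _ (hI i) _ (hI j)
  refine ⟨f, fin f fun x hx => ?_⟩
  have := hf ⟨(e ⟨x, hx⟩).1, by have := (e ⟨x, hx⟩).2; omega⟩
  simpa [I] using this

theorem ML.comp {Γ : Type*} [Group Γ] [MulAction Γ Ω] (h : ML G Ω) {φ : Γ →* G} (hφ : Function.Surjective φ)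
    (e : ∀ (g : Γ) (x : Ω), g • x = φ g • x) : ML Γ Ω := fun a b => by
  obtain ⟨f, h1⟩ := h (φ a) (φ b)
  obtain ⟨f, rfl⟩ := hφ f
  exact ⟨f, by simpa only [e] using h1⟩

theorem ncard_fix_conj {s t : G} (h : IsConj s t) : (fixedBy Ω s).ncard = (fixedBy Ω t).ncard := by
  obtain ⟨g, rfl⟩ := isConj_iff.1 h
  rw [← smul_fixedBy, Set.ncard_smul_set]

section
variable [Finite G] [Finite Ω] (h : ML G Ω) (hone : ∀ s t : G, orderOf s = 2 → orderOf t = 2 → IsConj s t)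
include hone

theorem fix_eq_of_le {s t : G} (hs : orderOf s = 2) (ht : orderOf t = 2) (e : fixedBy Ω s ⊆ fixedBy Ω t) :
    fixedBy Ω s = fixedBy Ω t :=
  Set.eq_of_subset_of_ncard_le e (ncard_fix_conj (hone _ _ ht hs)).le

include h

theorem fix_eq {s t : G} (hs : orderOf s = 2) (ht : orderOf t = 2) (hc : Commute s t) :
    fixedBy Ω s = fixedBy Ω t := by
  by_cases hst : s = t
  · rw [hst]
  have s2 := H6.ord2_mul_self hs
  have hu := H6.ord2_mul_of_commute s2 (H6.ord2_mul_self ht) hc hst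
  obtain ⟨f, h1, h2, h3⟩ := h s t
  rcases Nat.even_or_odd (orderOf f) with he | ho
  · have hz := H6.ord2_pow_half (orderOf_pos f).ne' he
    rw [fix_eq_of_le hone hs hz fun x hx => (stabilizer G x).pow_mem (h1 x hx) _,
      fix_eq_of_le hone ht hz fun x hx => (stabilizer G x).pow_mem (h2 x hx) _]
  have h4 : ∀ x : Ω, (s * t) • x = x ↔ s • x = t • x := fun x => by
    rw [mul_smul, ← eq_inv_smul_iff, H6.ord2_inv hs, eq_comm]
  have h5 : ∀ k : ℕ, ∀ x : Ω, (s * t) • x = x → f ^ k • x = s ^ k • x := fun k => by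
    induction k with
    | zero => simp
    | succ k ih =>
      intro x hx
      rw [pow_succ, pow_succ, mul_smul, mul_smul, h3 x ((h4 x).1 hx), ih]
      rw [← mul_smul, ((Commute.refl s).mul_left hc.symm).eq, mul_smul, hx]
  have h6 : ∀ x : Ω, (s * t) • x = x → s • x = x := fun x hx => by
    have := h5 (orderOf f) x hx
    obtain ⟨m, hm⟩ := ho
    rw [pow_orderOf_eq_one, hm, pow_succ, pow_mul, pow_two, s2, one_pow, one_mul, one_smul] at this
    exact this.symm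
  rw [← fix_eq_of_le hone hu hs fun x hx => h6 x hx,
    fix_eq_of_le hone hu ht fun x hx => ((h4 x).1 hx).symm.trans (h6 x hx)]

theorem fix_of_comm {s t : G} (hs : orderOf s = 2) (ht : t * t = 1) (hc : Commute s t) {x : Ω} (hx : s • x = x) :
    t • x = x := by
  by_cases h1 : t = 1
  · rw [h1, one_smul]
  · exact (fix_eq h hone hs (H6.ord2_of ht h1) hc).le hx

theorem fix_eq_of_mem {s t : G} (hs : orderOf s = 2) (ht : orderOf t = 2)
    (hm : t ∈ stabilizer G (fixedBy Ω s)) : fixedBy Ω t = fixedBy Ω s := by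
  have s2 := H6.ord2_mul_self hs
  have t2 := H6.ord2_mul_self ht
  rcases Nat.even_or_odd (orderOf (s * t)) with he | ho
  · obtain ⟨h1, h2, h3⟩ := H6.exists_central_inv s2 t2 he
    rw [← fix_eq h hone h1 hs h2, fix_eq h hone h1 ht h3]
  · obtain ⟨k, hk⟩ := H6.exists_pow_conj_of_odd s2 t2 ho
    have h1 : s ∈ stabilizer G (fixedBy Ω s) := by rw [mem_stabilizer_iff, smul_fixedBy, mul_inv_cancel_right]
    rw [← hk, ← smul_fixedBy]
    exact pow_mem (mul_mem h1 hm) k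

variable [IsSimpleGroup G] [IsPretransitive G Ω] [Nontrivial Ω]

theorem se {s : G} (hs : orderOf s = 2) {x : Ω} (hx : s • x = x) :
    IsStronglyEmbedded (stabilizer G (fixedBy Ω s)) := by
  refine H6.stronglyEmbedded_iff.2 ⟨fun e => ?_, ⟨s, ?_, hs⟩, fun g t ht h1 h2 => ?_⟩
  · have h1 : s ∈ (toPermHom G Ω).ker := Equiv.ext fun y => by
      obtain ⟨g, rfl⟩ := exists_smul_eq G x y
      have h2 : g • fixedBy Ω s = fixedBy Ω s := e.ge (mem_top g)
      exact h2.le (Set.smul_mem_smul_set (show x ∈ fixedBy Ω s from hx))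
    rcases IsSimpleGroup.eq_bot_or_eq_top_of_normal (toPermHom G Ω).ker inferInstance with e | e
    · exact H6.ord2_ne_one hs (e.le h1)
    · obtain ⟨y, hy⟩ := exists_ne x
      obtain ⟨g, rfl⟩ := exists_smul_eq G x y
      exact hy (Equiv.congr_fun (e.ge (mem_top g)) x)
  · rw [mem_stabilizer_iff, smul_fixedBy, mul_inv_cancel_right]
  · have h3 := fix_eq_of_mem h hone hs (H6.ord2_conj ht g) h2
    rwa [← smul_fixedBy, fix_eq_of_mem h hone hs ht h1] at h3

theorem not_comm {s : G} (hs : orderOf s = 2) {x : Ω} (hx : s • x = x) : ¬ IsMulCommutative G := fun hc => by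
  have h1 := se h hone hs hx
  obtain ⟨t, h2, h3⟩ := H6.se_exists_ord2 h1
  exact h1.1 (eq_top_iff.2 fun g _ => H6.se_mem_of_commute h1 h3 h2 (hc.1.1 g t))

theorem tri {s : G} (hs : orderOf s = 2) {x : Ω} (hx : s • x = x) : H17.Be.Tri G :=
  (H17.Be.bender_simple (se h hone hs hx) (not_comm h hone hs hx)).1

theorem comm_trans {s : G} (hs : orderOf s = 2) {x : Ω} (hx : s • x = x) {t u : G} (ht : orderOf t = 2)
    (hu : orderOf u = 2) (h1 : Commute s t) (h2 : Commute s u) : Commute t u := by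
  have h3 := se h hone hs hx
  obtain ⟨w, Q, hR, -⟩ := H15.Bd.se_simple h3 (not_comm h hone hs hx)
  have hZ := H17.sz_of_simple hR
  have h4 : s ∈ stabilizer G (fixedBy Ω s) := by rw [mem_stabilizer_iff, smul_fixedBy, mul_inv_cancel_right]
  have key : ∀ v, orderOf v = 2 → Commute s v → v ∈ H17.Q0 Q := fun v hv hc => (hZ.inv_iff.1 ⟨by
    rw [stabilizer_quotient]
    exact H6.se_mem_of_commute h3 hs h4 hc.symm, H6.ord2_ne_one hv, H6.ord2_mul_self hv⟩).1
  exact hZ.comm0 (key t ht h1) (H17.Q0_le (key u hu h2))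
end

theorem bin_of_ti (h1 : ∀ (x y : Ω) (g : G), g ≠ 1 → g • x = x → g • y = y → ∀ k : G, k • x = x → k • y = y)
    (h2 : ∀ (x y z : Ω) (a b : G), a ≠ 1 → b ≠ 1 → a ≠ b → a • x = x → b • y = y → a • z = b • z →
      ∀ k : G, k • x = x → k • y = y) : Bin G Ω := by
  intro n I J hn h
  by_cases hc : ∀ i j, ∀ k : G, k • I i = I i → k • I j = I j
  · obtain ⟨g, hg, -⟩ := h ⟨0, by omega⟩ ⟨1, by omega⟩ (by simp)
    refine ⟨g, fun j => ?_⟩
    by_cases hj : ⟨0, by omega⟩ = j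
    · exact hj ▸ hg
    obtain ⟨k, h3, h4⟩ := h _ j hj
    rw [← h4, eq_comm, ← inv_smul_eq_iff, ← mul_smul]
    exact hc ⟨0, by omega⟩ j _ (by rw [mul_smul, h3, ← hg, inv_smul_smul])
  push Not at hc
  obtain ⟨i, j, hc⟩ := hc
  replace hc : ¬ ∀ k : G, k • I i = I i → k • I j = I j := by simpa using hc
  obtain ⟨g, hi, hj⟩ := h i j fun e => hc fun k hk => e ▸ hk
  refine ⟨g, fun l => ?_⟩
  by_cases e1 : i = l
  · exact e1 ▸ hi
  by_cases e2 : j = l
  · exact e2 ▸ hj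
  obtain ⟨a, a1, a2⟩ := h i l e1
  obtain ⟨b, b1, b2⟩ := h j l e2
  by_cases e3 : g⁻¹ * a = 1
  · rwa [inv_mul_eq_one.1 e3]
  by_cases e4 : g⁻¹ * b = 1
  · rwa [inv_mul_eq_one.1 e4]
  have a3 : (g⁻¹ * a) • I i = I i := by rw [mul_smul, a1, ← hi, inv_smul_smul]
  have b3 : (g⁻¹ * b) • I j = I j := by rw [mul_smul, b1, ← hj, inv_smul_smul]
  by_cases e5 : g⁻¹ * a = g⁻¹ * b
  · exact absurd (h1 _ _ _ e3 a3 (e5 ▸ b3)) hc
  · exact absurd (h2 _ _ (I l) _ _ e3 e4 e5 a3 b3 (by rw [mul_smul, mul_smul, a2, b2])) hc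

theorem smul_mk_iff {H : Subgroup G} {k g : G} : k • (g : G ⧸ H) = g ↔ g⁻¹ * k * g ∈ H := by
  rw [Quotient.smul_coe, smul_eq_mul, eq_comm, QuotientGroup.eq, mul_assoc]

theorem smul_one_iff {H : Subgroup G} {k : G} : k • ((1 : G) : G ⧸ H) = (1 : G) ↔ k ∈ H := by
  rw [smul_mk_iff, inv_one, one_mul, mul_one]

theorem bin_bot : Bin G (G ⧸ (⊥ : Subgroup G)) := by
  have key : ∀ (x : G ⧸ (⊥ : Subgroup G)) (g : G), g • x = x → g = 1 := fun x g hg => by
    obtain ⟨k, rfl⟩ := QuotientGroup.mk_surjective x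
    simpa [mul_assoc, inv_mul_eq_one] using smul_mk_iff.1 hg
  exact bin_of_ti (fun x _ g h1 h2 => absurd (key x g h2) h1) fun x _ _ a _ h1 _ _ h2 => absurd (key x a h2) h1

theorem nontrivial_quot {H : Subgroup G} (h : H ≠ ⊤) : Nontrivial (G ⧸ H) := by
  obtain ⟨g, hg⟩ : ∃ g, g ∉ H := by
    by_contra! h1
    exact h (eq_top_iff.2 fun g _ => h1 g)
  exact ⟨⟨g, (1 : G), fun e => hg (by simpa using QuotientGroup.eq.1 e)⟩⟩

/-- the centre of a Sylow subgroup -/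
abbrev ZP (P : Sylow 2 G) : Subgroup G := (center (P : Subgroup G)).map (P : Subgroup G).subtype

theorem mem_ZP {P : Sylow 2 G} {x : G} : x ∈ ZP P ↔ x ∈ P ∧ ∀ y ∈ P, y * x = x * y := by
  constructor
  · rintro ⟨x, hx, rfl⟩
    exact ⟨x.2, fun y hy => congrArg Subtype.val (mem_center_iff.1 hx ⟨y, hy⟩)⟩
  · exact fun h => ⟨⟨x, h.1⟩, mem_center_iff.2 fun y => Subtype.ext (h.2 y y.2), rfl⟩

theorem mem_ZP_smul {P : Sylow 2 G} {g x : G} : x ∈ ZP (g • P) ↔ g⁻¹ * x * g ∈ ZP P := by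
  rw [mem_ZP, mem_ZP, H6.mem_sylow_smul]
  refine and_congr_right fun _ => ⟨fun h y hy => ?_, fun h y hy => ?_⟩
  · have := h (g * y * g⁻¹) ((H6.mem_sylow_smul P g _).2 (by simpa [mul_assoc] using hy))
    calc y * (g⁻¹ * x * g) = g⁻¹ * (g * y * g⁻¹ * x) * g := by group
      _ = _ := by rw [this]; group
  · have := h _ ((H6.mem_sylow_smul P g y).1 hy)
    calc y * x = g * (g⁻¹ * y * g * (g⁻¹ * x * g)) * g⁻¹ := by group
      _ = _ := by rw [this]; group

/-- the involutions of a Sylow subgroup, with the identity, form its centre -/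
def Om (G : Type*) [Group G] : Prop := ∀ (P : Sylow 2 G), ∀ x ∈ P, x * x = 1 ↔ x ∈ ZP P

theorem om_of [Finite G] (P : Sylow 2 G) (h : ∀ x ∈ P, x * x = 1 ↔ x ∈ ZP P) : Om G := fun P' x hx => by
  obtain ⟨g, rfl⟩ := exists_smul_eq G P P'
  rw [mem_ZP_smul, ← h _ ((H6.mem_sylow_smul P g x).1 hx)]
  constructor <;> intro e
  · calc _ = g⁻¹ * (x * x) * g := by group
      _ = 1 := by rw [e]; group
  · calc _ = g * (g⁻¹ * x * g * (g⁻¹ * x * g)) * g⁻¹ := by group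
      _ = 1 := by rw [e]; group

theorem ZP_eq_of_le [Finite G] {P P' : Sylow 2 G} (h : ZP P ≤ ZP P') : ZP P = ZP P' := by
  obtain ⟨g, rfl⟩ := exists_smul_eq G P P'
  refine eq_of_le_of_card_ge h (le_of_eq ?_)
  rw [← H6.card_map_conj (ZP P) g]
  congr 2
  ext x
  rw [mem_ZP_smul, H6.mem_map_conj]

theorem bin_ZP [Finite G] (hO : Om G) (hC : ∀ s t u : G, orderOf s = 2 → orderOf t = 2 → orderOf u = 2 →
    Commute s t → Commute s u → Commute t u) (P : Sylow 2 G) : Bin G (G ⧸ ZP P) := by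
  have sq : ∀ (P : Sylow 2 G), ∀ x ∈ ZP P, x * x = 1 := fun P x hx => (hO P x (mem_ZP.1 hx).1).2 hx
  have key : ∀ (P : Sylow 2 G), ∀ s ∈ ZP P, s ≠ 1 → ∀ t, t * t = 1 → Commute s t → t ∈ ZP P := by
    intro P s hs s1 t ht hc
    by_cases t1 : t = 1
    · exact t1 ▸ one_mem _
    have h1 : ZP P ≤ normalizer (zpowers t : Set G) := fun u hu => by
      refine centralizer_le_normalizer _ fun _ ⟨k, hk⟩ => hk ▸ (Commute.zpow_left ?_ k).eq
      by_cases u1 : u = 1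
      · exact u1 ▸ Commute.one_right t
      exact hC s t u (H6.ord2_of (sq P s hs) s1) (H6.ord2_of ht t1) (H6.ord2_of (sq P u hu) u1) hc
        ((mem_ZP.1 hu).2 s (mem_ZP.1 hs).1)
    obtain ⟨P', hP'⟩ := ((H6.isPGroup_of_forall fun x hx => ⟨1, by rw [pow_one, pow_two, sq P x hx]⟩).to_sup_of_normal_right'
      (H6.isPGroup_zpowers_ord2 ht) h1).exists_le_sylow
    rw [ZP_eq_of_le (P' := P') fun x hx => (hO P' x (hP' (mem_sup_left hx))).1 (sq P x hx)]
    exact (hO P' t (hP' (mem_sup_right (mem_zpowers t)))).1 ht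
  have st : ∀ x : G ⧸ ZP P, ∃ P' : Sylow 2 G, ∀ k : G, k • x = x ↔ k ∈ ZP P' := fun x => by
    obtain ⟨g, rfl⟩ := QuotientGroup.mk_surjective x
    exact ⟨g • P, fun k => by rw [smul_mk_iff, mem_ZP_smul]⟩
  have h1 : ∀ (x y : G ⧸ ZP P) (g : G), g ≠ 1 → g • x = x → g • y = y → ∀ k : G, k • x = x → k • y = y := by
    intro x y g g1 hx hy k hk
    obtain ⟨P1, h1⟩ := st x
    obtain ⟨P2, h2⟩ := st y
    rw [h1] at hx hk
    exact (h2 k).2 (key P2 g ((h2 g).1 hy) g1 k (sq P1 k hk) ((mem_ZP.1 hk).2 g (mem_ZP.1 hx).1))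
  refine bin_of_ti h1 fun x y z a b a1 b1 _ hx hy hz => h1 x y a a1 hx ?_
  obtain ⟨P1, h1⟩ := st x
  obtain ⟨P2, h2⟩ := st y
  obtain ⟨P3, h3⟩ := st z
  have a2 := sq P1 a ((h1 a).1 hx)
  have b2 := sq P2 b ((h2 b).1 hy)
  refine (h2 a).2 (key P2 b ((h2 b).1 hy) b1 a a2 (H6.commute_of_mul_sq b2 a2 (sq P3 _ ((h3 _).1 ?_))))
  rw [mul_smul, hz, ← mul_smul, b2, one_smul]

theorem eq_ZP [Finite G] (hO : Om G) {H : Subgroup G} (h : ML G (G ⧸ H))
    (hone : ∀ s t : G, orderOf s = 2 → orderOf t = 2 → IsConj s t) (he : Even (Nat.card H))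
    (h2 : ∀ x ∈ H, x * x = 1) : ∃ P : Sylow 2 G, H = ZP P := by
  obtain ⟨P, hP⟩ := (H6.isPGroup_of_forall (p := 2) (H := H) fun x hx => ⟨1, by rw [pow_one, pow_two, h2 x hx]⟩).exists_le_sylow
  obtain ⟨s, hs, hs2⟩ := H6.exists_ord2_mem_of_even he
  refine ⟨P, le_antisymm (fun x hx => (hO P x (hP hx)).1 (h2 x hx)) fun x hx => smul_one_iff.1 ?_⟩
  exact fix_of_comm h hone hs2 ((hO P x (mem_ZP.1 hx).1).2 hx) ((mem_ZP.1 hx).2 s (hP hs)) (smul_one_iff.2 hs)

end H8.Bin
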