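import Cfsg.Agent.H8.Bin7
import Cfsg.Agent.H5.GV

/-! Binary actions of `PSU₃(q)`, `q` even. -/

set_option autoImplicit false
set_option linter.unusedSectionVars false

namespace H8.Bin

open Subgroup MulAction _root_.Cfsg Matrix
open scoped MatrixGroups

attribute [-simp] H23.conj_apply
attribute [local simp] H23.conj_conj

variable {E : Type*} [Field E] [Fintype E] [CharP E 2] {q : ℕ} {hE : Fintype.card E = q ^ 2}

set_option quotPrecheck false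
local notation "σ" => H23.conj hE
local notation "𝐞" => (![1, 0, 0] : Fin 3 → E)
local notation "𝐱" => (![0, 1, 0] : Fin 3 → E)
local notation "𝐟" => (![0, 0, 1] : Fin 3 → E)

theorem ex_a0 : ∃ a₀ : E, σ a₀ = a₀ + 1 := by
  have t0 : (2 : E) = 0 := CharTwo.two_eq_zero
  obtain ⟨c, hc⟩ := exists_uu (hE := hE) 1
  exact ⟨c, by simp at hc; linear_combination hc - c * t0⟩

theorem ex_kappa (hq : 3 ≤ q) : ∃ κ : E, κ * σ κ = 1 ∧ κ ^ 3 ≠ 1 := by
  by_contra! h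
  have h1 : (powMonoidHom (q + 1) : Eˣ →* Eˣ).ker ≤ rootsOfUnity 3 E := fun x hx => Units.ext (h x (by
    rw [H23.conj_apply, ← pow_succ']; exact congrArg Units.val hx))
  have := (card_le_of_le h1).trans (card_rootsOfUnity E 3)
  rw [H23.card_ker_pow_succ hE] at this
  omega

theorem ex_psi : ∃ (ψ : SUh hE ≃* SU 3 E q) (p : SL(3, E)), (∀ g, (ψ g).1 = p * g.1 * p⁻¹) ∧ p • 𝐱 = 𝐟 := by
  have t0 : (2 : E) = 0 := CharTwo.two_eq_zero
  obtain ⟨a₀, ha₀⟩ := ex_a0 (hE := hE)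
  let p : SL(3, E) := ⟨!![1, 0, a₀; 1, 0, a₀ + 1; 0, 1, 0], by simp [det_fin_three]; grind⟩
  have key : ∀ u v : Fin 3 → E, hermForm 3 E q (p • u) (p • v) = Jf hE u v := fun u v => by
    obtain ⟨a, b, c, rfl⟩ := vec_eta u
    obtain ⟨x, y, z, rfl⟩ := vec_eta v
    rw [H17.herm3 (hE := hE)]
    change (p.1 *ᵥ _) 0 * σ ((p.1 *ᵥ _) 0) + (p.1 *ᵥ _) 1 * σ ((p.1 *ᵥ _) 1) + (p.1 *ᵥ _) 2 * σ ((p.1 *ᵥ _) 2) = _
    simp [p, Jf, mulVec, dotProduct, Fin.sum_univ_three, ha₀]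
    grind
  refine ⟨⟨⟨fun g => ⟨p * g.1 * p⁻¹, fun u v => ?_⟩, fun g => ⟨p⁻¹ * g.1 * p, fun u v => ?_⟩, fun g => ?_, fun g => ?_⟩,
    fun g h => ?_⟩, p, fun g => rfl, ?_⟩
  · change hermForm 3 E q ((p * g.1 * p⁻¹) • u) ((p * g.1 * p⁻¹) • v) = _
    rw [mul_smul, mul_smul, mul_smul, mul_smul, key, ← smul_inv_smul p u, ← smul_inv_smul p v, key, inv_smul_smul,
      inv_smul_smul]
    exact Jf_smul g _ _
  · change Jf hE ((p⁻¹ * g.1 * p) • u) ((p⁻¹ * g.1 * p) • v) = _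
    rw [← key, ← key, mul_smul, mul_smul, mul_smul, mul_smul, smul_inv_smul, smul_inv_smul]
    exact g.2 _ _
  · exact Subtype.ext (by simp [mul_assoc])
  · exact Subtype.ext (by simp [mul_assoc])
  · exact Subtype.ext (by simp [mul_assoc])
  · change p.1 *ᵥ _ = _
    ext i
    fin_cases i <;> simp [p, mulVec, dotProduct, Fin.sum_univ_three]

theorem u_main {Ω : Type*} [MulAction (SUh hE) Ω] {α : Ω} (h : ML (SUh hE) Ω)
    (hS : ∀ g : SUh hE, (∃ l : E, ∀ v : Fin 3 → E, g • v = l • v) → ∀ x : Ω, g • x = x) (hq : Even q) (h3 : 3 ≤ q)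
    (hZ : FZ hE α) {k : SUh hE} (hk : ¬ FZ hE (k • α)) {g : SUh hE} (hg : g • α = α) :
    ∃ l : E, ∀ v : Fin 3 → E, (g * g) • v = l • v := by
  have t0 : (2 : E) = 0 := CharTwo.two_eq_zero
  obtain ⟨a₀, ha₀⟩ := ex_a0 (hE := hE)
  obtain ⟨κ, k1, k2⟩ := ex_kappa (hE := hE) h3
  by_cases hB : FB hE α
  · obtain ⟨a, c, h1, l, rfl, h2⟩ := u_unip h hS ha₀ hq hB hZ hg
    rw [mul_smul, hS _ ⟨_, h2⟩] at hg
    obtain rfl := u_four h hS ha₀ hq k1 k2 hB hZ hg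
    refine ⟨l * l, fun v => ?_⟩
    obtain ⟨x, y, z, rfl⟩ := vec_eta v
    simp [mul_smul, h2, uu_smul]
    grind
  exfalso
  obtain ⟨g, hg, h1⟩ : ∃ g : SUh hE, g • α = α ∧ g.1.1 2 0 ≠ 0 := by
    by_contra! h1
    exact hB fun g hg => ⟨_, par_e (h1 g hg)⟩
  obtain ⟨a, c, h2, e⟩ := iso_trans (iso_e g) h1
  have h4 := hZ.smul (inv_e (uu_e a c h2))
  have h5 : FZ hE (tt hE • (uu a c h2)⁻¹ • α) := by
    have := hZ.smul (k := (uu a c h2 * tt hE)⁻¹ * g) (l := g.1.1 2 0) (by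
      rw [mul_smul, inv_smul_eq_iff, smul_comm (uu a c h2 * tt hE), ← e]; simp [smul_vec])
    rwa [mul_smul, hg, _root_.mul_inv_rev, tt_inv, mul_smul] at this
  have h6 : ¬ FZ hE ((k * uu a c h2) • (uu a c h2)⁻¹ • α) := by rwa [mul_smul, smul_inv_smul]
  obtain ⟨ψ, p, e1, e2⟩ := ex_psi (hE := hE)
  letI : MulAction (SU 3 E q) Ω := MulAction.compHom Ω ψ.symm.toMonoidHom
  have e3 : ∀ (g : SU 3 E q) (l : E), g • 𝐟 = l • 𝐟 ↔ ψ.symm g • 𝐱 = l • 𝐱 := fun g l => by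
    obtain ⟨g, rfl⟩ := ψ.surjective g
    rw [ψ.symm_apply_apply]
    change (ψ g).1 • 𝐟 = _ ↔ g.1 • 𝐱 = _
    rw [e1, ← e2, mul_smul, inv_smul_smul, mul_smul, ← smul_comm p l, smul_left_cancel_iff]
  have k0 := left_ne_zero_of_mul_eq_one k1
  have k3 : σ κ = κ⁻¹ := eq_inv_of_mul_eq_one_right k1
  refine u_case2 (α := (uu a c h2)⁻¹ • α) (h.comp (φ := ψ.symm.toMonoidHom) ψ.symm.surjective fun _ _ => rfl) k1
    (by rintro rfl; simp at k2) (r := κ + σ κ) (by simp [add_comm]) (fun e => k2 ?_) (fun e => k2 ?_)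
    (fun g hg => x_fix h4 h5 (by simpa using (e3 g 1).1 (by simpa using hg))) fun g hg => ?_
  · have : κ = 1 := sub_eq_zero.1 (pow_eq_zero_iff two_ne_zero |>.1 (by grind))
    rw [this, one_pow]
  · grind
  · obtain ⟨l, hl⟩ := x_par ha₀ h4 h5 h6 hg
    exact ⟨l, (e3 g l).2 hl⟩

theorem comm_e {g : SUh hE} {l : E} (h : g • zz 1 (map_one σ) • 𝐞 = l • zz 1 (map_one σ) • g • 𝐞) :
    g • 𝐞 = g.1.1 0 0 • 𝐞 := by
  refine par_e (by_contra fun e => ?_)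
  simp [smul_vec, val_zz, e] at h
  grind

theorem sq_zz {g : SUh hE} {l m : E} (h : g • 𝐞 = l • 𝐞) (h2 : ∀ v : Fin 3 → E, (g * g) • v = m • v) :
    ∃ b hb, ∃ l : E, ∀ v : Fin 3 → E, ((zz (hE := hE) b hb)⁻¹ * g) • v = l • v := by
  have t0 : (2 : E) = 0 := CharTwo.two_eq_zero
  obtain ⟨l, -, a, c, h1, rfl⟩ := borel h
  have h3 := h2 𝐞
  have h4 := h2 𝐱
  have h5 := h2 𝐟
  simp [mul_smul, uu_smul, dd_smul] at h3 h4 h5
  have h6 : σ l / l = l := sub_eq_zero.1 (pow_eq_zero_iff two_ne_zero |>.1 (by grind))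
  have h7 : (σ l)⁻¹ = l := sub_eq_zero.1 (pow_eq_zero_iff two_ne_zero |>.1 (by grind))
  have h8 : a * σ a = 0 := mul_left_cancel₀ (mul_ne_zero l.ne_zero l.ne_zero) (by rw [h6, h7] at h5; grind)
  obtain rfl : a = 0 := by simpa using h8
  refine ⟨c, by simp at h1; grind, l, fun v => ?_⟩
  obtain ⟨x, y, z, rfl⟩ := vec_eta v
  rw [mul_smul, inv_smul_eq_iff, mul_smul, smul_comm _ (l : E), dd_smul, h6, h7]
  simp [zz, uu_smul]
  ring

theorem center_iff {g : SUh hE} : g ∈ center (SUh hE) ↔ ∃ l : E, ∀ v : Fin 3 → E, g • v = l • v := by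
  rw [mem_center_iff]
  refine ⟨fun h => ?_, fun ⟨l, h⟩ k => Subtype.ext (Subtype.ext (Matrix.mulVec_injective (funext fun v => ?_)))⟩
  · obtain ⟨a₀, ha₀⟩ := ex_a0 (hE := hE)
    have t0 : (2 : E) = 0 := CharTwo.two_eq_zero
    have hu : a₀ + σ a₀ = 1 * σ 1 := by simp [ha₀]; grind
    have h1 := comm_e (g := g) (l := 1) (by rw [one_smul, ← mul_smul, ← mul_smul, h])
    have h2 : ∀ k : SUh hE, g • k • 𝐞 = g.1.1 0 0 • k • 𝐞 := fun k => by
      rw [← mul_smul, ← h, mul_smul, h1, smul_comm]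
    exact three_pts (a := 1) (c := a₀) h1 (by simpa [tt_smul] using h2 (tt hE))
      (by simpa [mul_smul, tt_smul, uu_smul] using h2 (uu 1 a₀ hu * tt hE)) one_ne_zero (by rintro rfl; simp at ha₀)
  · change (k * g) • v = (g * k) • v
    rw [mul_smul, mul_smul, h, h, smul_comm]

section
variable {G : Type*} [Group G] [Finite G] {φ : SUh hE →* G} (hφ : Function.Surjective φ)
  (hk : ∀ g, φ g = 1 ↔ ∃ l : E, ∀ v : Fin 3 → E, g • v = l • v)
  (hone : ∀ s t : G, orderOf s = 2 → orderOf t = 2 → IsConj s t)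

theorem zz_zz (b : E) (hb : σ b = b) : zz b hb * zz b hb = 1 := ext3 fun i j => by
  fin_cases i <;> fin_cases j <;> simp [mul_ent, one_ent, val_zz, CharTwo.add_self_eq_zero]

include hk in
theorem ord_zz : orderOf (φ (zz 1 (map_one σ))) = 2 := by
  refine H6.ord2_of (by rw [← map_mul, zz_zz, map_one]) fun e => ?_
  obtain ⟨l, hl⟩ := (hk _).1 e
  simpa [zz, uu_smul] using hl 𝐟

include hφ hk hone

theorem u_ct (s t u : G) (hs : orderOf s = 2) (ht : orderOf t = 2) (hu : orderOf u = 2) (h1 : Commute s t)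
    (h2 : Commute s u) : Commute t u := by
  obtain ⟨c, hc⟩ := isConj_iff.1 (hone _ _ hs (ord_zz hk))
  have key : ∀ t, orderOf t = 2 → Commute s t → ∃ b hb, c * t * c⁻¹ = φ (zz b hb) := fun t ht h1 => by
    obtain ⟨g, hg⟩ := hφ (c * t * c⁻¹)
    obtain ⟨l, hl⟩ := (hk ((zz 1 (map_one σ) * g)⁻¹ * (g * zz 1 (map_one σ)))).1 (by
      rw [map_mul, map_inv, inv_mul_eq_one, map_mul, map_mul, hg, ← hc, conj_mul, conj_mul, h1.eq])
    obtain ⟨m, hm⟩ := (hk (g * g)).1 (by rw [map_mul, hg, conj_mul, H6.ord2_mul_self ht, mul_one, mul_inv_cancel])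
    obtain ⟨b, hb, e⟩ := sq_zz (comm_e (l := l) (by
      rw [← mul_smul, ← mul_smul, ← smul_comm, ← hl, mul_smul _⁻¹, smul_inv_smul])) hm
    exact ⟨b, hb, by rw [← hg, eq_comm, ← inv_mul_eq_one, ← map_inv, ← map_mul, hk]; exact e⟩
  obtain ⟨b, hb, e1⟩ := key t ht h1
  obtain ⟨b', hb', e2⟩ := key u hu h2
  have : Commute (c * t * c⁻¹) (c * u * c⁻¹) := by
    rw [e1, e2]
    exact Commute.map (zz_comm b hb 0 b' _) φ
  exact (Commute.conj_iff c).1 this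

theorem u_sq [IsSimpleGroup G] (hq : Even q) (h3 : 3 ≤ q) {H : Subgroup G} (hH : H ≠ ⊤) (h : ML G (G ⧸ H))
    (he : Even (Nat.card H)) : ∀ x ∈ H, x * x = 1 := by
  intro x hx
  obtain ⟨s, hs, hs2⟩ := H6.exists_ord2_mem_of_even he
  obtain ⟨c, hc⟩ := isConj_iff.1 (hone _ _ hs2 (ord_zz hk))
  letI : MulAction (SUh hE) (G ⧸ H) := MulAction.compHom _ φ
  have e : ∀ (g : SUh hE) (y : G ⧸ H), g • y = φ g • y := fun _ _ => rfl
  have hZ : FZ hE (c : G ⧸ H) := fun b hb => fix_of_comm h hone (ord_zz hk) (t := φ (zz b hb))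
    (by rw [← map_mul, zz_zz, map_one]) (Commute.map (zz_comm _ _ 0 b _) φ) (smul_mk_iff.2 (by
      rw [← hc]; simpa [mul_assoc] using hs))
  obtain ⟨k, hk'⟩ : ∃ k : SUh hE, ¬ FZ hE (k • (c : G ⧸ H)) := by
    by_contra! h1
    rcases IsSimpleGroup.eq_bot_or_eq_top_of_normal H.normalCore inferInstance with e1 | e1
    · refine H6.ord2_ne_one (ord_zz hk) (e1.le fun g => ?_)
      obtain ⟨k, hk⟩ := hφ (g⁻¹ * c⁻¹)
      have := h1 k 1 (map_one _)
      rw [e, e, hk, Quotient.smul_coe, smul_eq_mul, inv_mul_cancel_right, smul_mk_iff, inv_inv] at this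
      exact this
    · exact hH (eq_top_iff.2 (e1.ge.trans H.normalCore_le))
  obtain ⟨g, hg⟩ := hφ (c * x * c⁻¹)
  have := (hk _).2 (u_main (h.comp hφ e) (fun g hg y => by rw [e, (hk g).2 hg, one_smul]) hq h3 hZ hk' (g := g) (by
    rw [e, hg, smul_mk_iff]; simpa [mul_assoc] using hx))
  rw [map_mul, hg, conj_mul] at this
  simpa using this
end

theorem u_om {G : Type*} [Group G] [Finite G] {F : Type*} [Field F] [Fintype F] {n : ℕ} (hn : 1 ≤ n)
    (hF : Fintype.card F = (2 ^ n) ^ 2) (e : G ≃* PSU 3 F (2 ^ n)) : Om G := by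
  have := Fact.mk Nat.prime_two
  have : Finite (PSU 3 F (2 ^ n)) := Finite.of_equiv _ e.toEquiv
  obtain ⟨P⟩ : Nonempty (Sylow 2 (PSU 3 F (2 ^ n))) := inferInstance
  obtain ⟨A, hA⟩ := H5.Gd.u3_sylow hn hF P
  have h := hA.map (f := e.symm.toMonoidHom.comp (P : Subgroup (PSU 3 F (2 ^ n))).subtype) 
    fun _ _ h => Subtype.ext (e.symm.injective h)
  rw [← Subgroup.map_map, ← MonoidHom.range_eq_map, range_subtype] at h
  refine om_of (P.mapSurjective (f := e.symm.toMonoidHom) e.symm.surjective) fun x hx => (h.inv x hx).trans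
    ⟨fun ha => mem_ZP.2 ⟨hx, fun y hy => (h.cen hy x ha).symm⟩, fun hz => by_contra fun ha => ?_⟩
  obtain ⟨⟨a, h1⟩, h2⟩ := (Subgroup.ne_bot_iff_exists_ne_one.1 (one_lt_card_iff_ne_bot _ |>.1
    (h.cardA ▸ Nat.one_lt_two_pow (by omega))))
  obtain ⟨y, hy, rfl⟩ := h.comm x hx ha a h1
  exact h2 (Subtype.ext (commutatorElement_eq_one_iff_mul_comm.2 ((mem_ZP.1 hz).2 y hy).symm))

theorem u_iff {G : Type*} [Group G] [Finite G] [IsSimpleGroup G] {F : Type*} [Field F] [Fintype F] {n : ℕ} (hn : 2 ≤ n)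
    (hF : Fintype.card F = (2 ^ n) ^ 2) (e : G ≃* PSU 3 F (2 ^ n))
    (hone : ∀ s t : G, orderOf s = 2 → orderOf t = 2 → IsConj s t) {H : Subgroup G} (hH : H ≠ ⊤)
    (he : Even (Nat.card H)) : Bin G (G ⧸ H) ↔ ∃ P : Sylow 2 G, H = ZP P := by
  have := Fact.mk Nat.prime_two
  have : CharP F 2 := charP_of_card_eq_prime_pow (hF.trans (pow_mul 2 n 2).symm)
  obtain ⟨ψ, -⟩ := ex_psi (hE := hF)
  let φ : SUh hF →* G := e.symm.toMonoidHom.comp ((QuotientGroup.mk' _).comp ψ.toMonoidHom)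
  have hφ : Function.Surjective φ := e.symm.surjective.comp ((QuotientGroup.mk'_surjective _).comp ψ.surjective)
  have hk : ∀ g, φ g = 1 ↔ ∃ l : F, ∀ v : Fin 3 → F, g • v = l • v := fun g => by
    rw [← center_iff]
    exact e.symm.map_eq_one_iff.trans ((QuotientGroup.eq_one_iff _).trans (MulEquivClass.apply_mem_center_iff ψ))
  have hO := u_om (by omega) hF e
  refine ⟨fun h => eq_ZP hO h.ml hone he (u_sq hφ hk hone ((Nat.even_pow' (by omega)).2 even_two) ?_ hH h.ml he), ?_⟩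
  · exact (Nat.pow_le_pow_right two_pos hn).trans' (by norm_num)
  · rintro ⟨P, rfl⟩
    exact bin_ZP hO (u_ct hφ hk hone) P

end H8.Bin
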