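import Cfsg.Agent.H8.Elt
import Cfsg.Agent.H8.Idx
import Cfsg.Agent.H8.Cls
import Cfsg.Agent.H6.Inv
import Cfsg.Agent.H3.Transfer
import Cfsg.Agent.S2791
import Cfsg.Agent.S1249

/-! Groups in which all `p`-elements are `p`-central (Camina–Herzog, Navarro–Tiep). -/

set_option linter.unusedSectionVars false

namespace H8

open Subgroup Cfsg
open scoped Pointwise commutatorElement

universe u

local notation "ix " x:max => Subgroup.index (Subgroup.centralizer ({x} : Set _))

/-- All `p`-elements have class size prime to `p`. -/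
def PCen (p : ℕ) (G : Type u) [Group G] : Prop :=
  ∀ x : G, (∃ k : ℕ, orderOf x = p ^ k) → ¬ p ∣ ix x

variable {G : Type u} [Group G] [Finite G] {p : ℕ} [hp : Fact p.Prime]

theorem PCen.quotient (h : PCen p G) (N : Subgroup G) [N.Normal] : PCen p (G ⧸ N) := by
  rintro y ⟨k, hk⟩ h1
  obtain ⟨x, rfl, hx⟩ := exists_lift_pElt _ (QuotientGroup.mk'_surjective N) hk
  exact h x hx (h1.trans (index_centralizer_mk_dvd N x))

theorem PCen.normal (h : PCen p G) (N : Subgroup G) [N.Normal] : PCen p N := by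
  rintro y ⟨k, hk⟩ h1
  exact h y ⟨k, by rw [orderOf_coe, hk]⟩ (h1.trans (index_centralizer_coe_dvd N y))

theorem PCen.exists_conj (h : PCen p G) (T : Sylow p G) {x : G} (hx : ∃ k, orderOf x = p ^ k) :
    ∃ g : G, g * x * g⁻¹ ∈ (T : Subgroup G) ∧ (T : Subgroup G) ≤ centralizer {g * x * g⁻¹} := by
  obtain ⟨Q, hQ⟩ := exists_sylow_le_centralizer (h x hx)
  obtain ⟨g, rfl⟩ := MulAction.exists_smul_eq G Q T
  have h1 : ((g • Q : Sylow p G) : Subgroup G) ≤ centralizer {g * x * g⁻¹} := fun y hy => by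
    have := mem_centralizer_singleton_iff.1 (hQ ((H6.mem_sylow_smul Q g y).1 hy))
    rw [mem_centralizer_singleton_iff]
    calc y * (g * x * g⁻¹) = g * (g⁻¹ * y * g * x) * g⁻¹ := by group
      _ = _ := by rw [this]; group
  obtain ⟨k, hk⟩ := hx
  refine ⟨g, mem_sylow_of_mem_normalizer _ (centralizer_le_normalizer _ fun y hy => ?_)
    (isPGroup_zpowers_of_orderOf (k := k) (by rw [H6.orderOf_conj', hk])), h1⟩
  exact mem_centralizer_singleton_iff.1 (h1 hy)

theorem PCen.comm_of_normal (h : PCen p G) (T : Sylow p G) (V : Subgroup G) [V.Normal]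
    (hV : V ≤ T) (hc : ∀ a ∈ (T : Subgroup G), ∀ b ∈ (T : Subgroup G), ⁅a, b⁆ ∈ V) :
    IsMulCommutative (T : Subgroup G) := by
  have hs := QuotientGroup.mk'_surjective V
  haveI : IsMulCommutative (T.mapSurjective hs : Subgroup (G ⧸ V)) := by
    rw [Sylow.coe_mapSurjective, H1.isMulCommutative_iff']
    rintro _ ⟨a, ha, rfl⟩ _ ⟨b, hb, rfl⟩
    rw [← commutatorElement_eq_one_iff_mul_comm, ← map_commutatorElement]
    exact (QuotientGroup.eq_one_iff _).2 (hc a ha b hb)
  have hVc : ∀ x ∈ (T : Subgroup G), V ≤ centralizer {x} := fun x hx =>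
    normal_le_centralizer_of_not_dvd (h x (exists_orderOf_eq_of_mem T.isPGroup' hx))
      (T.isPGroup'.to_le hV)
  have hk : ∀ x : G, (x : G ⧸ V) ∈ (T.mapSurjective hs : Subgroup (G ⧸ V)) ↔
      x ∈ (T : Subgroup G) := fun x => by
    rw [Sylow.coe_mapSurjective]
    rw [← QuotientGroup.mk'_apply, ← mem_comap, comap_map_eq, QuotientGroup.ker_mk', sup_eq_left.2 hV]
  rw [H1.isMulCommutative_iff']
  intro x hx y hy
  obtain ⟨g, hg1, hg2⟩ := h.exists_conj T (exists_orderOf_eq_of_mem T.isPGroup' hx)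
  obtain ⟨v, hv, e⟩ := H3.fusion_of_abelian (T.mapSurjective hs) x ((hk x).2 hx) g
    ((hk (g * x * g⁻¹)).2 hg1)
  obtain ⟨v, rfl⟩ := QuotientGroup.mk_surjective v
  have h1 : v * y * v⁻¹ ∈ (T : Subgroup G) :=
    (hk _).1 (H1.conj_mem_of_mem_normalizer hv ((hk y).2 hy))
  have h2 : (g * x * g⁻¹)⁻¹ * (v * x * v⁻¹) ∈ V := QuotientGroup.eq.1 e
  have e1 := mem_centralizer_singleton_iff.1 (hg2 h1)
  have e2 := mem_centralizer_singleton_iff.1 (hVc _ h1 h2)
  have e3 : v * x * v⁻¹ * (v * y * v⁻¹) = v * y * v⁻¹ * (v * x * v⁻¹) := by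
    calc _ = g * x * g⁻¹ * ((g * x * g⁻¹)⁻¹ * (v * x * v⁻¹) * (v * y * v⁻¹)) := by group
      _ = (g * x * g⁻¹ * (v * y * v⁻¹)) * ((g * x * g⁻¹)⁻¹ * (v * x * v⁻¹)) := by rw [e2]; group
      _ = _ := by rw [← e1]; group
  calc x * y = v⁻¹ * (v * x * v⁻¹ * (v * y * v⁻¹)) * v := by group
    _ = y * x := by rw [e3]; group

theorem le_normalizer_of_sc {A S : Subgroup G} (h : IsStronglyClosed A S) :
    S ≤ normalizer (A : Set G) := fun s hs =>
  mem_normalizer_fintype fun a ha => h.2 a ha s (mul_mem (mul_mem hs (h.1 ha)) (inv_mem hs))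

theorem PCen.normalizer (h : PCen p G) (S : Sylow p G) {A : Subgroup G} (hA : IsMulCommutative A)
    (hsc : IsStronglyClosed A (S : Subgroup G)) : PCen p (normalizer (A : Set G)) := by
  obtain ⟨T, hAT, hT⟩ := Cfsg.Agent.S2791.result S A hA hsc
  have hTN := le_normalizer_of_sc (Cfsg.Agent.S1249.result S T A hAT hsc)
  rintro y ⟨k, hk⟩
  obtain ⟨m, hm⟩ := H6.exists_conj_mem_sylow (T.subtype hTN) (x := y) (k := k)
    (by rw [← hk, pow_orderOf_eq_one])
  have hm' : ((m * y * m⁻¹ : Subgroup.normalizer (A : Set G)) : G) ∈ (T : Subgroup G) := hm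
  obtain ⟨g, hg1, hg2⟩ := h.exists_conj T (exists_orderOf_eq_of_mem T.isPGroup' hm')
  obtain ⟨n, hn, e⟩ := (hT {((m * y * m⁻¹ : Subgroup.normalizer (A : Set G)) : G)}
    (Set.singleton_subset_iff.2 hm')).2 g (by rintro _ ⟨_, rfl, rfl⟩; exact hg1)
  rw [← index_centralizer_conj y m, ← index_centralizer_conj _ ⟨n, hn⟩]
  refine not_dvd_index_of_sylow_le (T.subtype hTN) fun t ht => ?_
  rw [mem_centralizer_singleton_iff]
  have := mem_centralizer_singleton_iff.1 (hg2 ht)
  rw [e _ rfl] at this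
  exact Subtype.ext this

theorem PCen.comm_of_sc (h : PCen p G) (S : Sylow p G) {A : Subgroup G} (hA : IsMulCommutative A)
    (hsc : IsStronglyClosed A (S : Subgroup G))
    (hc : ∀ a ∈ (S : Subgroup G), ∀ b ∈ (S : Subgroup G), ⁅a, b⁆ ∈ A) :
    IsMulCommutative (S : Subgroup G) := by
  have hSN := le_normalizer_of_sc hsc
  haveI : (A.subgroupOf (Subgroup.normalizer (A : Set G))).Normal := normal_in_normalizer
  have := (h.normalizer S hA hsc).comm_of_normal (S.subtype hSN)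
    (A.subgroupOf (Subgroup.normalizer (A : Set G))) (fun x hx => hsc.1 hx)
    fun a ha b hb => hc a ha b hb
  rw [H1.isMulCommutative_iff'] at this ⊢
  intro a ha b hb
  exact congrArg Subtype.val (this ⟨a, hSN ha⟩ ha ⟨b, hSN hb⟩ hb)

theorem camina_herzog (n : ℕ) : ∀ (G : Type u) [Group G] [Finite G], Nat.card G = n → PCen 2 G →
    ∀ S : Sylow 2 G, IsMulCommutative (S : Subgroup G) := by
  induction n using Nat.strong_induction_on with
  | _ n ih =>
  intro G _ _ hn h S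
  have hc : ∀ a ∈ (S : Subgroup G), ∀ b ∈ (S : Subgroup G), a * a = 1 → b * b = 1 →
      a * b = b * a := fun a ha b hb h1 h2 => by
    have h3 := inv_eq_of_isConj_of_odd (isConj_iff.2 ⟨a, H6.inv_conj_mul h1 h2⟩)
      (h _ (exists_orderOf_eq_of_mem S.isPGroup' (mul_mem ha hb)))
    rw [← h3, mul_inv_rev, inv_eq_of_mul_eq_one_right h1, inv_eq_of_mul_eq_one_right h2]
  let V : Subgroup G :=
    { carrier := {x | x ∈ (S : Subgroup G) ∧ x * x = 1}
      one_mem' := ⟨one_mem _, mul_one 1⟩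
      mul_mem' := fun {a b} ha hb => ⟨mul_mem ha.1 hb.1, by
        calc a * b * (a * b) = a * (b * a) * b := by group
          _ = a * a * (b * b) := by rw [← hc a ha.1 b hb.1 ha.2 hb.2]; group
          _ = 1 := by rw [ha.2, hb.2, mul_one]⟩
      inv_mem' := fun {a} ha => ⟨inv_mem ha.1, by rw [← mul_inv_rev, ha.2, inv_one]⟩ }
  have hVc : IsMulCommutative V :=
    H1.isMulCommutative_iff'.2 fun a ha b hb => hc a ha.1 b hb.1 ha.2 hb.2
  have hsc : IsStronglyClosed V (S : Subgroup G) := ⟨fun a ha => ha.1, fun a ha g hg => ⟨hg, by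
    calc g * a * g⁻¹ * (g * a * g⁻¹) = g * (a * a) * g⁻¹ := by group
      _ = 1 := by rw [ha.2]; group⟩⟩
  by_cases hS : (S : Subgroup G) = ⊥
  · rw [hS]; infer_instance
  obtain ⟨t, htS, ht⟩ := H6.exists_ord2_mem_of_even (H := (S : Subgroup G)) (by
    obtain ⟨k, hk⟩ := S.2.exists_card_eq
    rcases k with _ | k
    · exact absurd (card_eq_one.mp hk) hS
    · rw [hk, pow_succ]; exact even_two.mul_left _)
  have hSN := le_normalizer_of_sc hsc
  haveI : (V.subgroupOf (Subgroup.normalizer (V : Set G))).Normal := normal_in_normalizer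
  have hV0 : V.subgroupOf (Subgroup.normalizer (V : Set G)) ≠ ⊥ := fun h1 => by
    have : (⟨t, hSN htS⟩ : Subgroup.normalizer (V : Set G)) ∈
      V.subgroupOf (Subgroup.normalizer (V : Set G)) := ⟨htS, H6.ord2_mul_self ht⟩
    rw [h1, mem_bot] at this
    exact H6.ord2_ne_one ht (congrArg Subtype.val this)
  have h1 := ih _ (hn ▸ (H1.card_quotient_lt hV0).trans_le (card_le_card_group _)) _ rfl
    ((h.normalizer S hVc hsc).quotient _)
    ((S.subtype hSN).mapSurjective (QuotientGroup.mk'_surjective _))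
  rw [Sylow.coe_mapSurjective, H1.isMulCommutative_iff'] at h1
  refine h.comm_of_sc S hVc hsc fun a ha b hb => ?_
  have h2 := h1 _ ⟨⟨a, hSN ha⟩, ha, rfl⟩ _ ⟨⟨b, hSN hb⟩, hb, rfl⟩
  rw [← commutatorElement_eq_one_iff_mul_comm, ← map_commutatorElement] at h2
  exact (QuotientGroup.eq_one_iff (N := V.subgroupOf (Subgroup.normalizer (V : Set G))) _).1 h2

end H8
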