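import Cfsg.Agent.S2034
import Cfsg.Agent.S2060
import Cfsg.Agent.S4429
import Cfsg.Agent.S0228
import Cfsg.Agent.H25.M11c
import Cfsg.Agent.H29.Mathieu
import Cfsg.Agent.H4.SL2Deg
import Cfsg.Agent.H17.Square
import Cfsg.Agent.H17.Deg
import Cfsg.Agent.H17.Central
import Cfsg.Agent.H8.Schur2

set_option autoImplicit false
open H17 Cfsg Subgroup

namespace H8DD

theorem prod_of_complete {G : Type*} [Group G] (K : Subgroup G) [K.Normal] (hz : center K = ⊥)
    (hi : ∀ φ : MulAut K, ∃ k : K, MulAut.conj k = φ) :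
    Nonempty (centralizer (K : Set G) × K ≃* G) := by
  have comm : ∀ (c : centralizer (K : Set G)) (k : K),
      Commute ((centralizer (K : Set G)).subtype c) (K.subtype k) :=
    fun c k => ((mem_centralizer_iff.1 c.2) k k.2).symm
  refine ⟨MulEquiv.ofBijective
    ((centralizer (K : Set G)).subtype.noncommCoprod K.subtype comm) ⟨?_, ?_⟩⟩
  · rw [injective_iff_map_eq_one]
    rintro ⟨c, k⟩ h
    have h' : (c : G) * k = 1 := h
    have hc : (c : G) = (k : G)⁻¹ := eq_inv_of_mul_eq_one_left h'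
    have hk : k⁻¹ ∈ center K := mem_center_iff.2 fun x => Subtype.ext (by
      have := (mem_centralizer_iff.1 c.2) x x.2
      simpa [hc] using this)
    rw [hz, mem_bot, inv_eq_one] at hk
    subst hk
    ext <;> simp [hc]
  · intro g
    obtain ⟨k, hk⟩ := hi (MulAut.conjNormal g)
    refine ⟨(⟨g * (k : G)⁻¹, mem_centralizer_iff.2 fun x hx => ?_⟩, k), ?_⟩
    · have hx' : (k : G)⁻¹ * x * k ∈ K := K.mul_mem (K.mul_mem (K.inv_mem k.2) hx) k.2
      have := congrArg (fun φ : MulAut K => ((φ ⟨_, hx'⟩ : K) : G)) hk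
      simp only [MulAut.conj_apply, MulAut.conjNormal_apply, coe_mul, coe_inv] at this
      have e : x = g * ((k : G)⁻¹ * x * k) * g⁻¹ := by rw [← this]; group
      calc x * (g * (k : G)⁻¹) = g * ((k : G)⁻¹ * x * k) * g⁻¹ * (g * (k : G)⁻¹) := by rw [← e]
        _ = _ := by group
    · change g * (k : G)⁻¹ * k = g
      group

theorem prodA4 {G : Type*} [Group G] [Finite G] (hG : Nat.card G = 95040) (K : Subgroup G)
    [K.Normal] (hp : _root_.commutator K = ⊤) [IsSimpleGroup (K ⧸ center K)]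
    (h : Nat.card (K ⧸ center K) = 7920) (hd : ∃ d ∈ Cfsg.charDegrees G, 33 ∣ d) :
    Nonempty (G ≃* alternatingGroup (Fin 4) × ↥Cfsg.Spor.M11) := by
  have := H27.simple_H11
  have := H27.m11Equiv.symm.isSimpleGroup
  have : Finite Spor.M11 := Nat.finite_of_card_ne_zero (by rw [H29.card_M11]; norm_num)
  obtain ⟨e⟩ : Nonempty ((K ⧸ center K) ≃* Spor.M11) := H25.m11_unique h H29.card_M11
  let τ : K →* Spor.M11 := e.toMonoidHom.comp (QuotientGroup.mk' _)
  have hker : τ.ker = center K := by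
    ext x
    simp [τ, MonoidHom.mem_ker, QuotientGroup.eq_one_iff]
  have hs : Function.Surjective τ := e.surjective.comp (QuotientGroup.mk'_surjective _)
  have hb : τ.ker = ⊥ := H8.ker_eq_bot_of_hasSchur_one Cfsg.Agent.S2034.result
    ⟨hs, hker.le, by rw [hp]; exact le_top⟩
  let eK : K ≃* Spor.M11 := MulEquiv.ofBijective τ ⟨(MonoidHom.ker_eq_bot_iff _).1 hb, hs⟩
  have hI : Inn Spor.M11 = ⊤ := index_eq_one.1 Cfsg.Agent.S2060.result
  obtain ⟨f⟩ := prod_of_complete K (hker ▸ hb) fun φ => by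
    obtain ⟨m, hm⟩ : (eK.symm.trans (φ.trans eK) : MulAut Spor.M11) ∈ Inn Spor.M11 := by
      rw [hI]; trivial
    refine ⟨eK.symm m, MulEquiv.ext fun x => eK.injective ?_⟩
    have := congrArg (fun ψ : MulAut Spor.M11 => ψ (eK x)) hm
    simpa using this
  set C := centralizer (K : Set G)
  have f' : C × Spor.M11 ≃* G := (MulEquiv.prodCongr (MulEquiv.refl C) eK.symm).trans f
  have hC : Nat.card C = 12 := by
    have := Nat.card_congr f'.toEquiv
    rw [Nat.card_prod, H29.card_M11, hG] at this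
    omega
  obtain ⟨d, hd, h33⟩ := hd
  rw [H4.deg_of_equiv f'] at hd
  obtain ⟨θ, rfl⟩ := hd
  obtain ⟨φ, ψ, hφ, hψ, hθ⟩ := θ.2.exists_prod
  have e1 := H4.irr_one_eq hφ
  have e2 := H4.irr_one_eq hψ
  have e3 : charDegree θ.1 = charDegree φ * charDegree ψ := H4.charDegree_of (by
    rw [hθ]; simp only [Prod.fst_one, Prod.snd_one, e1, e2]; push_cast; rfl)
  have hψd : ¬ 33 ∣ charDegree ψ ∧ (11 ∣ charDegree ψ → ¬ 3 ∣ charDegree ψ) := by
    have h1 := (Cfsg.Agent.S4429.result H29.card_M11).2 (charDegree ψ)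
    have : Finite (IrrCharacter Spor.M11) := Nat.finite_of_card_ne_zero (by
      rw [(Cfsg.Agent.S4429.result H29.card_M11).1]; norm_num)
    have h2 : Nat.card {χ : IrrCharacter Spor.M11 // charDegree χ.1 = charDegree ψ} ≠ 0 :=
      Nat.card_ne_zero.2 ⟨⟨⟨⟨ψ, hψ⟩, rfl⟩⟩, inferInstance⟩
    rw [h1] at h2
    split_ifs at h2 with a b c
    · omega
    · omega
    · omega
    · exact absurd rfl h2
  have hsq := hφ.sq_le_index_center e1
  have hdv := hφ.degree_dvd_index_of_comm e1 (center C) inferInstance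
  have hidx := (center C).card_mul_index
  obtain ⟨a⟩ := Cfsg.Agent.S0228.result hC fun z hz hzc => by
    have h2 : 2 ∣ Nat.card (center C) := by
      rw [← hz, ← Subgroup.orderOf_mk z hzc]; exact orderOf_dvd_natCard _
    have h3 : 0 < Nat.card (center C) := Nat.card_pos
    have h4 : (center C).index ≤ 6 := by
      have := Nat.le_of_dvd h3 h2
      rw [hC] at hidx
      nlinarith
    have h5 : (center C).index ≠ 0 := index_ne_zero_of_finite
    have h6 : charDegree φ ≤ 2 := by nlinarith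
    have h7 : charDegree φ ≠ 0 := fun h => h5 (by rw [h] at hdv; exact zero_dvd_iff.1 hdv)
    rw [e3] at h33
    have : charDegree φ = 1 ∨ charDegree φ = 2 := by omega
    rcases this with h | h <;> rw [h] at h33 <;> omega
  exact ⟨f'.symm.trans (MulEquiv.prodCongr a (MulEquiv.refl _))⟩

end H8DD
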