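import Cfsg.Prelude.Def_SporadicB
import Cfsg.Agent.H7.Carm
import Mathlib.GroupTheory.SpecificGroups.Alternating.Simple

set_option autoImplicit false
open Subgroup

namespace H8Dc

theorem core {C : Type*} [Group C] [Finite C] {z : C} (hz : orderOf z = 2) (cz : z ∈ center C)
    (y : Fin 11 → C) (h3 : ∀ i, i ≠ 0 → i ≠ 1 → y i ^ 3 = 1)
    (h2 : ∀ i j, i ≠ 0 → i ≠ 1 → j ≠ 0 → j ≠ 1 → i ≠ j → (y i * y j) ^ 2 = z)
    (hle : Nat.card C ≤ 39916800) :
    Cfsg.IsNonsplitDoubleCover C (alternatingGroup (Fin 11)) := by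
  have z1 : z ≠ 1 := fun e => by rw [e, orderOf_one] at hz; omega
  have zc : zpowers z ≤ center C := zpowers_le.2 cz
  haveI nZ : (zpowers z).Normal := ⟨fun n hn g => by
    rwa [mem_center_iff.1 (zc hn) g, mul_inv_cancel_right]⟩
  have cZ : Nat.card (zpowers z) = 2 := by rw [Nat.card_zpowers, hz]
  obtain ⟨ψ, hψ⟩ := H7.exists_hom_carm (G := C ⧸ zpowers z) (a := (0 : Fin 11)) (b := 1)
    (by decide) (fun i => (y i : C ⧸ zpowers z))
    (fun i a b => by rw [← QuotientGroup.mk_pow, h3 i a b, QuotientGroup.mk_one])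
    (fun i j a b c d e => by
      rw [← QuotientGroup.mk_mul, ← QuotientGroup.mk_pow, h2 i j a b c d e,
        QuotientGroup.eq_one_iff]
      exact mem_zpowers z)
  have hs := alternatingGroup.isSimpleGroup (α := Fin 11) (by simp)
  have h23 := h2 2 3 (by decide) (by decide) (by decide) (by decide) (by decide)
  have h32 := h3 2 (by decide) (by decide)
  have h33 := h3 3 (by decide) (by decide)
  have inj : Function.Injective ψ := by
    refine (MonoidHom.ker_eq_bot_iff ψ).1
      ((Subgroup.Normal.eq_bot_or_eq_top inferInstance).resolve_right fun h => ?_)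
    have h1 := hψ 2 (by decide) (by decide)
      ⟨_, Equiv.Perm.mem_alternatingGroup.2 (H7.sign_c3 (by decide) (by decide))⟩ rfl
    rw [MonoidHom.mem_ker.1 (h ▸ Subgroup.mem_top _), eq_comm, QuotientGroup.eq_one_iff] at h1
    have h4 : y 2 ^ 2 = 1 := by
      have := pow_card_eq_one' (x := (⟨y 2, h1⟩ : zpowers z))
      rw [cZ] at this
      exact congrArg Subtype.val this
    have h5 : y 2 = 1 := by rw [pow_succ, h4, one_mul] at h32; exact h32
    rw [h5, one_mul] at h23
    have h6 : z ^ 3 = 1 := by rw [← h23, ← pow_mul, mul_comm, pow_mul, h33, one_pow]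
    have := orderOf_dvd_of_pow_eq_one h6
    rw [hz] at this
    omega
  have cA : Nat.card (alternatingGroup (Fin 11)) = 19958400 := by
    have := two_mul_nat_card_alternatingGroup (α := Fin 11)
    rw [Nat.card_perm, Nat.card_fin, show Nat.factorial 11 = 39916800 from rfl] at this
    omega
  have cQ := (zpowers z).card_eq_card_quotient_mul_card_subgroup
  rw [cZ] at cQ
  have bij : Function.Bijective ψ :=
    inj.bijective_of_nat_card_le (by omega)
  let e := MulEquiv.ofBijective ψ bij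
  have ce : center C = zpowers z := by
    refine le_antisymm (fun c hc => ?_) zc
    have h1 : e.symm (c : C ⧸ zpowers z) ∈ center (alternatingGroup (Fin 11)) :=
      mem_center_iff.2 fun g => e.injective (by
        obtain ⟨x, hx⟩ := QuotientGroup.mk_surjective (e g)
        rw [map_mul, map_mul, MulEquiv.apply_symm_apply, ← hx, ← QuotientGroup.mk_mul,
          mem_center_iff.1 hc x, QuotientGroup.mk_mul])
    rw [alternatingGroup.center_eq_bot (by simp), mem_bot, MulEquiv.map_eq_one_iff,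
      QuotientGroup.eq_one_iff] at h1
    exact h1
  refine ⟨by rw [ce, cZ], ⟨(QuotientGroup.quotientMulEquivOfEq ce).trans e.symm⟩, fun L hL => ?_⟩
  have hi : L.index = 2 := by rw [hL.index_eq_card, ce, cZ]
  have sq : ∀ x : C, x ^ 3 = 1 → x ∈ L := fun x hx => by
    have : x = x ^ 2 * x ^ 2 := by rw [← pow_add, pow_succ, hx, one_mul]
    rw [this]
    exact (mul_mem_iff_of_index_two hi).2 Iff.rfl
  have h1 : z ∈ L := h23 ▸ pow_mem (mul_mem (sq _ h32) (sq _ h33)) 2
  exact z1 (disjoint_def.1 hL.disjoint cz h1)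

theorem dc11 {G : Type*} [Group G] [Finite G] {t : G} (ht : orderOf t = 2) (y : Fin 11 → G)
    (hc : ∀ i, i ≠ 0 → i ≠ 1 → Commute (y i) t) (h3 : ∀ i, i ≠ 0 → i ≠ 1 → y i ^ 3 = 1)
    (h2 : ∀ i j, i ≠ 0 → i ≠ 1 → j ≠ 0 → j ≠ 1 → i ≠ j → (y i * y j) ^ 2 = t)
    (hle : Nat.card (centralizer ({t} : Set G)) ≤ 39916800) :
    Cfsg.IsNonsplitDoubleCover (centralizer ({t} : Set G)) (alternatingGroup (Fin 11)) := by
  refine core (z := ⟨t, mem_centralizer_singleton_iff.2 rfl⟩) (by rw [Subgroup.orderOf_mk, ht])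
    (mem_center_iff.2 fun g => Subtype.ext (mem_centralizer_singleton_iff.1 g.2))
    (fun i => if h : i ≠ 0 ∧ i ≠ 1 then ⟨y i, mem_centralizer_singleton_iff.2 (hc i h.1 h.2)⟩
      else 1) (fun i a b => ?_) (fun i j a b c d e => ?_) hle
  · rw [dif_pos ⟨a, b⟩]
    exact Subtype.ext (h3 i a b)
  · rw [dif_pos ⟨a, b⟩, dif_pos ⟨c, d⟩]
    exact Subtype.ext (h2 i j a b c d e)

end H8Dc
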