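import Cfsg.Agent.H3.Hd2

set_option autoImplicit false
open Subgroup Cfsg.Agent.H3 Cfsg.Agent.H3.Hd

namespace H8Gl

variable {G : Type*} [Group G] [Finite G] {A B : Subgroup G} [B.Normal] {a : G}

theorem large (h : St A B) (g : Gd A B) (ha : a ∈ A) (aB : a ∉ B)
    (hC : 16 < Nat.card (centralizer (B : Set G))) :
    Nat.card ↥(A ⊓ B) = 4 ∧ 64 ≤ Nat.card (centralizer ((A ⊓ B : Subgroup G) : Set G)) := by
  have f2 : Fact (Nat.Prime 2) := ⟨Nat.prime_two⟩
  set C := centralizer (B : Set G) with hCd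
  have c32 : 32 ≤ Nat.card C := by
    obtain ⟨j, hj⟩ := IsPGroup.iff_card.1 (h.hG.to_subgroup C)
    rw [hj] at hC ⊢
    have : 4 < j := (Nat.pow_lt_pow_iff_right (by norm_num : 1 < 2)).1 hC
    exact Nat.pow_le_pow_right (by norm_num : 0 < 2) this
  have c8 := h.c8
  obtain ⟨X, nX, BX, XC, cX, XB, -⟩ := H9.exists_normal_card_eq_mul h.hG (M := C) (N := B)
    (lt_of_le_of_ne h.BC fun e => by rw [← e] at c32; omega)
  obtain ⟨x, xC, xX, -, hx⟩ := H9.exists_central_step h.hG (M := C) (N := X) fun e => by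
    have := card_le_of_le e
    omega
  have key : ∀ b ∈ A, b ∉ B → x * b * x⁻¹ * b⁻¹ ∉ B := fun b hb bB hxb => by
    let Xb : Subgroup G := C ⊓ (centralizer {(b : G ⧸ B)}).comap (QuotientGroup.mk' B)
    have mem : ∀ y, y ∈ (centralizer {(b : G ⧸ B)}).comap (QuotientGroup.mk' B) ↔
        y * b * y⁻¹ * b⁻¹ ∈ B := fun y => by
      rw [mem_comap, mem_centralizer_singleton_iff, ← QuotientGroup.eq_one_iff]
      simp only [QuotientGroup.mk'_apply, QuotientGroup.mk_mul, QuotientGroup.mk_inv]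
      rw [mul_inv_eq_one, mul_inv_eq_iff_eq_mul]
    have h1 : X ≤ Xb := fun y hy =>
      ⟨XC hy, (mem y).2 (XB (commutator_mem_commutator hy (mem_top b)))⟩
    have h2 := g.xa b hb bB Xb inf_le_left fun y hy => (mem y).1 hy.2
    exact xX ((eq_of_le_of_card_ge h1 (by omega)).ge ⟨xC, (mem x).2 hxb⟩)
  have i2 : B.relIndex A ≤ 2 := H12.SR.idx_two fun y hy z hz y1 z1 => by
    by_contra hn
    refine key _ (mul_mem (inv_mem hy) hz) hn ?_
    have e : x * (y⁻¹ * z) * x⁻¹ * (y⁻¹ * z)⁻¹ =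
        x * y⁻¹ * x⁻¹ * y⁻¹⁻¹ * (y⁻¹ * (x * z * x⁻¹ * z⁻¹) * y⁻¹⁻¹) := by group
    rw [e]
    refine H17.Mw.two_mul BX (by omega) (hx _) (nX.conj_mem _ (hx z) _)
      (key _ (inv_mem hy) (by rwa [inv_mem_iff])) fun e' => key z hz z1 ?_
    simpa [mul_assoc] using Normal.conj_mem ‹B.Normal› _ e' y
  have h1 := crd (K := B) (D := A)
  have h2 := H12.SR.two_le (lt_of_le_of_ne (inf_le_left : A ⊓ B ≤ A) fun e => aB (e.ge ha).2)
  rw [inf_comm, h.a8] at h1
  rw [h.a8] at h2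
  refine ⟨by nlinarith, ?_⟩
  have h3 : C < centralizer ((A ⊓ B : Subgroup G) : Set G) :=
    lt_of_le_of_ne (centralizer_le fun y hy => hy.2) fun e =>
      aB (g.ac ⟨ha, e.ge fun y hy => h.aab hy.1 ha⟩)
  have := H12.SR.two_le h3
  omega

end H8Gl
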