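import Cfsg.Agent.H10.GD3
import Cfsg.Agent.H16.Hall
/-! Two consequences of Goldschmidt's theorem on strongly closed abelian 2-subgroups and of Burnside's transfer
theorem. -/
set_option autoImplicit false
namespace H8
open Cfsg Subgroup H16

universe u
variable {G : Type u} [Group G] [Finite G] {S A K : Subgroup G}

theorem core_bot_of_normal (hO : pPrimeCore 2 G = ⊥) (K : Subgroup G) [K.Normal] : pPrimeCore 2 K = ⊥ := by
  have := H1.map_pPrimeCore_subtype_le 2 K
  rwa [hO, le_bot_iff, map_eq_bot_iff_of_injective _ K.subtype_injective] at this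

theorem sc_inv0 (hO : pPrimeCore 2 G = ⊥) (h : H10.SA S A) {y : G} (hy : y ∈ S)
    (hK : y ∈ normalClosure (A : Set G)) (h2 : y * y = 1) : y ∈ A := by
  have eq := (h.sub le_normalClosure).eq_sup h.ncl_sub (core_bot_of_normal hO _)
  have : (⟨y, hK⟩ : normalClosure (A : Set G)) ∈ A.subgroupOf (normalClosure (A : Set G)) := by
    rw [eq]
    exact mem_sup_right (subset_closure ⟨⟨hy, hK⟩, Subtype.ext (by simp [sq, h2])⟩)
  exact this

/-- the involutions of `S` in the normal closure of a strongly closed abelian subgroup `A` lie in `A` -/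
theorem sc_inv (h : H10.SA S A) {y : G} (hy : y ∈ S) (hK : y ∈ normalClosure (A : Set G)) (h2 : y * y = 1) :
    y ∈ A := by
  have := Fact.mk Nat.prime_two
  have hf := QuotientGroup.mk'_surjective (pPrimeCore 2 G)
  obtain ⟨a, ha, e⟩ := sc_inv0 (H1.pPrimeCore_quotient_pPrimeCore 2) (h.map hf) (mem_map_of_mem _ hy)
    (by rw [coe_map, ← map_normalClosure _ _ hf]; exact mem_map_of_mem _ hK) (by rw [← map_mul, h2, map_one])
  have m : a⁻¹ * y ∈ pPrimeCore 2 G := QuotientGroup.eq.1 e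
  have d : S ⊓ pPrimeCore 2 G = ⊥ := by
    obtain ⟨k, hk⟩ := IsPGroup.iff_card.1 h.syl.isPGroup
    exact (Subgroup.disjoint_of_coprime_natCard
      (hk ▸ (H1.coprime_card_pPrimeCore 2).symm.pow_left k)).eq_bot
  have : a⁻¹ * y ∈ S ⊓ pPrimeCore 2 G := ⟨S.mul_mem (S.inv_mem (h.le ha)) hy, m⟩
  rw [d, mem_bot, inv_mul_eq_one] at this
  exact this ▸ ha

/-- Burnside's theorem inside a normal subgroup -/
theorem burn {p : ℕ} [Fact p.Prime] [K.Normal] (hA : Sy[p] A K) (h : K ⊓ N[A] ≤ C[A]) : K ≤ A ⊔ pPrimeCore p G := by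
  obtain ⟨Q, rfl⟩ := sylow_of_sy hA
  have hP : normalizer ((Q : Subgroup K) : Set K) ≤ centralizer ((Q : Subgroup K) : Set K) := by
    intro n hn
    have : (n : G) ∈ N[(Q : Subgroup K).map K.subtype] := mem_norm_of_cj_le (cj_le_forall.2 (by
      rintro _ ⟨a, ha, rfl⟩
      exact ⟨_, conj_mem hn ha, rfl⟩))
    exact mem_cent.2 fun a ha => Subtype.ext (mem_cent.1 (h ⟨n.2, this⟩) a (mem_map_of_mem _ ha))
  have c := MonoidHom.ker_transferSylow_isComplement' Q hP
  have z := H1.le_pPrimeCore (p := p)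
    ((Fact.out : p.Prime).coprime_iff_not_dvd.2 (MonoidHom.not_dvd_card_ker_transferSylow Q hP)).symm
  intro x hx
  obtain ⟨⟨a, b⟩, e⟩ := c.2 ⟨x, hx⟩
  have e' : (a.1 : G) * b.1 = x := congrArg Subtype.val e
  rw [← e']
  exact mul_mem (mem_sup_right (H1.map_pPrimeCore_subtype_le p K (mem_map_of_mem _ (z a.2))))
    (mem_sup_left (mem_map_of_mem _ b.2))

theorem normal_sup_of_le {O : Subgroup G} [O.Normal] (h : normalClosure (A : Set G) ≤ A ⊔ O) : (A ⊔ O).Normal := by
  rw [show A ⊔ O = normalClosure (A : Set G) ⊔ O from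
    le_antisymm (sup_le_sup_right le_normalClosure O) (sup_le h le_sup_right)]
  infer_instance

end H8
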