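import Cfsg.Agent.H8.Mono

set_option autoImplicit false
open Cfsg H8.Mono

namespace H8.Hexa

abbrev Q := Fin 4
def ad (a b : Q) : Q := ![![0, 1, 2, 3], ![1, 0, 3, 2], ![2, 3, 0, 1], ![3, 2, 1, 0]] a b
def mu (a b : Q) : Q := ![![0, 0, 0, 0], ![0, 1, 2, 3], ![0, 2, 3, 1], ![0, 3, 1, 2]] a b
def HH (a b c : Q) : Fin 6 → Q :=
  ![a, b, c, ad (ad a b) c, ad (ad (mu 3 a) (mu 2 b)) c, ad (ad (mu 2 a) (mu 3 b)) c]
def MB (y : Fin 6 → Q) : Prop := y 3 = ad (ad (y 0) (y 1)) (y 2) ∧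
  y 4 = ad (ad (mu 3 (y 0)) (mu 2 (y 1))) (y 2) ∧ y 5 = ad (ad (mu 2 (y 0)) (mu 3 (y 1))) (y 2)
instance (y : Fin 6 → Q) : Decidable (MB y) := by unfold MB; infer_instance
def wt (t : Q × Q × Q) : ℕ := (Finset.univ.filter fun i => HH t.1 t.2.1 t.2.2 i ≠ 0).card

theorem MB_HH : ∀ a b c, MB (HH a b c) := fun _ _ _ => ⟨rfl, rfl, rfl⟩
theorem MB.eq {y : Fin 6 → Q} (h : MB y) : HH (y 0) (y 1) (y 2) = y := by
  funext i
  fin_cases i
  exacts [rfl, rfl, rfl, h.1.symm, h.2.1.symm, h.2.2.symm]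
theorem wt_chk : ∀ t : Q × Q × Q, t = (0, 0, 0) ∨ wt t = 4 ∨ wt t = 6 := by decide +kernel
theorem cnt_chk : (Finset.univ.filter fun t => wt t = 4).card = 45 ∧
    (Finset.univ.filter fun t => wt t = 6).card = 18 := by decide +kernel

/-- the three generator tests -/
def G3 (c : Fin 6 → Q) (g : Fin 6 → Fin 6) : Prop :=
  MB (fun i => mu (c i) (HH 1 0 0 (g i))) ∧ MB (fun i => mu (c i) (HH 0 1 0 (g i))) ∧
    MB (fun i => mu (c i) (HH 0 0 1 (g i)))
instance (c : Fin 6 → Q) (g : Fin 6 → Fin 6) : Decidable (G3 c g) := by unfold G3; infer_instance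

set_option synthInstance.maxSize 100000 in
theorem diag_chk : ∀ a ≠ (0 : Q), ∀ b ≠ (0 : Q), ∀ c ≠ (0 : Q), ∀ d ≠ (0 : Q), ∀ e ≠ (0 : Q),
    ∀ f ≠ (0 : Q), ¬ G3 ![a, b, c, d, e, f] (Equiv.swap 0 1) ∧
      (G3 ![a, b, c, d, e, f] id → b = a ∧ c = a ∧ d = a ∧ e = a ∧ f = a) := by decide +kernel

def T3 : ℕ := 0xff9aad5e55b5000aad000ff96bde9d000ff9aad0007b9b790005b5b6ded90005e50005e59edde95b5000000000aadff95b55e5000000000000000000ff9000000aadde9ed9aad000ff90009edb6d5e5000b79e9d0005b55b50007b96bd5e5000000ff9000aadb6d9edaad000000ff9b797b9000000000000000000ff9aad000000e55b556bdde9000b55000e55e9ded9000e55b55000000aadff9000ed9de9ff9000aad000e9d6bdaadff9000000b55e550000000000000000007b99ede55000000b55b79b6db55000e550000005e56bd7b90005b55b5000de99ed0005e5b6db79000e55000b55ed9e9db55000000e550000000000000000005e55b5e55b550000000005b5e9db795e50005e5000ed9b6d5b50009ed7b9000b55e55000de96bde55000b550005b55e5b55e55000000000000000000000000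

def c3 (a b c i : Fin 6) : Q := Fin.ofNat 4 (T3 >>> (12 * (36 * a.val + 6 * b.val + c.val) + 2 * i.val))

theorem c3_chk : ∀ a b c : Fin 6, a ≠ b → a ≠ c → b ≠ c → (∀ i, c3 a b c i ≠ 0) ∧
    G3 (c3 a b c) fun i => Equiv.swap a c (Equiv.swap a b i) := by decide +kernel

variable {F : Type*} [Field F] {ω : F}

def φ (ω : F) (a : Q) : F := ![0, 1, ω, ω ^ 2] a

structure Ctx (ω : F) : Prop where
  two : (2 : F) = 0
  h : ω ^ 2 + ω + 1 = 0
  surj : Function.Surjective (φ ω)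

theorem φ_ad (h2 : (2 : F) = 0) (h : ω ^ 2 + ω + 1 = 0) (a b : Q) :
    φ ω (ad a b) = φ ω a + φ ω b := by
  fin_cases a <;> fin_cases b <;> simp [φ, ad] <;> grind

theorem φ_mu (h : ω ^ 2 + ω + 1 = 0) (a b : Q) : φ ω (mu a b) = φ ω a * φ ω b := by
  fin_cases a <;> fin_cases b <;> simp [φ, mu] <;> grind

theorem φ_inj (h2 : (2 : F) = 0) (h : ω ^ 2 + ω + 1 = 0) : Function.Injective (φ ω) := by
  have h0 : ω ≠ 0 := by rintro rfl; simp at h
  have h1 : ω ≠ 1 := by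
    rintro rfl
    exact one_ne_zero (by linear_combination h - h2 : (1 : F) = 0)
  intro a b
  fin_cases a <;> fin_cases b <;> simp [φ] <;> grind

theorem ctx [Fintype F] (hF : Fintype.card F = 4) (h : ω ^ 2 + ω + 1 = 0) : Ctx ω := by
  have h4 := FiniteField.cast_card_eq_zero F
  rw [hF] at h4
  have h2 : (2 : F) = 0 := by
    have : (2 : F) * 2 = 0 := by rw [← h4]; norm_num
    exact mul_self_eq_zero.1 this
  exact ⟨h2, h, ((Fintype.bijective_iff_injective_and_card _).2 ⟨φ_inj h2 h, by simp [hF]⟩).2⟩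

def M (ω : F) (x : Fin 6 → F) : Prop := x 3 = x 0 + x 1 + x 2 ∧
  x 4 = ω ^ 2 * x 0 + ω * x 1 + x 2 ∧ x 5 = ω * x 0 + ω ^ 2 * x 1 + x 2

theorem mem_iff (k : Ctx ω) {x : Fin 6 → F} : x ∈ hexacode F ω ↔ M ω x := by
  have h2 := k.two
  have h := k.h
  unfold hexacode
  rw [Submodule.mem_span_triple]
  constructor
  · rintro ⟨a, b, c, rfl⟩
    refine ⟨?_, ?_, ?_⟩ <;> simp <;> grind
  · rintro ⟨h3, h4, h5⟩
    refine ⟨x 0 * ω + x 1 * ω ^ 2, x 0 * ω ^ 2 + x 1 * ω ^ 2 + x 2, x 1 + x 2, ?_⟩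
    funext i
    fin_cases i <;> simp <;> grind

theorem M_φ (k : Ctx ω) {y : Fin 6 → Q} : (fun i => φ ω (y i)) ∈ hexacode F ω ↔ MB y := by
  rw [mem_iff k]
  unfold M MB
  have i := φ_inj k.two k.h
  rw [← i.eq_iff (a := y 3), ← i.eq_iff (a := y 4), ← i.eq_iff (a := y 5)]
  simp only [φ_ad k.two k.h, φ_mu k.h]
  rfl

def W (ω : F) (t : Q × Q × Q) : Fin 6 → F := fun i => φ ω (HH t.1 t.2.1 t.2.2 i)

theorem W_mem (k : Ctx ω) (t : Q × Q × Q) : W ω t ∈ hexacode F ω := (M_φ k).2 (MB_HH _ _ _)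

theorem exists_W (k : Ctx ω) {x : Fin 6 → F} (hx : x ∈ hexacode F ω) : ∃ t, W ω t = x := by
  choose y hy using fun i => k.surj (x i)
  obtain rfl : x = fun i => φ ω (y i) := funext fun i => (hy i).symm
  refine ⟨(y 0, y 1, y 2), ?_⟩
  unfold W
  simp only [((M_φ k).1 hx).eq]

theorem W_inj (k : Ctx ω) : Function.Injective (W ω) := fun s t h => by
  have i := φ_inj k.two k.h
  exact Prod.ext (i (congrFun h 0)) (Prod.ext (i (congrFun h 1)) (i (congrFun h 2)))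

theorem card_code (k : Ctx ω) : Nat.card (hexacode F ω) = 64 := by
  have : Nat.card (Q × Q × Q) = Nat.card (hexacode F ω) :=
    Nat.card_eq_of_bijective (fun t => ⟨W ω t, W_mem k t⟩)
      ⟨fun s t h => W_inj k (congrArg Subtype.val h), fun x => (exists_W k x.2).imp fun _ h =>
        Subtype.ext h⟩
  rw [← this]; simp

theorem φ_ne (k : Ctx ω) {a : Q} : φ ω a ≠ 0 ↔ a ≠ 0 :=
  (φ_inj k.two k.h).ne_iff' rfl

theorem wt_W [DecidableEq F] (k : Ctx ω) (t : Q × Q × Q) :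
    (Finset.univ.filter fun i => W ω t i ≠ 0).card = wt t := by
  unfold wt W
  simp only [φ_ne k]

theorem weights [DecidableEq F] (k : Ctx ω) {x : Fin 6 → F} (hx : x ∈ hexacode F ω) (h0 : x ≠ 0) :
    (Finset.univ.filter fun i => x i ≠ 0).card = 4 ∨
      (Finset.univ.filter fun i => x i ≠ 0).card = 6 := by
  obtain ⟨t, rfl⟩ := exists_W k hx
  rw [wt_W k]
  refine (wt_chk t).resolve_left ?_
  rintro rfl
  refine h0 (funext fun i => ?_)
  fin_cases i <;> rfl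

theorem ncard_wt [DecidableEq F] (k : Ctx ω) (j : ℕ) :
    {x : Fin 6 → F | x ∈ hexacode F ω ∧ (Finset.univ.filter fun i => x i ≠ 0).card = j}.ncard =
    (Finset.univ.filter fun t => wt t = j).card := by
  rw [← Set.ncard_coe_finset, ← Set.ncard_image_of_injective _ (W_inj k)]
  congr 1
  ext x
  constructor
  · rintro ⟨h1, h⟩
    obtain ⟨t, rfl⟩ := exists_W k h1
    exact ⟨t, Finset.mem_coe.2 (Finset.mem_filter.2 ⟨Finset.mem_univ _, wt_W k t ▸ h⟩), rfl⟩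
  · rintro ⟨t, h, rfl⟩
    exact ⟨W_mem k t, (wt_W k t).trans (Finset.mem_filter.1 (Finset.mem_coe.1 h)).2⟩

theorem pres_iff (k : Ctx ω) {σ : Equiv.Perm (Fin 6)} {c : Fin 6 → Fˣ} {d : Fin 6 → Q}
    (hd : ∀ i, φ ω (d i) = c i) : Pres (hexacode F ω) σ c ↔ G3 d σ.symm := by
  have e : ∀ t, monomialMap σ c (W ω t) = fun i => φ ω (mu (d i) (HH t.1 t.2.1 t.2.2 (σ.symm i))) :=
    fun t => funext fun i => by rw [φ_mu k.h, hd]; rfl
  constructor
  · intro h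
    have := fun t => (M_φ k).1 (e t ▸ h _ (W_mem k t))
    exact ⟨this (1, 0, 0), this (0, 1, 0), this (0, 0, 1)⟩
  · rintro ⟨h1, h2, h3⟩ x hx
    have e2 : x = x 0 • W ω (1, 0, 0) + x 1 • W ω (0, 1, 0) + x 2 • W ω (0, 0, 1) := by
      obtain ⟨a, b, c⟩ := (mem_iff k).1 hx
      funext i
      fin_cases i <;> simp [W, HH, φ, ad, mu, a, b, c] <;> ring
    rw [e2]
    simp only [mon_add, mon_smul]
    refine add_mem (add_mem ?_ ?_) ?_ <;> refine Submodule.smul_mem _ _ ?_ <;> rw [e, M_φ k] <;>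
      assumption

theorem exists_code (k : Ctx ω) (c : Fin 6 → Fˣ) : ∃ d : Fin 6 → Q, (∀ i, φ ω (d i) = c i) ∧
    ¬ G3 d (Equiv.swap 0 1) ∧ (G3 d id → ∀ i, d i = d 0) := by
  choose d hd using fun i => k.surj (c i)
  have h0 : ∀ i, d i ≠ 0 := fun i => (φ_ne k).1 (hd i ▸ (c i).ne_zero)
  have := diag_chk _ (h0 0) _ (h0 1) _ (h0 2) _ (h0 3) _ (h0 4) _ (h0 5)
  have e : ![d 0, d 1, d 2, d 3, d 4, d 5] = d := by funext i; fin_cases i <;> rfl
  rw [e] at this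
  refine ⟨d, hd, this.1, fun h i => ?_⟩
  obtain ⟨a, b, c, e, f⟩ := this.2 h
  fin_cases i
  exacts [rfl, a, b, c, e, f]

theorem diag (k : Ctx ω) {c : Fin 6 → Fˣ} (h : Pres (hexacode F ω) 1 c) (i : Fin 6) :
    c i = c 0 := by
  obtain ⟨d, hd, -, h2⟩ := exists_code k c
  exact Units.ext (by rw [← hd, ← hd, h2 ((pres_iff k hd).1 h) i])

theorem A_eq [Finite F] (k : Ctx ω) : A (hexacode F ω) = alternatingGroup (Fin 6) := by
  have le : alternatingGroup (Fin 6) ≤ A (hexacode F ω) := by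
    rw [← Equiv.Perm.closure_three_cycles_eq_alternating, Subgroup.closure_le]
    intro σ hσ
    obtain ⟨a, b, c, hab, hac, hbc, rfl⟩ : ∃ a b c : Fin 6, a ≠ b ∧ a ≠ c ∧ b ≠ c ∧
        σ = Equiv.swap a b * Equiv.swap a c := by
      have h3 : σ.IsThreeCycle := hσ
      obtain ⟨a, ha⟩ := Finset.card_pos.1 (h3.card_support ▸ (by norm_num) : 0 < σ.support.card)
      have hn := h3.nodup_iff_mem_support.2 ha
      simp only [List.nodup_cons, List.mem_cons, List.not_mem_nil, or_false, not_or] at hn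
      refine ⟨σ a, a, σ (σ a), Ne.symm hn.1.1, hn.2.1, hn.1.2, ?_⟩
      rw [Equiv.swap_comm (σ a) a]
      exact h3.eq_swap_mul_swap_iff_mem_support.2 ha
    obtain ⟨h1, h2⟩ := c3_chk a b c hab hac hbc
    exact ⟨fun i => Units.mk0 _ ((φ_ne k).2 (h1 i)), (pres_iff k fun i => rfl).2 h2⟩
  refine le_antisymm (fun σ hσ => ?_) le
  by_contra hn
  have h1 : Equiv.swap 0 1 * σ ∈ alternatingGroup (Fin 6) := by
    rw [Equiv.Perm.mem_alternatingGroup] at hn ⊢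
    rw [Equiv.Perm.sign_mul, Equiv.Perm.sign_swap (by decide),
      (Int.units_eq_one_or (Equiv.Perm.sign σ)).resolve_left hn]
    rfl
  have h2 := mul_mem (le h1) (inv_mem hσ)
  rw [mul_inv_cancel_right] at h2
  obtain ⟨c, hc⟩ := h2
  obtain ⟨d, hd, h3, -⟩ := exists_code k c
  exact h3 ((pres_iff k hd).1 hc)

theorem card_ker [Fintype F] (hF : Fintype.card F = 4) (k : Ctx ω) :
    Nat.card {c : Fin 6 → Fˣ // Pres (hexacode F ω) 1 c} = 3 := by
  classical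
  have : Nat.card Fˣ = Nat.card {c : Fin 6 → Fˣ // Pres (hexacode F ω) 1 c} :=
    Nat.card_eq_of_bijective (fun u => ⟨fun _ => u, Pres.const u⟩)
      ⟨fun u v h => congrFun (congrArg Subtype.val h) 0,
        fun c => ⟨c.1 0, Subtype.ext (funext fun p => (diag k c.2 p).symm)⟩⟩
  rw [← this, Nat.card_eq_fintype_card, Fintype.card_units, hF]

end H8.Hexa
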