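import Cfsg.Agent.H8.Elt
import Cfsg.Agent.H8.Sdp
import Cfsg.Agent.H6.Inv
import Cfsg.Agent.H5.Radical
import Cfsg.Agent.H12.Syl
import Cfsg.Agent.H3.Transfer2
import Cfsg.Agent.H1.Coprime

/-! Sylow 2-subgroups of class two with few normalizers (for Janko's theorem with operators). -/

set_option linter.unusedSectionVars false

namespace H8

open Subgroup Cfsg
open scoped Pointwise commutatorElement

universe u

local notation:max "𝒩 " x:max => Subgroup.normalizer (SetLike.coe (x : Subgroup _))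
local notation:max "𝒞 " x:max => Subgroup.centralizer (SetLike.coe (x : Subgroup _))

variable {G : Type u} [Group G] [Finite G]

/-- The subgroup generated by the elements of odd order normalizing `D`. -/
def oddR (D : Subgroup G) : Subgroup G := closure {g | g ∈ 𝒩 D ∧ (orderOf g).Coprime 2}

/-- The commutator of `D` with the odd order elements of its normalizer. -/
def WD (D : Subgroup G) : Subgroup G := ⁅D, oddR D⁆

theorem oddR_le (D : Subgroup G) : oddR D ≤ 𝒩 D := (closure_le _).2 fun _ h => h.1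

theorem norm_le_norm_oddR (D : Subgroup G) : 𝒩 D ≤ 𝒩 (oddR D) := by
  intro g hg
  refine mem_normalizer_fintype fun x hx => ?_
  refine closure_induction (p := fun x _ => g * x * g⁻¹ ∈ oddR D) ?_ ?_ ?_ ?_ hx
  · rintro y ⟨h1, h2⟩
    exact subset_closure ⟨mul_mem (mul_mem hg h1) (inv_mem hg), by rwa [H6.orderOf_conj']⟩
  · simp
  · intro a b _ _ ha hb
    have : g * (a * b) * g⁻¹ = g * a * g⁻¹ * (g * b * g⁻¹) := by group
    rw [this]; exact mul_mem ha hb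
  · intro a _ ha
    have : g * a⁻¹ * g⁻¹ = (g * a * g⁻¹)⁻¹ := by group
    rw [this]; exact inv_mem ha

theorem norm_le_norm_WD (D : Subgroup G) : 𝒩 D ≤ 𝒩 (WD D) :=
  H1.le_normalizer_commutator le_rfl (norm_le_norm_oddR D)

theorem WD_le (D : Subgroup G) : WD D ≤ D := commutator_le_left_of_le_normalizer (oddR_le D)

theorem norm_le_oddR_sup {D P : Subgroup G} (h : H12.SylIn 2 P (𝒩 D)) : 𝒩 D ≤ oddR D ⊔ P := by
  have h1 := congrArg (Subgroup.map (𝒩 D).subtype) (H3.pResidual_sup_sylow h.toSylow)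
  rw [Subgroup.map_sup, H3.map_pResidual_eq_closure, h.map_toSylow, ← MonoidHom.range_eq_map,
    range_subtype] at h1
  exact h1.ge

theorem WD_le_of_le_centMod {D V : Subgroup G} (hD : IsPGroup 2 D)
    (h : oddR D ≤ H5.centMod (WD D) V) : WD D ≤ V := by
  have h1 : oddR D ≤ H5.centMod D V := by
    refine (closure_le _).2 fun y hy => ?_
    have hyR : y ∈ oddR D := subset_closure hy
    refine ⟨(h hyR).1, fun d hd => ?_⟩
    have h2 := H1.commutator_commutator_eq (A := zpowers y) (K := D) (zpowers_le.2 hy.1)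
      (by rw [Nat.card_zpowers]; exact (H1.IsPGroup.coprime_card hD hy.2).symm)
      (Or.inl inferInstance)
    have h3 : ⁅⁅D, zpowers y⁆, zpowers y⁆ ≤ V := by
      refine le_trans (commutator_mono (commutator_mono le_rfl (zpowers_le.2 hyR))
        (zpowers_le.2 hyR)) ?_
      rw [commutator_comm]
      exact (H5.le_centMod.1 h).2
    rw [h2, commutator_comm] at h3
    exact h3 (commutator_mem_commutator (mem_zpowers y) hd)
  rw [WD, commutator_comm]
  exact (H5.le_centMod.1 h1).2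

theorem le_norm_centMod {L U V : Subgroup G} (hU : L ≤ 𝒩 U) (hV : L ≤ 𝒩 V) :
    L ≤ 𝒩 (H5.centMod U V) := by
  intro g hg
  refine mem_normalizer_fintype fun x hx => ⟨mul_mem (mul_mem (hV hg) hx.1) (inv_mem (hV hg)),
    fun z hz => ?_⟩
  have : ⁅g * x * g⁻¹, z⁆ = g * ⁅x, g⁻¹ * z * g⁆ * g⁻¹ := by
    simp only [commutatorElement_def]; group
  rw [this]
  exact H1.conj_mem_of_mem_normalizer (hV hg) (hx.2 _ (H1.conj_mem_of_mem_normalizer' (hU hg) hz))

theorem WD_map (D : Subgroup G) (α : MulAut G) :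
    WD (D.map α.toMonoidHom) = (WD D).map α.toMonoidHom := by
  rw [WD, WD, map_commutator, oddR, oddR, MonoidHom.map_closure]
  congr 2
  rw [← map_equiv_normalizer_eq]
  ext g
  constructor
  · rintro ⟨⟨y, hy, rfl⟩, h2⟩
    exact ⟨y, ⟨hy, by rwa [← α.orderOf_eq y]⟩, rfl⟩
  · rintro ⟨y, ⟨hy, h2⟩, rfl⟩
    exact ⟨⟨y, hy, rfl⟩, by rwa [← α.orderOf_eq y] at h2⟩

/-- Standing hypotheses on the Sylow subgroup `P` and its normalizer `M`. -/
structure JH (P : Sylow 2 G) (M : Subgroup G) : Prop where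
  nP : 𝒩 (P : Subgroup G) = M
  nZ : 𝒩 ((P : Subgroup G) ⊓ 𝒞 (P : Subgroup G)) ≤ M
  dec : ∀ m ∈ M, ∃ u ∈ (P : Subgroup G), ∃ c ∈ 𝒞 (P : Subgroup G), u * c = m
  cl2 : ∀ a ∈ (P : Subgroup G), ∀ b ∈ (P : Subgroup G), ⁅a, b⁆ ∈ 𝒞 (P : Subgroup G)

/-- The overgroups of the centre of `P` with a large normalizer. -/
def JF (P : Sylow 2 G) (M D : Subgroup G) : Prop :=
  (P : Subgroup G) ⊓ 𝒞 (P : Subgroup G) ≤ D ∧ D ≤ P ∧ ¬ 𝒩 D ≤ M

/-- Members of maximal order. -/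
def JD (P : Sylow 2 G) (M D : Subgroup G) : Prop :=
  JF P M D ∧ ∀ E, JF P M E → Nat.card E ≤ Nat.card D

variable {P : Sylow 2 G} {M D : Subgroup G}

theorem JH.comm_mem (h : JH P M) {a b : G} (ha : a ∈ (P : Subgroup G))
    (hb : b ∈ (P : Subgroup G)) : ⁅a, b⁆ ∈ (P : Subgroup G) ⊓ 𝒞 (P : Subgroup G) :=
  mem_inf.2 ⟨commutator_le_self _ (commutator_mem_commutator ha hb), h.cl2 a ha b hb⟩

theorem JH.le (h : JH P M) : (P : Subgroup G) ≤ M := h.nP ▸ le_normalizer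

theorem JH.le_norm (h : JH P M) {E : Subgroup G} (h1 : (P : Subgroup G) ⊓ 𝒞 (P : Subgroup G) ≤ E)
    (h2 : E ≤ P) : (P : Subgroup G) ≤ 𝒩 E := fun u hu => by
  refine mem_normalizer_fintype fun d hd => ?_
  have : u * d * u⁻¹ = ⁅u, d⁆ * d := by simp only [commutatorElement_def]; group
  rw [this]
  exact mul_mem (h1 (h.comm_mem hu (h2 hd))) hd

theorem cent_le_norm {E : Subgroup G} (h2 : E ≤ P) : 𝒞 (P : Subgroup G) ≤ 𝒩 E :=
  (centralizer_le h2).trans (centralizer_le_normalizer _)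

theorem JH.mem_of_two (h : JH P M) {x : G} (hx : x ∈ M) {k : ℕ} (hk : x ^ 2 ^ k = 1) :
    x ∈ (P : Subgroup G) :=
  mem_sylow_of_mem_normalizer P (h.nP ▸ hx) (isPGroup_zpowers_of_pow hk)

/-- If `E ≤ P ∩ P ^ g` contains both centres and has small normalizer then `g ∈ M`. -/
theorem JH.mem_of_conj (h : JH P M) {g : G}
    (h1 : ∀ z ∈ (P : Subgroup G) ⊓ 𝒞 (P : Subgroup G), g * z * g⁻¹ ∈ (P : Subgroup G))
    (h2 : 𝒩 ((P : Subgroup G) ⊓ MulAut.conj g • (P : Subgroup G)) ≤ M) : g ∈ M := by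
  rw [← h.nP]
  refine mem_normalizer_fintype fun y hy => ?_
  obtain ⟨k, hk⟩ := exists_pow_eq_one_of_mem P.isPGroup' hy
  refine h.mem_of_two (h2 ?_) (k := k) (by rw [conj_pow, hk]; group)
  refine mem_normalizer_fintype fun e he => ?_
  obtain ⟨he1, he2⟩ := mem_inf.1 he
  have he3 := H1.mem_conj_smul_iff.1 he2
  have : g * y * g⁻¹ * e * (g * y * g⁻¹)⁻¹ = (g * ⁅y, g⁻¹ * e * g⁆ * g⁻¹) * e := by
    simp only [commutatorElement_def]; group
  rw [this]
  exact mul_mem (mem_inf.2 ⟨h1 _ (h.comm_mem hy he3),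
    H1.conj_mem_conj_smul (mem_inf.1 (h.comm_mem hy he3)).1⟩) he

theorem JD.pg (hD : JD P M D) : IsPGroup 2 D := P.isPGroup'.to_le hD.1.2.1

theorem JD.big (hD : JD P M D) {E : Subgroup G} (h1 : D ≤ E) (h2 : E ≤ P) {x : G} (hx : x ∈ E)
    (hxD : x ∉ D) : 𝒩 E ≤ M := by
  by_contra h3
  have := hD.2 E ⟨hD.1.1.trans h1, h2, h3⟩
  exact hxD (eq_of_le_of_card_ge h1 this ▸ hx)

theorem JD.exists_not_mem (h : JH P M) (hD : JD P M D) : ∃ t ∈ (P : Subgroup G), t ∉ D := by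
  by_contra h1
  push Not at h1
  have : D = P := le_antisymm hD.1.2.1 h1
  exact hD.1.2.2 (this ▸ h.nP.le)

theorem JD.ti (h : JH P M) (hD : JD P M D) {g x : G} (hg : g ∈ 𝒩 D) (hx : x ∈ (P : Subgroup G))
    (hxD : x ∉ D) (hgx : g⁻¹ * x * g ∈ (P : Subgroup G)) : g ∈ M := by
  refine h.mem_of_conj (fun z hz => hD.1.2.1 (H1.conj_mem_of_mem_normalizer hg (hD.1.1 hz))) ?_
  refine hD.big (le_inf hD.1.2.1 fun d hd => ?_) inf_le_left
    (mem_inf.2 ⟨hx, H1.mem_conj_smul_iff.2 hgx⟩) hxD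
  exact H1.mem_conj_smul_iff.2 (hD.1.2.1 (H1.conj_mem_of_mem_normalizer' hg hd))

theorem JD.syl (h : JH P M) (hD : JD P M D) : H12.SylIn 2 (P : Subgroup G) (𝒩 D) :=
  (H12.sylIn_top P).of_le (h.le_norm hD.1.1 hD.1.2.1) le_top

theorem JD.cm (h : JH P M) (hD : JD P M D) {U V : Subgroup G} (hU : 𝒩 D ≤ 𝒩 U) (hV : 𝒩 D ≤ 𝒩 V)
    (hUP : U ≤ P) (hDc : D ≤ H5.centMod U V) {t : G} (ht : t ∈ (P : Subgroup G)) (htD : t ∉ D)
    (htc : t ∈ H5.centMod U V) : oddR D ≤ H5.centMod U V := by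
  obtain ⟨N, hN⟩ : ∃ N, N = 𝒩 D ⊓ H5.centMod U V := ⟨_, rfl⟩
  have hPL := h.le_norm hD.1.1 hD.1.2.1
  have hLN : 𝒩 D ≤ 𝒩 N := hN ▸ H1.le_normalizer_inf le_normalizer (le_norm_centMod hU hV)
  have hNL : N ≤ 𝒩 D := hN ▸ inf_le_left
  have hS := (hD.syl h).inf_of_le hLN hNL
  have hM := hD.big (E := (P : Subgroup G) ⊓ N)
    (le_inf hD.1.2.1 (hN ▸ le_inf le_normalizer hDc)) inf_le_left
    (mem_inf.2 ⟨ht, hN ▸ mem_inf.2 ⟨hPL ht, htc⟩⟩) htD
  have hC : 𝒞 (P : Subgroup G) ≤ N := fun c hc => by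
    have hcL := cent_le_norm hD.1.2.1 hc
    rw [hN]
    refine mem_inf.2 ⟨hcL, hV hcL, fun z hz => ?_⟩
    rw [commutatorElement_eq_one_iff_mul_comm.2 (hc z (hUP hz)).symm]
    exact one_mem _
  have hL : 𝒩 D ≤ (P : Subgroup G) ⊔ N := fun g hg => by
    obtain ⟨k, hk, hkg⟩ := hS.frattini (hLN hg)
    obtain ⟨u, hu, c, hc, huc⟩ := h.dec _ (hM hkg)
    have : g = k⁻¹ * (u * c) := by rw [huc]; group
    rw [this]
    exact mul_mem (inv_mem (mem_sup_right hk)) (mul_mem (mem_sup_left hu) (mem_sup_right (hC hc)))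
  refine (closure_le _).2 fun y hy => ?_
  have h1 : zpowers y ≤ N := by
    refine H1.le_of_coprime_relIndex (K := (P : Subgroup G) ⊔ N) (zpowers_le.2 (hL hy.1))
      (sup_le (hPL.trans hLN) le_normalizer) ?_
    rw [H1.relIndex_sup_of_le_normalizer (hPL.trans hLN), Nat.card_zpowers]
    exact ((H1.IsPGroup.coprime_card P.isPGroup' hy.2).symm).coprime_dvd_right
      (relIndex_dvd_card _ _)
  exact (mem_inf.1 (hN ▸ h1 (mem_zpowers y))).2

theorem JD.not_le (h : JH P M) (hD : JD P M D) : ¬ oddR D ≤ M := fun h1 =>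
  hD.1.2.2 ((norm_le_oddR_sup (hD.syl h)).trans (sup_le h1 h.le))

theorem JD.WD_le_cent (h : JH P M) (hD : JD P M D) : WD D ≤ 𝒞 D := by
  obtain ⟨t, ht, htD⟩ := hD.exists_not_mem h
  have hV : 𝒩 D ≤ 𝒩 (D ⊓ 𝒞 D) :=
    H1.le_normalizer_inf le_rfl (H1.normalizer_le_normalizer_centralizer _)
  have hP : (P : Subgroup G) ≤ H5.centMod D (D ⊓ 𝒞 D) := fun u hu =>
    ⟨hV (h.le_norm hD.1.1 hD.1.2.1 hu), fun d hd => mem_inf.2
      ⟨hD.1.1 (h.comm_mem hu (hD.1.2.1 hd)),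
        centralizer_le hD.1.2.1 (h.cl2 u hu d (hD.1.2.1 hd))⟩⟩
  have := hD.cm h le_rfl hV hD.1.2.1 (hD.1.2.1.trans hP) ht htD (hP ht)
  rw [WD, commutator_comm]
  exact (H5.le_centMod.1 this).2.trans inf_le_right

theorem JD.WD_comm (h : JH P M) (hD : JD P M D) : IsMulCommutative (WD D) :=
  H1.isMulCommutative_iff'.2 fun a ha b hb => hD.WD_le_cent h hb a (WD_le D ha)

theorem JD.WD_ne_bot (h : JH P M) (hD : JD P M D) : WD D ≠ ⊥ := fun h1 => by
  rw [WD, H5.commutator_eq_bot_iff'] at h1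
  exact hD.not_le h (h1.trans ((centralizer_le hD.1.1).trans
    ((centralizer_le_normalizer _).trans h.nZ)))

theorem JD.D_le_centMod (h : JH P M) (hD : JD P M D) {U V : Subgroup G} (hU : U ≤ WD D)
    (hV : 𝒩 D ≤ 𝒩 V) : D ≤ H5.centMod U V := fun d hd =>
  ⟨hV (le_normalizer hd), fun z hz => by
    rw [commutatorElement_eq_one_iff_mul_comm.2 (hD.WD_le_cent h (hU hz) d hd)]; exact one_mem _⟩

theorem JD.mem_of_omega (h : JH P M) (hD : JD P M D) {t : G} (ht : t ∈ (P : Subgroup G))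
    (hc : ∀ w ∈ WD D, w * w = 1 → t * w = w * t) : t ∈ D := by
  by_contra htD
  haveI := hD.WD_comm h
  have hb : ∀ X : Subgroup G, X ≤ 𝒩 (⊥ : Subgroup G) := fun X => by
    rw [normalizer_eq_top]; exact le_top
  have h1 := hD.cm h (U := H1.powKer (WD D) 2) (V := ⊥)
    ((norm_le_norm_WD D).trans (H1.normalizer_le_normalizer_powKer _ _)) (hb _)
    ((H1.powKer_le _ _).trans ((WD_le D).trans hD.1.2.1))
    (hD.D_le_centMod h (H1.powKer_le _ _) (hb _)) ht htD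
    ⟨hb ⊤ (mem_top _), fun z hz => by
      rw [mem_bot, commutatorElement_eq_one_iff_mul_comm]
      exact hc z (H1.mem_powKer.1 hz).1 (by rw [← pow_two]; exact (H1.mem_powKer.1 hz).2)⟩
  refine hD.WD_ne_bot h (le_bot_iff.1 (WD_le_of_le_centMod hD.pg ?_))
  refine (closure_le _).2 fun y hy => ⟨hb ⊤ (mem_top _), fun z hz => ?_⟩
  have hyR : y ∈ oddR D := subset_closure hy
  have hW : IsPGroup 2 (WD D) := hD.pg.to_le (WD_le D)
  have hn : zpowers y ≤ 𝒩 (WD D) := zpowers_le.2 (norm_le_norm_WD D hy.1)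
  have h2 := (H3.fitting_decomposition (A := WD D) (H := zpowers y) hn
    ((H1.IsPGroup.coprime_card hW hy.2).coprime_dvd_right
      ((relIndex_dvd_card _ _).trans (Nat.card_zpowers y).dvd))).1
  have h3 : ⁅WD D, zpowers y⁆ = ⊥ := by
    by_contra h3
    have h4 := commutator_le_left_of_le_normalizer hn
    obtain ⟨k, hk⟩ := (hW.to_le h4).exists_card_eq
    obtain ⟨v, hv, hv2⟩ := H6.exists_ord2_mem_of_even (H := ⁅WD D, zpowers y⁆) (by
      rcases k with _ | k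
      · exact absurd (card_eq_one.1 hk) h3
      · rw [hk, pow_succ]; exact even_two.mul_left _)
    have h5 : v ∈ ⁅WD D, zpowers y⁆ ⊓ 𝒞 (zpowers y) := by
      refine mem_inf.2 ⟨hv, ?_⟩
      rw [zpowers_eq_closure, centralizer_closure, mem_centralizer_singleton_iff]
      have := (h1 hyR).2 v (H1.mem_powKer.2 ⟨h4 hv, by rw [pow_two]; exact H6.ord2_mul_self hv2⟩)
      rw [mem_bot, commutatorElement_eq_one_iff_mul_comm] at this
      exact this.symm
    rw [h2, mem_bot] at h5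
    exact H6.ord2_ne_one hv2 h5
  rw [commutator_comm] at h3
  rw [← h3]
  exact commutator_mem_commutator (mem_zpowers y) hz

theorem JH.comm_mul_left (h : JH P M) {a b c : G} (ha : a ∈ (P : Subgroup G))
    (hb : b ∈ (P : Subgroup G)) (hc : c ∈ (P : Subgroup G)) : ⁅a * b, c⁆ = ⁅a, c⁆ * ⁅b, c⁆ := by
  have h1 := h.cl2 b hb c hc a ha
  have h2 := h.cl2 b hb c hc _ (mem_inf.1 (h.comm_mem ha hc)).1
  calc ⁅a * b, c⁆ = a * ⁅b, c⁆ * a⁻¹ * ⁅a, c⁆ := by simp only [commutatorElement_def]; group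
    _ = ⁅a, c⁆ * ⁅b, c⁆ := by rw [h1, h2]; group

theorem JH.comm_mul_right (h : JH P M) {a b c : G} (ha : a ∈ (P : Subgroup G))
    (hb : b ∈ (P : Subgroup G)) (hc : c ∈ (P : Subgroup G)) : ⁅a, b * c⁆ = ⁅a, b⁆ * ⁅a, c⁆ := by
  have h1 := h.cl2 a ha c hc b hb
  calc ⁅a, b * c⁆ = ⁅a, b⁆ * (b * ⁅a, c⁆) * b⁻¹ := by simp only [commutatorElement_def]; group
    _ = ⁅a, b⁆ * ⁅a, c⁆ := by rw [h1]; group

theorem JD.WP (hD : JD P M D) : WD D ≤ P := (WD_le D).trans hD.1.2.1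

theorem JD.sq_mem (h : JH P M) (hD : JD P M D) {t : G} (ht : t ∈ (P : Subgroup G)) :
    t * t ∈ D := by
  refine hD.mem_of_omega h (mul_mem ht ht) fun w hw hw2 => ?_
  rw [← commutatorElement_eq_one_iff_mul_comm, h.comm_mul_left ht ht (hD.WP hw),
    ← h.comm_mul_right ht (hD.WP hw) (hD.WP hw), hw2]
  simp

theorem JD.elem (h : JH P M) (hD : JD P M D) {w : G} (hw : w ∈ WD D) : w * w = 1 := by
  haveI := hD.WD_comm h
  obtain ⟨t, ht, htD⟩ := hD.exists_not_mem h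
  have hV := (norm_le_norm_WD D).trans (H1.normalizer_le_normalizer_powKer (WD D) 2)
  have htL := h.le_norm hD.1.1 hD.1.2.1 ht
  have h1 := hD.cm h (norm_le_norm_WD D) hV hD.WP (hD.D_le_centMod h le_rfl hV) ht htD
    ⟨hV htL, fun z hz => H1.mem_powKer.2 ⟨mul_mem
      (H1.conj_mem_of_mem_normalizer (norm_le_norm_WD D htL) hz) (inv_mem hz), by
        rw [pow_two, ← h.comm_mul_left ht ht (hD.WP hz), commutatorElement_eq_one_iff_mul_comm]
        exact hD.WD_le_cent h hz _ (hD.sq_mem h ht)⟩⟩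
  rw [← pow_two]
  exact (H1.mem_powKer.1 (WD_le_of_le_centMod hD.pg h1 hw)).2

theorem JD.mul_mem_of_not (h : JH P M) (hD : JD P M D) {s t : G} (hs : s ∈ (P : Subgroup G))
    (hsD : s ∉ D) (ht : t ∈ (P : Subgroup G)) (htD : t ∉ D) : s * t ∈ D := by
  obtain ⟨y, hy, hyM⟩ := SetLike.not_le_iff_exists.1 hD.1.2.2
  have hPL := h.le_norm hD.1.1 hD.1.2.1
  haveI : (D.subgroupOf (𝒩 D)).Normal := normal_in_normalizer
  let f := QuotientGroup.mk' (D.subgroupOf (𝒩 D))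
  have hf : ∀ a : 𝒩 D, f a = 1 ↔ (a : G) ∈ D := fun a => QuotientGroup.eq_one_iff a
  let t' : 𝒩 D := ⟨t, hPL ht⟩
  let s' : 𝒩 D := ⟨s, hPL hs⟩
  let y' : 𝒩 D := ⟨y, hy⟩
  have e1 : f t' * f t' = 1 := by rw [← map_mul, hf]; exact hD.sq_mem h ht
  have e2 : f s' * f s' = 1 := by rw [← map_mul, hf]; exact hD.sq_mem h hs
  have e3 : f (y' * s' * y'⁻¹) * f (y' * s' * y'⁻¹) = 1 := by
    simp only [map_mul, map_inv]
    calc _ = f y' * (f s' * f s') * (f y')⁻¹ := by group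
      _ = 1 := by rw [e2]; group
  have hnorm : ∀ (v x : 𝒩 D), Commute (f v) (f x) → (v : G) ∈ 𝒩 (D ⊔ zpowers (x : G)) := by
    intro v x hc
    have h1 : ⁅(v : G), (x : G)⁆ ∈ D := by
      have := (hf ⁅v, x⁆).1 (by rw [map_commutatorElement]; exact hc.commutator_eq)
      exact this
    rw [H1.mem_normalizer_iff_smul]
    refine eq_of_le_of_card_ge ?_ (H1.card_conj_smul _ _).ge
    rw [smul_sup, H1.mem_normalizer_iff_smul.1 v.2]
    refine sup_le le_sup_left ?_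
    rw [H1.conj_smul_eq_map, MonoidHom.map_zpowers, zpowers_le]
    change (v : G) * x * (v : G)⁻¹ ∈ _
    have : (v : G) * x * (v : G)⁻¹ = ⁅(v : G), (x : G)⁆ * x := by
      simp only [commutatorElement_def]; group
    rw [this]
    exact mul_mem (mem_sup_left h1) (mem_sup_right (mem_zpowers _))
  have hbig : ∀ x ∈ (P : Subgroup G), x ∉ D → 𝒩 (D ⊔ zpowers x) ≤ M := fun x hx hxD =>
    hD.big le_sup_left (sup_le hD.1.2.1 (zpowers_le.2 hx)) (mem_sup_right (mem_zpowers x)) hxD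
  rcases Nat.even_or_odd (orderOf (f t' * f (y' * s' * y'⁻¹))) with he | ho
  · exfalso
    obtain ⟨h1, h2, h3⟩ := H6.exists_central_inv e1 e3 he
    obtain ⟨v, hv⟩ := QuotientGroup.mk'_surjective _
      ((f t' * f (y' * s' * y'⁻¹)) ^ (orderOf (f t' * f (y' * s' * y'⁻¹)) / 2))
    change f v = _ at hv
    rw [← hv] at h1 h2 h3
    have hv2 : (v : G) * v ∈ D := (hf (v * v)).1 (by rw [map_mul]; exact H6.ord2_mul_self h1)
    have hvD : (v : G) ∉ D := fun h4 => H6.ord2_ne_one h1 ((hf v).2 h4)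
    obtain ⟨k, hk⟩ := exists_pow_eq_one_of_mem hD.pg hv2
    have hk' : (v : G) ^ 2 ^ (k + 1) = 1 := by rw [pow_succ', pow_mul, pow_two, hk]
    have hvP := h.mem_of_two (hbig t ht htD (hnorm v t' h2)) hk'
    have h4 : Commute (f (y'⁻¹ * v * y')) (f s') := by
      simp only [map_mul, map_inv] at h3 ⊢
      have := h3.eq
      unfold Commute SemiconjBy
      calc _ = (f y')⁻¹ * (f v * (f y' * f s' * (f y')⁻¹)) * f y' := by group
        _ = _ := by rw [this]; group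
    have h5 := h.mem_of_two (hbig s hs hsD (hnorm _ s' h4)) (k := k + 1) (by
      change (y⁻¹ * v * y) ^ _ = 1
      have : y⁻¹ * v * y = y⁻¹ * v * y⁻¹⁻¹ := by group
      rw [this, conj_pow, hk']; group)
    exact hyM (hD.ti h hy hvP hvD h5)
  · obtain ⟨k, hk⟩ := H6.exists_pow_conj_of_odd e1 e3 ho
    rw [← map_mul, ← map_pow] at hk
    obtain ⟨g, hg⟩ : ∃ g : 𝒩 D, g = y'⁻¹ * (t' * (y' * s' * y'⁻¹)) ^ k := ⟨_, rfl⟩
    have h1 : f (g * t' * g⁻¹ * s') = 1 := by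
      rw [← e2, map_mul _ _ s']
      congr 1
      rw [hg]
      simp only [map_mul, map_inv] at hk ⊢
      calc _ = (f y')⁻¹ * (f ((t' * (y' * s' * y'⁻¹)) ^ k) * f t' *
            (f ((t' * (y' * s' * y'⁻¹)) ^ k))⁻¹) * f y' := by group
        _ = _ := by rw [hk]; group
    have h2 : (g : G) * t * (g : G)⁻¹ * s ∈ D := (hf _).1 h1
    have h3 : (g : G) * t * (g : G)⁻¹ ∈ (P : Subgroup G) := by
      simpa using mul_mem (hD.1.2.1 h2) (inv_mem hs)
    have h4 := hD.ti h (inv_mem g.2) ht htD (by simpa using h3)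
    obtain ⟨u, hu, c, hc, huc⟩ := h.dec _ (by simpa using inv_mem h4 : (g : G) ∈ M)
    have h5 : (g : G) * t * (g : G)⁻¹ = ⁅u, t⁆ * t := by
      rw [← huc, mul_assoc u, ← hc t ht]; simp only [commutatorElement_def]; group
    rw [h5, mul_assoc] at h2
    have h6 : t * s ∈ D := (mul_mem_cancel_left (hD.1.1 (h.comm_mem hu ht))).1 h2
    have h7 := H1.conj_mem_of_mem_normalizer (hPL hs) h6
    simpa [mul_assoc] using h7

end H8
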