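import Cfsg.Agent.H8.Jan
import Cfsg.Agent.H6.CoAct
import Cfsg.Agent.H3.Transfer
import Cfsg.Agent.H3.PComp

/-! A normal 2-complement theorem with operators of odd order. -/

set_option linter.unusedSectionVars false

namespace H8

open Subgroup Cfsg
open scoped Pointwise commutatorElement

universe u

local notation:max "𝒩 " x:max => Subgroup.normalizer (SetLike.coe (x : Subgroup _))
local notation:max "𝒞 " x:max => Subgroup.centralizer (SetLike.coe (x : Subgroup _))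

variable {G : Type u} [Group G] [Finite G] {P : Sylow 2 G} {M D D₁ D₂ D₃ : Subgroup G}

theorem JD.comm_mem_WD {y d : G} (hy : y ∈ oddR D) (hd : d ∈ D) : ⁅y, d⁆ ∈ WD D := by
  rw [WD, commutator_comm]; exact commutator_mem_commutator hy hd

theorem JD.cent_sq (h : JH P M) (hD : JD P M D) {y d : G} (hy : y ∈ oddR D) (hd : d ∈ D) :
    y * (d * d) = d * d * y := by
  have h1 := JD.comm_mem_WD hy hd
  have h2 := hD.WD_le_cent h h1 d hd
  have h3 := hD.elem h h1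
  calc y * (d * d) = ⁅y, d⁆ * (d * ⁅y, d⁆) * d * y := by simp only [commutatorElement_def]; group
    _ = (⁅y, d⁆ * ⁅y, d⁆) * (d * d * y) := by rw [h2]; group
    _ = d * d * y := by rw [h3, one_mul]

theorem JD.cent_comm (h : JH P M) (hD : JD P M D) {y d e : G} (hy : y ∈ oddR D) (hd : d ∈ D)
    (he : e ∈ D) : y * ⁅d, e⁆ = ⁅d, e⁆ * y := by
  have h1 := JD.comm_mem_WD hy hd
  have h2 := JD.comm_mem_WD hy he
  have c1 : ∀ a ∈ WD D, ∀ x ∈ D, ⁅a, x⁆ = 1 := fun a ha x hx =>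
    commutatorElement_eq_one_iff_mul_comm.2 (hD.WD_le_cent h ha x hx).symm
  have c2 : ∀ a ∈ WD D, ∀ x ∈ D, ⁅x, a⁆ = 1 := fun a ha x hx =>
    commutatorElement_eq_one_iff_mul_comm.2 (hD.WD_le_cent h ha x hx)
  have hP := hD.1.2.1
  calc y * ⁅d, e⁆ = ⁅⁅y, d⁆ * d, ⁅y, e⁆ * e⁆ * y := by simp only [commutatorElement_def]; group
    _ = ⁅d, e⁆ * y := by
      rw [h.comm_mul_left (hD.WP h1) (hP hd) (mul_mem (hD.WP h2) (hP he)),
        c1 _ h1 _ (mul_mem (WD_le D h2) he), one_mul,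
        h.comm_mul_right (hP hd) (hD.WP h2) (hP he), c2 _ h2 _ hd, one_mul]

theorem JD.not_cent (h : JH P M) (hD : JD P M D) {z : G} (hz : z ∈ 𝒞 (P : Subgroup G))
    (h1 : ∀ g ∈ (P : Subgroup G), ∀ w ∈ WD D, ⁅g, w⁆ ∈ zpowers z)
    (h2 : ∀ y ∈ oddR D, y * z = z * y) : False := by
  obtain ⟨t, ht, htD⟩ := hD.exists_not_mem h
  have hV : 𝒩 D ≤ 𝒩 (zpowers z) := by
    refine (norm_le_oddR_sup (hD.syl h)).trans (le_trans ?_ (centralizer_le_normalizer _))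
    rw [zpowers_eq_closure, centralizer_closure]
    exact sup_le (fun y hy => mem_centralizer_singleton_iff.2 (h2 y hy))
      fun y hy => mem_centralizer_singleton_iff.2 (hz y hy)
  have h3 := hD.cm h (norm_le_norm_WD D) hV hD.WP (hD.D_le_centMod h le_rfl hV) ht htD
    ⟨hV (h.le_norm hD.1.1 hD.1.2.1 ht), h1 t ht⟩
  have h4 := (WD_le_of_le_centMod hD.pg h3).trans (zpowers_le.2 hz)
  exact htD (hD.mem_of_omega h ht fun w hw _ => h4 hw t ht)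

theorem JD.symm (h : JH P M) (h₁ : JD P M D₁) (h₂ : JD P M D₂) (h12 : WD D₂ ≤ D₁) :
    WD D₁ ≤ D₂ := fun s hs =>
  h₂.mem_of_omega h (h₁.WP hs) fun w hw _ => (h₁.WD_le_cent h hs w (h12 hw)).symm

theorem JD.exists_mul (h : JH P M) (hD : JD P M D) {s t : G} (hs : s ∈ (P : Subgroup G))
    (hsD : s ∉ D) (ht : t ∈ (P : Subgroup G)) (htD : t ∉ D) : ∃ d ∈ D, s = d * t :=
  ⟨s * t⁻¹, hD.mul_mem_of_not h hs hsD (inv_mem ht) (fun h1 => htD (inv_mem_iff.1 h1)), by group⟩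

theorem JD.central (h : JH P M) (h₁ : JD P M D₁) (h₂ : JD P M D₂) (h12 : ¬ WD D₂ ≤ D₁) {w : G}
    (hw : w ∈ WD D₁) (hw2 : w ∈ D₂) : w ∈ 𝒞 (P : Subgroup G) := by
  obtain ⟨t, ht, htD⟩ := SetLike.not_le_iff_exists.1 h12
  intro g hg
  by_cases hgD : g ∈ D₁
  · exact h₁.WD_le_cent h hw g hgD
  · obtain ⟨d, hd, rfl⟩ := h₁.exists_mul h hg hgD (h₂.WP ht) htD
    rw [mul_assoc, ← h₂.WD_le_cent h ht w hw2, ← mul_assoc, h₁.WD_le_cent h hw d hd, mul_assoc]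

theorem JD.comm_eq (h : JH P M) (h₁ : JD P M D₁) (h₂ : JD P M D₂) (h12 : ¬ WD D₂ ≤ D₁)
    {w w' g g' : G} (hw : w ∈ WD D₁) (hw2 : w ∉ D₂) (hw' : w' ∈ WD D₁) (hw2' : w' ∉ D₂)
    (hg : g ∈ (P : Subgroup G)) (hg1 : g ∉ D₁) (hg' : g' ∈ (P : Subgroup G)) (hg1' : g' ∉ D₁) :
    ⁅g, w⁆ = ⁅g', w'⁆ := by
  obtain ⟨d, hd, rfl⟩ := h₁.exists_mul h hg hg1 hg' hg1'
  obtain ⟨e, he, rfl⟩ := h₂.exists_mul h (h₁.WP hw) hw2 (h₁.WP hw') hw2'
  have heW : e ∈ WD D₁ := (mul_mem_cancel_right hw').1 hw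
  rw [h.comm_mul_left (h₁.1.2.1 hd) hg' (h₁.WP hw),
    commutatorElement_eq_one_iff_mul_comm.2 (h₁.WD_le_cent h hw d hd), one_mul,
    h.comm_mul_right hg' (h₁.WP heW) (h₁.WP hw'),
    commutatorElement_eq_one_iff_mul_comm.2 (h₁.central h h₂ h12 heW he g' hg'), one_mul]

theorem JD.edge (h : JH P M) (h₁ : JD P M D₁) (h₂ : JD P M D₂) (h12 : ¬ WD D₂ ≤ D₁)
    {w g : G} (hw : w ∈ WD D₁) (hw2 : w ∉ D₂) (hg : g ∈ (P : Subgroup G)) (hg1 : g ∉ D₁)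
    (hc : ∀ y ∈ oddR D₁, y * ⁅g, w⁆ = ⁅g, w⁆ * y) : False := by
  refine h₁.not_cent h (h.cl2 g hg w (h₁.WP hw)) (fun g' hg' w' hw' => ?_) hc
  by_cases h1 : g' ∈ D₁
  · rw [commutatorElement_eq_one_iff_mul_comm.2 (h₁.WD_le_cent h hw' g' h1)]; exact one_mem _
  by_cases h2 : w' ∈ D₂
  · rw [commutatorElement_eq_one_iff_mul_comm.2 (h₁.central h h₂ h12 hw' h2 g' hg')]
    exact one_mem _
  rw [h₁.comm_eq h h₂ h12 hw' h2 hw hw2 hg' h1 hg hg1]
  exact mem_zpowers _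

theorem JD.uniq (h : JH P M) (h₁ : JD P M D₁) (h₂ : JD P M D₂) (h₃ : JD P M D₃)
    (h12 : ¬ WD D₂ ≤ D₁) (h13 : ¬ WD D₃ ≤ D₁) : D₂ = D₃ := by
  have h21 : ¬ WD D₁ ≤ D₂ := fun h1 => h12 (h₂.symm h h₁ h1)
  have h31 : ¬ WD D₁ ≤ D₃ := fun h1 => h13 (h₃.symm h h₁ h1)
  obtain ⟨s, hs, hs2⟩ := SetLike.not_le_iff_exists.1 h21
  obtain ⟨t₂, ht₂, ht₂1⟩ := SetLike.not_le_iff_exists.1 h12
  obtain ⟨t₃, ht₃, ht₃1⟩ := SetLike.not_le_iff_exists.1 h13
  have hs3 : s ∉ D₃ := fun h1 =>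
    hs2 (h₂.1.1 (mem_inf.2 ⟨h₁.WP hs, h₁.central h h₃ h13 hs h1⟩))
  have e1 : ⁅t₂, s⁆ = ⁅t₃, s⁆ :=
    h₁.comm_eq h h₂ h12 hs hs2 hs hs2 (h₂.WP ht₂) ht₂1 (h₃.WP ht₃) ht₃1
  have e2 : ⁅s, t₂⁆ = ⁅s, t₃⁆ := by rw [← commutatorElement_inv, e1, commutatorElement_inv]
  by_contra hne
  by_cases h23 : t₃ ∈ D₂
  · have : ¬ D₂ ≤ D₃ := fun h1 => hne (eq_of_le_of_card_ge h1 (h₂.2 _ h₃.1))
    obtain ⟨g, hg2, hg3⟩ := SetLike.not_le_iff_exists.1 this
    refine h₂.edge h h₁ h21 ht₂ ht₂1 (h₁.WP hs) hs2 fun y hy => ?_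
    rw [e2, ← h₃.comm_eq h h₁ h31 ht₃ ht₃1 ht₃ ht₃1 (h₂.1.2.1 hg2) hg3 (h₁.WP hs) hs3]
    exact h₂.cent_comm h hy hg2 h23
  · refine h₁.edge h h₂ h12 hs hs2 (h₂.WP ht₂) ht₂1 fun y hy => ?_
    have e3 := h₂.comm_eq h h₁ h21 ht₂ ht₂1 ht₂ ht₂1 (h₃.WP ht₃) h23 (h₁.WP hs) hs2
    have e4 : ⁅t₂, s⁆ = (t₂ * t₃) * (t₂ * t₃) := by
      rw [← commutatorElement_inv, ← e3, commutatorElement_inv, commutatorElement_def,
        inv_eq_of_mul_eq_one_right (h₂.elem h ht₂), inv_eq_of_mul_eq_one_right (h₃.elem h ht₃)]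
      group
    rw [e4]
    exact h₁.cent_sq h hy (h₁.mul_mem_of_not h (h₂.WP ht₂) ht₂1 (h₃.WP ht₃) ht₃1)

variable {A : Type*} [Group A] {φ : A →* MulAut G}

theorem JD.map (hP : H6.AInv φ (P : Subgroup G)) (hM : H6.AInv φ M) (hD : JD P M D) (a : A) :
    JD P M (D.map (φ a).toMonoidHom) := by
  refine ⟨⟨?_, ?_, fun h1 => hD.1.2.2 fun g hg => ?_⟩, fun E hE => ?_⟩
  · rw [← (hP.inf hP.centralizer).map_eq a]; exact map_mono hD.1.1
  · rw [← hP.map_eq a]; exact map_mono hD.1.2.1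
  · rw [← map_equiv_normalizer_eq] at h1
    exact (hM.mem_iff a).1 (h1 (mem_map_of_mem _ hg))
  · rw [card_map_of_injective (φ a).injective]; exact hD.2 E hE

theorem map_map_aut (D : Subgroup G) (a b : A) :
    (D.map (φ b).toMonoidHom).map (φ a).toMonoidHom = D.map (φ (a * b)).toMonoidHom := by
  rw [map_map, map_mul]; rfl

theorem JH.not_JF [Finite A] (h : JH P M) (hA : Odd (Nat.card A))
    (hP : H6.AInv φ (P : Subgroup G)) (hM : H6.AInv φ M)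
    (hX : ∀ X : Subgroup G, X ≤ P → X ≠ ⊥ → H6.AInv φ X → (P : Subgroup G) ≤ 𝒩 X → 𝒩 X ≤ M)
    (E : Subgroup G) : ¬ JF P M E := by
  intro hE
  obtain ⟨D, hD1, hD2⟩ := Set.Finite.exists_maximalFor (fun D : Subgroup G => Nat.card D)
    {D | JF P M D} (Set.toFinite _) ⟨E, hE⟩
  have hD : JD P M D := ⟨hD1, fun E hE => by
    by_contra h1
    exact h1 (hD2 hE (le_of_not_ge h1))⟩
  by_cases hc : ∀ a : A, WD (D.map (φ a).toMonoidHom) ≤ D
  · obtain ⟨X, hX'⟩ : ∃ X, X = ⨆ a : A, WD (D.map (φ a).toMonoidHom) := ⟨_, rfl⟩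
    have hXD : X ≤ D := hX' ▸ iSup_le hc
    have hWX : WD D ≤ X := by
      rw [hX']
      refine le_iSup_of_le 1 ?_
      rw [map_one]
      exact le_of_eq (congrArg WD (Subgroup.map_id D).symm)
    refine hD.not_le h (le_trans (fun y hy => ?_) (hX X (hXD.trans hD.1.2.1)
      (fun h1 => hD.WD_ne_bot h (le_bot_iff.1 (h1 ▸ hWX))) ?_ ?_))
    · refine mem_normalizer_fintype fun x hx => ?_
      have : y * x * y⁻¹ = ⁅y, x⁆ * x := by simp only [commutatorElement_def]; group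
      rw [this]
      exact mul_mem (hWX (JD.comm_mem_WD hy (hXD hx))) hx
    · refine H6.ainv_of_map_le fun b => ?_
      rw [hX', Subgroup.map_iSup]
      refine iSup_le fun a => le_iSup_of_le (b * a) ?_
      rw [← WD_map, map_map_aut]
    · intro u hu
      rw [H1.mem_normalizer_iff_smul, H1.conj_smul_eq_map, hX', Subgroup.map_iSup]
      refine iSup_congr fun a => ?_
      rw [← H1.conj_smul_eq_map, ← H1.mem_normalizer_iff_smul]
      have h1 := hD.map hP hM a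
      exact norm_le_norm_WD _ (h.le_norm h1.1.1 h1.1.2.1 hu)
  · push Not at hc
    obtain ⟨a, ha⟩ := hc
    have h1 := hD.map hP hM a
    have h2 := h1.map hP hM a
    have h3 : ¬ WD ((D.map (φ a).toMonoidHom).map (φ a).toMonoidHom) ≤
        D.map (φ a).toMonoidHom := by
      rw [WD_map, map_le_map_iff_of_injective (φ a).injective]; exact ha
    have h4 := h1.uniq h h2 hD h3 fun h4 => ha (h1.symm h hD h4)
    rw [map_map_aut] at h4
    have h5 : ∀ k : ℕ, D.map (φ ((a * a) ^ k)).toMonoidHom = D := fun k => by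
      induction k with
      | zero => rw [pow_zero, map_one]; exact Subgroup.map_id D
      | succ k ih => rw [pow_succ, ← map_map_aut, h4, ih]
    obtain ⟨m, hm⟩ := H6.exists_sq_pow_of_odd (hA.of_dvd_nat (orderOf_dvd_natCard a))
    have h6 := h5 m
    rw [(Commute.refl a).mul_pow, hm] at h6
    rw [h6] at ha
    exact ha (WD_le D)

theorem JH.npc [Finite A] (h : JH P M) (hA : Odd (Nat.card A))
    (hP : H6.AInv φ (P : Subgroup G)) (hM : H6.AInv φ M)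
    (hX : ∀ X : Subgroup G, X ≤ P → X ≠ ⊥ → H6.AInv φ X → (P : Subgroup G) ≤ 𝒩 X → 𝒩 X ≤ M)
    (hn : HasNormalPComplement 2 M) : HasNormalPComplement 2 G := by
  have hW : IsWeaklyClosed ((P : Subgroup G) ⊓ 𝒞 (P : Subgroup G)) P := by
    refine ⟨inf_le_left, fun g hg => ?_⟩
    have h1 : ∀ z ∈ (P : Subgroup G) ⊓ 𝒞 (P : Subgroup G), g * z * g⁻¹ ∈ (P : Subgroup G) :=
      fun z hz => hg (H6.conj_mem_map_conj.2 hz)
    have h2 : g ∈ M := by
      refine h.mem_of_conj h1 ?_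
      by_contra h2
      refine h.not_JF hA hP hM hX _ ⟨le_inf inf_le_left fun z hz => ?_, inf_le_left, h2⟩
      obtain ⟨k, hk⟩ := exists_pow_eq_one_of_mem P.isPGroup' (mem_inf.1 hz).1
      refine H1.mem_conj_smul_iff.2 (h.mem_of_two (h.nZ (centralizer_le_normalizer _
        fun x hx => ?_)) (k := k) ?_)
      · have := (mem_inf.1 hz).2 _ (h1 x hx)
        calc x * (g⁻¹ * z * g) = g⁻¹ * (g * x * g⁻¹ * z) * g := by group
          _ = _ := by rw [this]; group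
      · have : g⁻¹ * z * g = g⁻¹ * z * g⁻¹⁻¹ := by group
        rw [this, conj_pow, hk]; group
    rw [H6.map_conj_eq_iff]
    rw [← h.nP] at h2
    exact H1.le_normalizer_inf le_rfl (H1.normalizer_le_normalizer_centralizer _) h2
  refine H3.hasNormalPComplement_of_fusion_subgroup P h.le (fun x hx g hg => ?_) hn
  obtain ⟨v, hv, e⟩ := H3.fusion_of_weaklyClosed_central P inf_le_right hW x hx g hg
  exact ⟨v, h.nZ hv, e⟩

end H8
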