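import Cfsg.Agent.H8.Rng
import Cfsg.Agent.H2.A7
import Cfsg.Agent.H25.O7920
import Cfsg.Agent.H1.SylNum
import Cfsg.Agent.H17.Deg
import Cfsg.Agent.H4.SL2Deg
import Cfsg.Agent.S0496
import Cfsg.Agent.S0983

set_option autoImplicit false
open H17 H19 Cfsg Subgroup
open H20 (cent nrm)

namespace H8M6

variable {G : Type*} [Group G] [Finite G]

theorem no3360 [IsSimpleGroup G] : Nat.card G ≠ 3360 := fun h => by
  have hG : ¬ IsMulCommutative G := H2.sm_noncomm_of_card (by rw [h]; norm_num)
  have : Fact (Nat.Prime 3) := ⟨by norm_num⟩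
  have : Fact (Nat.Prime 5) := ⟨by norm_num⟩
  obtain ⟨P⟩ : Nonempty (Sylow 3 G) := inferInstance
  have hP := H2.sm_sylow_prime (by rw [h]; norm_num) (by rw [h]; norm_num) P
  obtain ⟨v, hv, h1⟩ := H2.filt_par hG (by omega) (by norm_num) P hP
  rw [h, show H2.Filt.par 3360 3 = [(28, 2, 20)] by decide +kernel] at h1
  simp only [List.mem_singleton, Prod.mk.injEq] at h1
  obtain ⟨⟨y, hy⟩, oy⟩ := exists_prime_orderOf_dvd_card' (G := cent (P : Subgroup G)) 5
    (by rw [hv, h1.2.2]; norm_num)
  rw [Subgroup.orderOf_mk] at oy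
  obtain ⟨R, hR⟩ := (IsPGroup.of_card (p := 5) (n := 1) (G := zpowers y)
    (by rw [Nat.card_zpowers, oy]; rfl)).exists_le_sylow
  have hR5 := H2.sm_sylow_prime (by rw [h]; norm_num) (by rw [h]; norm_num) R
  obtain ⟨w, hw, h2⟩ := H2.filt_par hG (by omega) (by norm_num) R hR5
  rw [h, show H2.Filt.par 3360 5 = [(336, 2, 1)] by decide +kernel] at h2
  simp only [List.mem_singleton, Prod.mk.injEq] at h2
  have e : zpowers y = R := eq_of_le_of_card_ge hR (by rw [hR5, Nat.card_zpowers, oy])
  have : (P : Subgroup G) ≤ cent (R : Subgroup G) := by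
    rw [← e]
    exact le_centralizer_iff.1 (zpowers_le.2 hy)
  have := card_dvd_of_le this
  rw [hP, hw, h2.2.2] at this
  omega

theorem orders0 [IsSimpleGroup G] (hG : ¬IsMulCommutative G) (h : Nat.card G < 6000)
    (h36 : Nat.card G ≠ 3600) :
    Nat.card G ∈ [60, 168, 360, 504, 660, 1092, 2448, 2520, 3420, 4080, 5616] := by
  have h0 := no3360 (G := G)
  simp only [List.mem_cons, List.not_mem_nil, or_false]
  rcases le_or_gt (Nat.card G) 1092 with h1 | h1
  · have := Cfsg.Agent.S0496.result hG h1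
    omega
  rcases le_or_gt (Nat.card G) 3640 with h2 | h2
  · have := H8.rng hG h1 h2
    omega
  · have := Cfsg.Agent.S0983.result hG h2 (by omega)
    omega

theorem mem_of_d1 {p : ℕ} [hp : Fact p.Prime] (h2 : p ≠ 2) (P : Sylow p G)
    (hP : Nat.card (P : Subgroup G) = p) (hC : cent (P : Subgroup G) ≤ P) {e : ℕ}
    (he : (cent (P : Subgroup G)).relIndex (nrm (P : Subgroup G)) = e)
    (hk : e + (p - 1) / e < Nat.card (ConjClasses G)) : p ∈ degreePrimes G := by
  classical
  obtain ⟨O, _, hO⟩ := H2.exists_ovp p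
  obtain ⟨X, Y, s, ε, D⟩ := H2.d1_exists hO h2 P hP
  rw [he] at D
  by_contra hn
  have hall : ∀ χ : IrrCharacter G, χ ∈ irr (B0 O G) := fun χ => by
    by_contra h2
    haveI := Fintype.ofFinite (P : Subgroup G)
    obtain ⟨m, hm⟩ := H2.ch_sum_sub χ.2.isCharacter (P : Subgroup G)
    rw [H2.ch_sum_const (fun x : (P : Subgroup G) => (χ : G → ℂ) x) 0 fun x hx => D.zero_of_not_mem hC h2
      (D.sing x.2 fun e => hx (Subtype.ext e)), D.card, mul_zero, add_zero, OneMemClass.coe_one,
      ← cast_deg] at hm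
    exact hn ⟨hp.out, _, ⟨χ, rfl⟩, m, by exact_mod_cast hm⟩
  have := D.sum_all (fun _ => 1)
  rw [Finset.filter_eq_empty_iff.2 fun χ _ h => h (hall χ)] at this
  simp only [Finset.sum_const, smul_eq_mul, mul_one, Finset.card_univ, Finset.sum_empty,
    D.cardY', Finset.card_empty, Finset.card_singleton] at this
  have h3 := D.cardX
  rw [← card_irr, Nat.card_eq_fintype_card] at hk
  omega

theorem a7v [IsSimpleGroup G] (h : Nat.card G = 2520) :
    5 ∈ degreePrimes G ∧ 7 ∈ degreePrimes G := by
  have : Fact (Nat.Prime 2) := ⟨by norm_num⟩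
  have : Fact (Nat.Prime 3) := ⟨by norm_num⟩
  have : Fact (Nat.Prime 5) := ⟨by norm_num⟩
  have : Fact (Nat.Prime 7) := ⟨by norm_num⟩
  obtain ⟨-, f, -, -, -, hf, -⟩ := H2.a7_local h
  obtain ⟨a, ha⟩ := exists_prime_orderOf_dvd_card' (G := G) 2 (by rw [h]; norm_num)
  obtain ⟨b, hb⟩ := exists_prime_orderOf_dvd_card' (G := G) 3 (by rw [h]; norm_num)
  obtain ⟨c, hc⟩ := exists_prime_orderOf_dvd_card' (G := G) 5 (by rw [h]; norm_num)
  obtain ⟨d, hd⟩ := exists_prime_orderOf_dvd_card' (G := G) 7 (by rw [h]; norm_num)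
  have hk : 6 ≤ Nat.card (ConjClasses G) := by
    let g : Fin 6 → G := ![1, a, b, f, c, d]
    have hg : ∀ i, orderOf (g i) = ![1, 2, 3, 4, 5, 7] i := fun i => by
      fin_cases i <;> simp [g, *]
    have : Function.Injective fun i => ConjClasses.mk (g i) := fun i j hij => by
      have := H2.sm_ord_isConj (ConjClasses.mk_eq_mk_iff_isConj.1 hij)
      rw [hg, hg] at this
      clear hij
      revert this i j
      decide
    simpa using Nat.card_le_card_of_injective _ this
  obtain ⟨P⟩ : Nonempty (Sylow 5 G) := inferInstance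
  obtain ⟨Q⟩ : Nonempty (Sylow 7 G) := inferInstance
  obtain ⟨p1, p2, p3⟩ := H2.a7_five h P
  obtain ⟨q1, q2, q3⟩ := H2.a7_seven h Q
  exact ⟨mem_of_d1 (by norm_num) P p1 p2 p3 (by omega), mem_of_d1 (by norm_num) Q q1 q2 q3 (by omega)⟩

theorem syl_normal_of {p : ℕ} [hp : Fact p.Prime] (D : Subgroup G)
    (hD : ∀ n, n ∣ Nat.card D → n ≡ 1 [MOD p] → n = 1) (hi : ¬ p ∣ D.index)
    (hX : ∀ n, n ∣ D.index → n ≡ 1 [MOD p] → n = 1) :
    ∃ P : Sylow p G, (P : Subgroup G).Normal := by
  obtain ⟨P⟩ : Nonempty (Sylow p D) := inferInstance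
  have hn : (P : Subgroup D).Normal := H2.sm_normal_of_card_sylow P
    (hD _ (P.card_dvd_index.trans (index_dvd_card _)) (card_sylow_modEq_one p D))
  have h1 : ¬ p ∣ ((P : Subgroup D).map D.subtype).index := by
    rw [← relIndex_mul_index (map_subtype_le (P : Subgroup D)), hp.out.dvd_mul, relIndex,
      subgroupOf, comap_map_eq_self_of_injective D.subtype_injective]
    exact not_or.2 ⟨P.not_dvd_index, hi⟩
  let Q : Sylow p G := (P.2.map D.subtype).toSylow h1
  refine ⟨Q, H2.sm_normal_of_card_sylow Q (hX _ ?_ (card_sylow_modEq_one p G))⟩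
  rw [H2.sm_card_sylow Q]
  refine index_dvd_of_le fun g hg => mem_normalizer_fintype ?_
  rintro _ ⟨x, hx, rfl⟩
  exact ⟨_, hn.conj_mem x hx ⟨g, hg⟩, rfl⟩

theorem c2520 (h : Nat.card G = 2520) (K : Subgroup G) [K.Normal] (hp : _root_.commutator K = ⊤)
    [IsSimpleGroup (K ⧸ center K)]
    (hK : Nat.card (K ⧸ center K) = 60 ∨ Nat.card (K ⧸ center K) = 360) :
    7 ∉ degreePrimes G := by
  have : Fact (Nat.Prime 3) := ⟨by norm_num⟩
  have : Fact (Nat.Prime 5) := ⟨by norm_num⟩
  have : Fact (Nat.Prime 7) := ⟨by norm_num⟩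
  have hz : (centralizer (K : Set G)).subgroupOf K = center K := by
    ext x
    simp only [mem_subgroupOf, mem_centralizer_iff, mem_center_iff]
    exact ⟨fun h g => Subtype.ext (h g g.2), fun h g hg => congrArg Subtype.val (h ⟨g, hg⟩)⟩
  have hzi : (center K).index = 60 ∨ (center K).index = 360 := hK
  have hKZ := (center K).card_mul_index
  have hKG : Nat.card K ∣ 2520 := h ▸ card_subgroup_dvd_card K
  have h60 : 60 ∣ (centralizer (K : Set G)).index := by
    refine Dvd.dvd.trans ?_ (relIndex_dvd_index_of_normal _ K)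
    rw [relIndex, hz]
    omega
  have hC := (centralizer (K : Set G)).card_mul_index
  have h42 : Nat.card (centralizer (K : Set G)) ∣ 42 := by
    obtain ⟨m, hm⟩ := h60
    rw [hm, h] at hC
    exact Dvd.intro m (by linarith)
  have h7 : 7 ∣ Nat.card (centralizer (K : Set G)) := by
    by_cases h7 : 7 ∣ Nat.card K
    · have : 7 ∣ Nat.card (center K) := by
        rcases hzi with e | e <;> rw [e] at hKZ <;> omega
      rw [← hz, ← inf_subgroupOf_right,
        Nat.card_congr (subgroupOfEquivOfLe inf_le_right).toEquiv] at this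
      exact this.trans (card_dvd_of_le inf_le_left)
    obtain ⟨Q⟩ : Nonempty (Sylow 7 G) := inferInstance
    have hQ := H2.sm_sylow_prime (by rw [h]; norm_num) (by rw [h]; norm_num) Q
    have cop : (Nat.card K).Coprime 7 :=
      ((Nat.Prime.coprime_iff_not_dvd (by norm_num)).2 h7).symm
    have h360 : Nat.card K ∣ 360 := cop.dvd_of_dvd_mul_left (by simpa using hKG)
    have i1 := H1.relIndex_centralizer_modEq_one (Q := K) Q.2 le_normalizer_of_normal cop
    have i3 := H25.syl_cent (r := 3) (K := K) Q.2 le_normalizer_of_normal cop fun a h1 h2 => by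
      have : a ≤ 2 := by
        by_contra h3
        have := ((pow_dvd_pow 3 (by omega : 3 ≤ a)).trans h1).trans h360
        omega
      interval_cases a <;> simp_all [Nat.ModEq]
    have i5 := H25.syl_cent (r := 5) (K := K) Q.2 le_normalizer_of_normal cop fun a h1 h2 => by
      have : a ≤ 1 := by
        by_contra h3
        have := ((pow_dvd_pow 5 (by omega : 2 ≤ a)).trans h1).trans h360
        omega
      interval_cases a <;> simp_all [Nat.ModEq]
    have hD := ((centralizer ((Q : Subgroup G) : Set G)).subgroupOf K).card_mul_index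
    have i8 : (centralizer ((Q : Subgroup G) : Set G)).relIndex K ∣ 8 := by
      have h1 : (centralizer ((Q : Subgroup G) : Set G)).relIndex K ∣ 8 * (9 * 5) :=
        (Dvd.intro_left _ hD).trans h360
      refine Nat.Coprime.dvd_of_dvd_mul_right (Nat.Coprime.mul_right ?_ ?_) h1
      · exact Nat.Coprime.pow_right 2 ((Nat.Prime.coprime_iff_not_dvd Nat.prime_three).2 i3).symm
      · exact ((Nat.Prime.coprime_iff_not_dvd Nat.prime_five).2 i5).symm
    have i9 : (centralizer ((Q : Subgroup G) : Set G)).relIndex K = 1 ∨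
        (centralizer ((Q : Subgroup G) : Set G)).relIndex K = 8 := by
      have := Nat.le_of_dvd (by norm_num) i8
      change _ % 7 = 1 at i1
      generalize (centralizer ((Q : Subgroup G) : Set G)).relIndex K = n at *
      interval_cases n <;> omega
    rcases i9 with e | e
    · rw [← hQ]
      exact card_dvd_of_le (le_centralizer_iff.1 (relIndex_eq_one.1 e))
    exfalso
    rw [relIndex] at e
    have h45 : Nat.card ((centralizer ((Q : Subgroup G) : Set G)).subgroupOf K) ∣ 45 := by
      rw [← hD, e] at h360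
      exact Nat.dvd_of_mul_dvd_mul_right (k := 8) (by norm_num) h360
    obtain ⟨R, hR⟩ := syl_normal_of (p := 5) ((centralizer ((Q : Subgroup G) : Set G)).subgroupOf K)
      (fun n h1 h2 => by
        have h3 := h1.trans h45
        have := Nat.le_of_dvd (by norm_num) h3
        change _ % 5 = 1 at h2
        interval_cases n <;> omega) (by rw [e]; norm_num) (fun n h1 h2 => by
        rw [e] at h1
        have := Nat.le_of_dvd (by norm_num) h1
        change _ % 5 = 1 at h2
        interval_cases n <;> omega)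
    have h5 : 5 ∣ Nat.card K := by rcases hzi with e | e <;> rw [e] at hKZ <;> omega
    have hR5 := H2.sm_sylow_prime h5 (fun h => by have := h.trans h360; omega) R
    rcases (hR.map (QuotientGroup.mk' (center K))
      (QuotientGroup.mk'_surjective _)).eq_bot_or_eq_top with h1 | h1
    · rw [Subgroup.map_eq_bot_iff, QuotientGroup.ker_mk'] at h1
      have h2 := card_dvd_of_le h1
      rw [hR5] at h2
      obtain ⟨m, hm⟩ := h2
      obtain ⟨k, hk⟩ := h360
      rcases hzi with e | e <;> rw [e, hm] at hKZ <;> rw [← hKZ] at hk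
      · have : 300 ∣ 360 := ⟨m * k, by rw [hk]; ring⟩
        omega
      · have : 1800 ∣ 360 := ⟨m * k, by rw [hk]; ring⟩
        omega
    · have h2 := card_map_dvd (R : Subgroup K) (QuotientGroup.mk' (center K))
      rw [h1, card_top, hR5] at h2
      rcases hK with e | e <;> rw [e] at h2 <;> omega
  obtain ⟨P⟩ : Nonempty (Sylow 7 (centralizer (K : Set G))) := inferInstance
  have hn : (P : Subgroup (centralizer (K : Set G))).Normal := H2.sm_normal_of_card_sylow P (by
    have h1 := (P.card_dvd_index.trans (index_dvd_card _)).trans h42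
    have h2 : _ % 7 = 1 := card_sylow_modEq_one 7 (centralizer (K : Set G))
    have := Nat.le_of_dvd (by norm_num) h1
    generalize Nat.card (Sylow 7 (centralizer (K : Set G))) = n at *
    interval_cases n <;> omega)
  have hA := H2.sm_normal_of_sylow_normal P hn
  have hP := H2.sm_sylow_prime h7 (fun h => by have := h.trans h42; omega) P
  rw [← card_map_of_injective (centralizer (K : Set G)).subtype_injective] at hP
  have hcy := isCyclic_of_prime_card hP
  have hi := ((P : Subgroup (centralizer (K : Set G))).map (Subgroup.subtype _)).card_mul_index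
  rintro ⟨-, _, ⟨χ, rfl⟩, hd⟩
  have := hd.trans (χ.2.degree_dvd_index_of_comm (H4.irr_one_eq χ.2)
    ((P : Subgroup (centralizer (K : Set G))).map (Subgroup.subtype _)) inferInstance)
  rw [hP, h] at hi
  omega

end H8M6
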