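import Cfsg.Agent.H7.Jh

set_option autoImplicit false
open Subgroup Equiv H7J

namespace H8Nv

abbrev E (x y : P) : Prop := x * y⁻¹ = 1 ∨ x * y⁻¹ = k0
def c (w : P) : P := ⟨w.a⁻¹, 1, false⟩

theorem f1 : ∀ w : P, E (w * w) 1 → w.s = true ∨ E w 1 ∨ E w z0 ∨
    (w.s = false ∧ w.a * w.a = -1 ∧ w.b * w.b = -1) := by decide +kernel
theorem f1a : ∀ x : S, x * x = -1 → (∃ a : S, a * x * a⁻¹ = qi⁻¹) ∧ ∃ a : S, a * x * a⁻¹ = qi := by
  decide +kernel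
theorem f2 : ∀ w : P, w.s = true → E (w * w) 1 →
    E (c w * w * (c w)⁻¹) (pt 1) ∨ E (c w * w * (c w)⁻¹) (pt 1 * z0) := by decide +kernel
theorem f3 : ∀ w : P, w.s = true → E (w * w) 1 →
    (E (w * pt 1) (pt 1 * w) ∨ E (w * (pt 1 * z0)) (pt 1 * z0 * w)) →
    ∃ j, j ≠ 0 ∧ (E w (pt j) ∨ E w (pt j * z0)) := by decide +kernel
theorem f4 : ∀ j, j ≠ 0 → E (c (pt j) * pt j * (c (pt j))⁻¹) (pt 1) ∧
    E (c (pt j) * (pt j * z0) * (c (pt j))⁻¹) (pt 1 * z0) := by decide +kernel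
theorem f5 : ∀ i j, E (pt i * pt j) (pt j * pt i) ∧ (E (pt i) (pt j) → i = j) := by decide +kernel
def L : List P := [1, qi, qj, qk].flatMap fun q => [1, qw, qw * qw].map fun r => ⟨q * r, r, false⟩
theorem f6 : ∀ σ : Perm (Fin 5), Perm.sign σ = 1 → σ 0 = 0 →
    (L.any fun p => decide (∀ i, E (p * pt i * p⁻¹) (pt (σ i)))) = true := by decide +kernel
theorem f7 : ∀ x y : Fin 5, x ≠ 0 → y ≠ 0 → ∃ α : Perm (Fin 5), Perm.sign α = 1 ∧ α 0 = 0 ∧ α x = y := by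
  decide +kernel

variable {G : Type*} [Group G] {ψ : P →* G}

theorem eq (h : Hy ψ) {x y : P} : ψ x = ψ y ↔ E x y := by
  rw [E, ← h.ker, map_mul, map_inv, mul_inv_eq_one]

theorem cj (h : Hy ψ) {p x y : P} (e : E (p * x * p⁻¹) y) : ψ p * ψ x * (ψ p)⁻¹ = ψ y := by
  rw [← map_inv, ← map_mul, ← map_mul]; exact (eq h).2 e

theorem cls (h : Hy ψ) (na : ¬ IsConj (ψ z0) (ψ a0)) {x : G} (hx : IsConj (ψ z0) x)
    (hc : x * ψ z0 = ψ z0 * x) (hne : x ≠ ψ z0) : ∃ w, x = ψ w ∧ w.s = true ∧ E (w * w) 1 := by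
  obtain ⟨w, rfl⟩ := (h.cz x).1 hc
  obtain ⟨g, hg⟩ := isConj_iff.1 hx
  have z2 : ψ z0 * ψ z0 = 1 := by rw [← map_mul, h.ker]; decide +kernel
  have w2 : E (w * w) 1 := (eq h).1 (by
    rw [map_mul, map_one, ← hg, conj_mul, z2, mul_one, mul_inv_cancel])
  refine ⟨w, rfl, ?_, w2⟩
  rcases f1 w w2 with e | e | e | ⟨e, ea, eb⟩
  · exact e
  · rw [(eq h).2 e, map_one, conj_eq_one_iff, h.ker] at hg
    exact absurd hg (by decide +kernel)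
  · exact absurd ((eq h).2 e) hne
  · obtain ⟨a, ha⟩ := (f1a _ ea).1
    obtain ⟨b, hb⟩ := (f1a _ eb).2
    obtain ⟨x, y, s⟩ := w
    subst e
    refine absurd (hx.trans (isConj_iff.2 ⟨ψ ⟨a, b, false⟩, ?_⟩)) na
    rw [← map_inv, ← map_mul, ← map_mul]
    congr 1
    change (⟨a * x * a⁻¹, b * y * b⁻¹, false⟩ : P) = a0
    rw [ha, hb]
    decide +kernel

theorem nv (h : Hy ψ) (na : ¬ IsConj (ψ z0) (ψ a0)) (c1 : IsConj (ψ z0) (ψ (pt 1))) : H2 ψ := by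
  obtain ⟨g, hg⟩ := isConj_iff.1 c1
  have cz : ∀ p, ψ p * ψ z0 = ψ z0 * ψ p := fun p => (h.cz _).2 ⟨p, rfl⟩
  have cm : ∀ i j, ψ (pt i) * ψ (pt j) = ψ (pt j) * ψ (pt i) := fun i j => by
    rw [← map_mul, ← map_mul]; exact (eq h).2 (f5 i j).1
  have inj : ∀ i j, ψ (pt i) = ψ (pt j) → i = j := fun i j e => (f5 i j).2 ((eq h).1 e)
  have p0 : ψ (pt 0) = ψ z0 := rfl
  have zc : ∀ j, IsConj (ψ z0) (ψ (pt j)) := fun j => by
    by_cases e : j = 0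
    · rw [e, p0]
    · exact c1.trans (isConj_iff.2 ⟨_, cj h (f4 j e).1⟩).symm
  have key : ∀ m : G, m * ψ (pt 1) * m⁻¹ = ψ z0 → ∀ i, i ≠ 1 →
      ∃ w, m * ψ (pt i) * m⁻¹ = ψ w ∧ w.s = true ∧ E (w * w) 1 := fun m hm i hi =>
    cls h na ((zc i).trans (isConj_iff.2 ⟨m, rfl⟩)) (by rw [← hm, conj_mul, conj_mul, cm])
      fun e => hi (inj _ _ (by rwa [← hm, mul_left_inj, mul_right_inj] at e))
  have g1 : g⁻¹ * ψ (pt 1) * g⁻¹⁻¹ = ψ z0 := by rw [← hg]; group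
  obtain ⟨w0, e0, s0, q0⟩ := key _ g1 0 (by decide)
  obtain ⟨m, m1, m0⟩ : ∃ m : G, m * ψ (pt 1) * m⁻¹ = ψ z0 ∧
      (m * ψ (pt 0) * m⁻¹ = ψ (pt 1) ∨ m * ψ (pt 0) * m⁻¹ = ψ (pt 1 * z0)) := by
    have a : ∀ x, ψ (c w0) * g⁻¹ * x * (ψ (c w0) * g⁻¹)⁻¹ = ψ (c w0) * (g⁻¹ * x * g⁻¹⁻¹) * (ψ (c w0))⁻¹ :=
      fun x => by group
    refine ⟨ψ (c w0) * g⁻¹, ?_, ?_⟩
    · rw [a, g1, cz, mul_inv_cancel_right]
    · rw [a, e0]
      exact (f2 w0 s0 q0).imp (cj h) (cj h)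
  have im : ∀ i, i ≠ 1 → ∃ j, j ≠ 0 ∧ (m * ψ (pt i) * m⁻¹ = ψ (pt j) ∨
      m * ψ (pt i) * m⁻¹ = ψ (pt j * z0)) := fun i hi => by
    obtain ⟨w, e, s, q⟩ := key m m1 i hi
    have : ψ w * (m * ψ (pt 0) * m⁻¹) = m * ψ (pt 0) * m⁻¹ * ψ w := by
      rw [← e, conj_mul, conj_mul, cm]
    obtain ⟨j, j0, hj⟩ := f3 w s q (m0.imp
      (fun t => (eq h).1 (by rw [map_mul, map_mul, ← t, this]))
      (fun t => (eq h).1 (by rw [map_mul ψ w, map_mul ψ _ w, ← t, this])))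
    exact ⟨j, j0, hj.imp (fun t => e.trans ((eq h).2 t)) (fun t => e.trans ((eq h).2 t))⟩
  have z2 : ψ z0 * ψ z0 = 1 := by rw [← map_mul, h.ker]; decide +kernel
  have bc : ∀ j, j ≠ 0 → IsConj (ψ (pt j * z0)) (ψ (pt 1 * z0)) := fun j e =>
    isConj_iff.2 ⟨_, cj h (f4 j e).2⟩
  have nb : ¬ IsConj (ψ z0) (ψ (pt 1 * z0)) := fun b => na (by
    obtain ⟨j, j0, hj⟩ := im 2 (by decide)
    have a : m * ψ a0 * m⁻¹ = ψ z0 * (m * ψ (pt 2) * m⁻¹) := by rw [a0, map_mul, ← conj_mul, m1]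
    refine IsConj.trans ?_ (isConj_iff.2 ⟨m, rfl⟩).symm
    rcases hj with t | t
    · rw [a, t, ← cz, ← map_mul]
      exact b.trans (bc j j0).symm
    · rw [a, t, map_mul, cz, ← mul_assoc, z2, one_mul]
      exact zc j)
  have im2 : ∀ i, ∃ j, m * ψ (pt i) * m⁻¹ = ψ (pt j) := fun i => by
    by_cases hi : i = 1
    · exact ⟨0, hi ▸ m1⟩
    obtain ⟨j, j0, t | t⟩ := im i hi
    · exact ⟨j, t⟩
    · exact absurd (((zc i).trans (isConj_iff.2 ⟨m, t⟩)).trans (bc j j0)) nb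
  choose τ hτ using im2
  have τi : Function.Injective τ := fun i j e => inj _ _ (by
    have := (hτ i).trans (e ▸ (hτ j).symm)
    rwa [mul_left_inj, mul_right_inj] at this)
  let Sg : Subgroup (Perm (Fin 5)) :=
    { carrier := {σ | ∃ n : G, ∀ i, n * ψ (pt i) * n⁻¹ = ψ (pt (σ i))}
      one_mem' := ⟨1, fun i => by simp⟩
      mul_mem' := by
        rintro a b ⟨n, hn⟩ ⟨k, hk⟩
        exact ⟨n * k, fun i => by rw [Perm.mul_apply, ← hn, ← hk]; group⟩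
      inv_mem' := by
        rintro a ⟨n, hn⟩
        refine ⟨n⁻¹, fun i => ?_⟩
        have := hn (a⁻¹ i)
        rw [show a (a⁻¹ i) = i from a.apply_symm_apply i] at this
        rw [← this]; group }
  have a4 : ∀ σ : Perm (Fin 5), Perm.sign σ = 1 → σ 0 = 0 → σ ∈ Sg := fun σ s e => by
    obtain ⟨p, -, hp⟩ := List.any_eq_true.1 (f6 σ s e)
    exact ⟨ψ p, fun i => cj h (of_decide_eq_true hp i)⟩
  let t : Perm (Fin 5) := Equiv.ofBijective τ (Finite.injective_iff_bijective.1 τi)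
  have tS : t ∈ Sg := ⟨m, hτ⟩
  have t1 : t 1 = 0 := inj _ _ ((hτ 1).symm.trans m1)
  let ρ := t * (swap 1 2 * swap 2 3) * t⁻¹
  have ρS : ρ ∈ Sg := mul_mem (mul_mem tS (a4 _ (by decide) (by decide))) (inv_mem tS)
  have ρs : Perm.sign ρ = 1 := by
    rw [show ρ = t * (swap 1 2 * swap 2 3) * t⁻¹ from rfl, map_mul, map_mul, map_inv,
      show Perm.sign (swap (1 : Fin 5) 2 * swap 2 3) = 1 by decide, mul_one, mul_inv_cancel]
  have ρ0 : ρ 0 ≠ 0 := fun e => by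
    have : t ((swap 1 2 * swap 2 3 : Perm (Fin 5)) (t⁻¹ (t 1))) = t 1 := by rw [t1]; exact e
    rw [show t⁻¹ (t 1) = 1 from t.symm_apply_apply 1] at this
    exact absurd (t.injective this) (by decide)
  refine ⟨h, na, nb, fun σ s => ?_⟩
  change σ ∈ Sg
  by_cases e : σ 0 = 0
  · exact a4 σ s e
  obtain ⟨α, α1, α0, αx⟩ := f7 _ _ ρ0 e
  have := mul_mem (mul_mem (a4 α α1 α0) ρS) (a4 ((α * ρ)⁻¹ * σ)
    (by rw [map_mul, map_inv, map_mul, α1, ρs, s]; rfl)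
    (by rw [Perm.mul_apply, ← αx, ← Perm.mul_apply α]; exact (α * ρ).symm_apply_apply 0))
  rwa [mul_inv_cancel_left] at this

end H8Nv
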