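import Cfsg.Agent.H8.Idx
import Cfsg.Agent.H1.PSolv
import Cfsg.Agent.H6.Simp2

/-! `π`-closed groups and `π'`-homogeneity. -/

set_option autoImplicit false
set_option linter.unusedSectionVars false

namespace H8
open Subgroup Cfsg H1

variable {G : Type*} [Group G] [Finite G] {π : Set ℕ}

theorem eq_one_of_pi {Y : Type*} [Group Y] {y : Y} (h1 : IsPiNat π (orderOf y))
    (h2 : IsPiNat πᶜ (orderOf y)) : y = 1 :=
  orderOf_eq_one_iff.1 ((Nat.coprime_self _).1 (h1.coprime h2))

theorem piClosed_iff : (∃ K : Subgroup G, ∀ x : G, x ∈ K ↔ IsPiNat π (orderOf x)) ↔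
    ∀ x : G, IsPiNat π (orderOf x) → x ∈ piCore π G := by
  refine ⟨fun ⟨K, hK⟩ x hx => ?_, fun h => ⟨piCore π G, fun x => ⟨fun hx =>
    (isPiNat_card_piCore π).of_dvd (orderOf_dvd_natCard _ hx), h x⟩⟩⟩
  haveI : K.Normal := ⟨fun a ha g => (hK _).2 (by
    rw [← MulAut.conj_apply, MulEquiv.orderOf_eq]; exact (hK a).1 ha)⟩
  refine le_piCore (N := K) (fun p hp hd => ?_) ((hK x).2 hx)
  haveI := Fact.mk hp
  obtain ⟨y, hy⟩ := exists_prime_orderOf_dvd_card' p hd
  exact (hK y).1 y.2 p hp (by rw [orderOf_coe, hy])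

theorem isPiNat_quot (h : ∀ x : G, IsPiNat π (orderOf x) → x ∈ piCore π G) :
    IsPiNat πᶜ (Nat.card (G ⧸ piCore π G)) := fun p hp hd hπ => by
  haveI := Fact.mk hp
  obtain ⟨y, hy⟩ := exists_prime_orderOf_dvd_card' p hd
  obtain ⟨x, rfl, hx⟩ := exists_lift_coprime _ (QuotientGroup.mk'_surjective _) y
  have h1 := h x fun q hq hq' => by
    rwa [(Nat.prime_dvd_prime_iff_eq hq hp).1 (hy ▸ hx q hq hq')]
  rw [show QuotientGroup.mk' _ x = 1 from (QuotientGroup.eq_one_iff x).2 h1, orderOf_one] at hy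
  exact hp.one_lt.ne hy

theorem piSep_of_closed (h : ∃ K : Subgroup G, ∀ x : G, x ∈ K ↔ IsPiNat π (orderOf x)) :
    PiSep π G :=
  PiSep.of_normal_quotient (piCore π G) (piSep_of_isPiNat (isPiNat_card_piCore π))
    (piSep_of_isPiNat_compl (isPiNat_quot (piClosed_iff.1 h)))

theorem hom_of_closed (h : ∃ K : Subgroup G, ∀ x : G, x ∈ K ↔ IsPiNat π (orderOf x))
    (H : Subgroup G) (hH : IsPiNat πᶜ (Nat.card H)) :
    IsPiNat πᶜ ((centralizer (H : Set G)).relIndex (normalizer (H : Set G))) := by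
  intro p hp hd hπ
  haveI := Fact.mk hp
  obtain ⟨y, hy⟩ := exists_prime_orderOf_dvd_card' (G := normalizer (H : Set G) ⧸
    (centralizer (H : Set G)).subgroupOf (normalizer (H : Set G))) p hd
  obtain ⟨x, rfl, hx⟩ := exists_lift_coprime _ (QuotientGroup.mk'_surjective _) y
  have h1 := piClosed_iff.1 h x fun q hq hq' => by
    rwa [(Nat.prime_dvd_prime_iff_eq hq hp).1 (hy ▸ hx q hq (by rwa [orderOf_coe] at hq'))]
  have h2 : (x : G) ∈ centralizer (H : Set G) := fun b hb => by
    have e1 : b * x * b⁻¹ * (x : G)⁻¹ ∈ piCore π G :=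
      mul_mem ((inferInstance : (piCore π G).Normal).conj_mem _ h1 b) (inv_mem h1)
    have e2 : b * x * b⁻¹ * (x : G)⁻¹ ∈ H := by
      simpa [mul_assoc] using H.mul_mem hb ((mem_normalizer_iff.1 x.2 _).1 (H.inv_mem hb))
    have := eq_one_of_pi ((isPiNat_card_piCore π).of_dvd (orderOf_dvd_natCard _ e1))
      (hH.of_dvd (orderOf_dvd_natCard _ e2))
    rwa [mul_inv_eq_one, mul_inv_eq_iff_eq_mul] at this
  rw [show QuotientGroup.mk' _ x = 1 from (QuotientGroup.eq_one_iff x).2 h2, orderOf_one] at hy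
  exact hp.one_lt.ne hy

theorem closed_of_hom (hs : PiSep π G) (h : ∀ H : Subgroup G, H ≠ ⊥ → IsPiNat πᶜ (Nat.card H) →
    IsPiNat πᶜ ((centralizer (H : Set G)).relIndex (normalizer (H : Set G)))) :
    ∃ K : Subgroup G, ∀ x : G, x ∈ K ↔ IsPiNat π (orderOf x) := by
  refine piClosed_iff.2 fun g hg => ?_
  set K := piCore π G with hK
  set M := piCore πᶜ (G ⧸ K) with hM
  have hKπ : IsPiNat π (Nat.card K) := isPiNat_card_piCore π
  have hMπ : IsPiNat πᶜ (Nat.card M) := isPiNat_card_piCore πᶜ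
  obtain ⟨H, hH1, hH2⟩ : ∃ H : Subgroup G, H.map (QuotientGroup.mk' K) = M ∧
      IsPiNat πᶜ (Nat.card H) := by
    set L := M.comap (QuotientGroup.mk' K) with hL
    have hKL : K ≤ L := fun x hx => by
      rw [hL, mem_comap, show QuotientGroup.mk' K x = 1 from (QuotientGroup.eq_one_iff x).2 hx]
      exact M.one_mem
    have hi : (K.subgroupOf L).index = Nat.card M := by
      have := relIndex_ker L (QuotientGroup.mk' K)
      rw [QuotientGroup.ker_mk', hL, map_comap_eq_self_of_surjective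
        (QuotientGroup.mk'_surjective K)] at this
      exact this
    obtain ⟨H, hH⟩ := exists_right_complement'_of_coprime (N := K.subgroupOf L) (by
      rw [hi, Nat.card_congr (subgroupOfEquivOfLe hKL).toEquiv]; exact hKπ.coprime hMπ)
    have hc : Nat.card (H.map L.subtype) = Nat.card M := by
      rw [card_map_of_injective L.subtype_injective, ← hi, hH.symm.index_eq_card]
    refine ⟨H.map L.subtype, le_antisymm (map_le_iff_le_comap.2 (map_subtype_le _)) fun m hm => ?_,
      hc ▸ hMπ⟩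
    obtain ⟨x, rfl⟩ := QuotientGroup.mk'_surjective K m
    obtain ⟨⟨a, b⟩, hab, -⟩ := hH.existsUnique (⟨x, hm⟩ : L)
    refine ⟨b.1, mem_map_of_mem _ b.2, ?_⟩
    have e : x = a.1 * b.1 := (congrArg Subtype.val hab).symm
    rw [e, map_mul, show QuotientGroup.mk' K a.1 = 1 from (QuotientGroup.eq_one_iff _).2 a.2, one_mul]
  have hcop := (hKπ.coprime hH2).symm
  have h1 := map_normalizer_mk' K hcop (by
    rcases Nat.even_or_odd (Nat.card H) with e | e
    · exact Or.inr (H6.isSolvable_of_odd_card (Nat.coprime_two_left.1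
        (hcop.coprime_dvd_left e.two_dvd)))
    · exact Or.inl (H6.isSolvable_of_odd_card e))
  rw [hH1, normalizer_eq_top M] at h1
  obtain ⟨x, hx1, hx⟩ := exists_lift_coprime
    ((QuotientGroup.mk' K).comp (normalizer (H : Set G)).subtype) (fun y => by
      obtain ⟨n, hn, rfl⟩ := h1.ge (mem_top y)
      exact ⟨⟨n, hn⟩, rfl⟩) (QuotientGroup.mk' K g)
  have hg' : IsPiNat π (orderOf (QuotientGroup.mk' K g)) := hg.of_dvd (orderOf_map_dvd _ _)
  have h2 : (x : G) ∈ centralizer (H : Set G) := by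
    by_cases hb : H = ⊥
    · subst hb; intro b hb; rw [mem_bot.1 hb]; simp
    have h3 := eq_one_of_pi (π := π) (y := QuotientGroup.mk'
      ((centralizer (H : Set G)).subgroupOf (normalizer (H : Set G))) x)
      (fun q hq hd => hg' q hq (hx q hq (hd.trans (orderOf_map_dvd _ _))))
      ((h H hb hH2).of_dvd (orderOf_dvd_natCard _))
    exact (QuotientGroup.eq_one_iff x).1 h3
  have h3 : QuotientGroup.mk' K g ∈ M := by
    refine (hs.quotient K).compl.centralizer_piCore_le (by
      rw [compl_compl]; exact piCore_quotient_piCore π) fun b hb => ?_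
    rw [← hM, ← hH1] at hb
    obtain ⟨b, hb, rfl⟩ := hb
    rw [← hx1, MonoidHom.comp_apply, ← map_mul, ← map_mul]
    exact congrArg _ (h2 b hb)
  exact (QuotientGroup.eq_one_iff g).1 (eq_one_of_pi hg' (hMπ.of_dvd (orderOf_dvd_natCard _ h3)))

end H8
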