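import Cfsg.Agent.H9.Mz2
import Cfsg.Prelude.Def_SporadicCombinatorics

set_option autoImplicit false
open Cfsg H27 MulAction Matrix
open scoped Pointwise

namespace H8.Quart

noncomputable def P : Nat := 0x4000901020200301000014404024001000c00301000010304001801200200110400024104200801004100110200021404200101100400030800005204004101120000201200010c04000901204000120400011204001201100100230000004c05001000204400100300030804204001001400110100020a04104001010400221000000b05000100204800101200030404011001300000024400000b04011001000600204800120104200401010800101200024105200000111000020600004904005001200400110200020904014001001100200600120804101001020400200900014205000200220400101100014804201001004400100900030204004101200800101400030204001401204000110800020304210001000300120400005804004201010800201100120405000100221000110800004604020101010400300200005804021001200100100a00014404004201000500220800111004100401021000204800010304200401020200104800011104010101100800201400024204000a01014000200500121004004201300000030100001c040018010300003001000046041100010202002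04100001c05000400300100024800011204200101010200101800024404000901110000200600025004030001001800300400004304100801000600201100034004220001100800011200004504014001100400201800020304020401200200100900015004110001000900220400005204104001020100200c00011204300001011000020300004c04100201001100210800024404220001001100110400004a04021001010800304000000704000c01100200221000014104010101020400304000001a04004201021000210400100905001000310000024200000d04020801300000010600005104010201004800221000100504010801021000300200004504010201120000204400001904010201200100105000020c05001000200a00120400014104200201020400110800005104000301020800205000110404000501004200211000120804101001004800200600030104001101014000300800020604005001010100320000000e04204001030000100c00001304200201010100101400024804100201204000021800010504001401120000210100004a04030001100200200900005404000501030000200a00105004200201104000031000000d04001801104000220400010304000301210000104800021404001201200800114000020504004801010200300400021104100801010100204400021204201001110000020c00004304001401000900300200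034005200000100500034000001a05004000200900110400021204010101005000220800100604210001024000100a00001504000501300000021200014804101001000300224000010c05010000200300104400021805000800201200110100024404020801000300201400114004000a01201000104100030405200000120800010300005404005001020200210800100505004000201400120100010a04100101010800220200005404014001000a00300100021404010401104000201100020a05000100210200124000001c05000800204100100600031005000400205000100a00030104004101000600310000021804000601100800214000021105000400220200114000001904220001000600105000010904014001220000101200000d04120001004100210400001a04120001001400200300014805200000104200021100010c05010000200c00120200005104004401110000220100001a04200401005000130000000b04104001200200030800001504020201110000204800001504000301101000200c00034004100401200100024200011805001000220100104800010605000200210100100c00025005020000300800010500005204300001000500025000010a04004801101000220200010504100801220000011400004304004401020800210200101104001801000500214000120204020401101000204100010a0400120101040020410012080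5000400210800121000004304000a01100400224000011104020201200400101800014104201001000a00124000010505000100300400020a00015004100801005000210200020504010201001400300800024104200801010400101100024204000c01024000200300111004100401000a00230000005104030001000500201200104804024001100100200a00011404200201001800120100014404020201000900211000104404020101201000100c00014204004401000300300800031004200801001200104400030104000a01020100310000005404020801011000204200100504100101024000201800010604200101004800120200011404011001020800200500104205100000211000024100000e04100101001200214000020c04020401004800310000001304000901001400230000104204030001204000101100000e04021001004200200c00110104300001020800014100001604000c01001100304000030204101001210000020a00004504021001100400210200004905010000224000100900001604010401200800100300025004010401001200320000004904010801200400124000001304200801120000015000000704204001100200020500011804100201030000201400004904100101200400031000004a041100012010000248000007040011011002002104000248040104010201002042001018040006010110002009001240050100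00301000020500004a04010101200200121000004c04001201024000300400010904010801100100205000020604000501001800224000110204210001101000020900004604024001210000100600001904204001000900121000010604004401201000120200010904000301004400320000011804010801004200220100101405020000200600104100011804100201000c00220100015005020000201100110200004c05000800210400105000020304120001010200205000000d04004101011000220400100a04110001004400200a00021104001101000c00204200130004000601004100301000030804001101220000104400010a04011001004100220200100c05100000204200021400010904000601220000110100005804005001100800200300030405000200201800130000004504100401014000201200020905004000300200020c00011104300001004200030400001904004801200100130000001604020101104000210800001604220001014000100300001c04020401010100201800104204200101021000114000000e05100000200500030200005804024001001200200500110805100000220800014400001304200401100100021800014204104001001800210100020604020201005000300100010c05000800320000014200001504020801004400210100101205020000214000101400000b04001401010200220800104104210001000c00104100021205000200304000020900011404000c01210000120100005204004801020400211000100304020101000a002044001110041200012008000111000046042010010201001006000148050040002300001018000007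
noncomputable def eQ : Nat → Finset (Finset GolayPt) := GE.tfam 4 P
noncomputable def gQ : List Net := [(.cons 1 0x4051440110544004111001551041104504514405040111110451411
 (.cons 2 0x12030013031212211320203303010111002230321002102121112
 (.cons 4 0x30b080608040d0e0605010508050d030e02010c080d080f0e0609
 (.cons 8 0xc00d700d3009100a200700010004900f9000b0077005000bd0035
 (.cons 16 0x45e0000cad90000fda90000dbf4000049a80000893f00002f90
 (.cons 32 0x1c62c83e00000000e2dfc93d00000000bbff5640
 (.cons 64 0xdbff7e300000000000000004d36082ae4041640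
 (.cons 128 0x9b836c397cdc93ce0000000
 (.cons 64 0x8900002000000000000000097cdc93ce0000000
 (.cons 32 0xeb79d4cc000000001c7036d30000000004041640
 (.cons 16 0x3c00000d0640000ac010000a050000008130000208a00004000
 (.cons 8 0x600210010001000af002000760062006200240027000a00c00090
 (.cons 4 0x4040a000a01030b000600010300030203030c0a030200000205
 (.cons 2 0x1033212211113022200201332231022201310021002230022112000
 (.cons 1 0x410540450054550444140154015540005100414400154450000010
 .nil))))))))))))))),
 (.cons 1 0x1545041105414151551505011044441454145045101054450411110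
 (.cons 2 0x3213023201003113203312112001300011113032302303100002303
 (.cons 4 0x6000203000b05090604020d0f000f0f01080703080f0c06070a
 (.cons 8 0xc0064005e0066009a00c60002008e007f000900ff00a600df002c
 (.cons 16 0xe4200004e5f00000b5b0000f8c600002a07000091bf0000afb0
 (.cons 32 0x52708083000000001bac499b0000000012894040
 (.cons 64 0xf5ffddf0000000000000000d09325bb9c52a040
 (.cons 128 0xd49b5d423bf6a2390000000
 (.cons 64 0x1081400000000000000000023bf6a2390000000
 (.cons 32 0x99153a6e00000000565085d0000000000c52a040
 (.cons 16 0x9c40000b0410000b1020000ca20000074a4000016020000e000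
 (.cons 8 0x900ab00a40037002500b30090008e006600030001000000610090
 (.cons 4 0xb010f09090f0b0c00010100060202040601000e0c0a03030004
 (.cons 2 0x1311103302333101100032132123331222010212102010002011220
 (.cons 1 0x101100054400055104410501504004440500150500111144404400
 .nil)))))))))))))))]
theorem gQ_acts : ActsL 220 eQ (gDN.map mm) gQ := GE.actsL_tfam gD_acts (by decide +kernel)
theorem eQ_inj : Set.InjOn eQ {j | j < 220} :=
  gQ_acts.injOn (k := 7) (by decide +kernel) (GE.tfam_zero_inj (by decide +kernel))
theorem eQ_zero : eQ 0 = GE.fam [0x50040, 0x2300, 0x1018, 0x7] := by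
  unfold eQ Enum.tfam
  exact congrArg _ (by decide +kernel)

theorem smul_hex (g : MM) {d h : Finset GolayPt} (a : h ∈ hexadsOn d) :
    g • h ∈ hexadsOn (g • d) := by
  obtain ⟨h6, o, ho, rfl⟩ := a
  exact ⟨by rw [Finset.card_smul_finset, h6], g • o, (mm_smul_octads g).2 ho,
    (mm_smul_inter g o d).symm⟩

theorem smul_quart (g : MM) {d : Finset GolayPt} {Q : Finset (Finset GolayPt)}
    (a : Q ∈ quartets d) : g • Q ∈ quartets (g • d) := by
  obtain ⟨h4, h3, h⟩ := a
  refine ⟨by rw [Finset.card_smul_finset, h4], fun t ht => ?_, fun t ht u hu htu => ?_⟩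
  · obtain ⟨t, ht', rfl⟩ := Finset.mem_smul_finset.1 ht
    exact ⟨by rw [Finset.card_smul_finset, (h3 t ht').1], (mm_smul_subset g).2 (h3 t ht').2⟩
  · obtain ⟨t, ht', rfl⟩ := Finset.mem_smul_finset.1 ht
    obtain ⟨u, hu', rfl⟩ := Finset.mem_smul_finset.1 hu
    rw [← mm_smul_union]
    exact smul_hex g (h t ht' u hu' fun e => htu (by rw [e]))

theorem smul_quart_iff (g : MM) {d : Finset GolayPt} {Q : Finset (Finset GolayPt)} :
    g • Q ∈ quartets (g • d) ↔ Q ∈ quartets d :=
  ⟨fun h => by simpa using smul_quart g⁻¹ h, smul_quart g⟩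

theorem hex_iff {x : Nat} (hx : x < 2 ^ 24) : GE.fs x ∈ hexadsOn (eD 0) ↔
    pop24 x = 6 ∧ anyN 759 (fun i => Nat.beq (Nat.land (oM i) dod0) x) = true := by
  unfold hexadsOn
  rw [Set.mem_setOf_eq, card_gfs, anyN_iff, eD_zero]
  refine and_congr_right fun _ => ⟨?_, ?_⟩
  · rintro ⟨o, ho, e⟩
    obtain ⟨i, hi, rfl⟩ := mem_octads_iff_oM.1 ho
    rw [← GE.fs_and] at e
    exact ⟨i, hi, (beq_iff _ _).2 (GE.fs_inj (Nat.and_lt_two_pow _ (by decide)) hx e)⟩
  · rintro ⟨i, hi, e⟩
    exact ⟨_, mem_octads_iff_oM.2 ⟨i, hi, rfl⟩, by rw [← GE.fs_and, ← (beq_iff _ _).1 e]; rfl⟩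

theorem eQ0_mem : eQ 0 ∈ quartets (eD 0) := by
  rw [eQ_zero]
  refine ⟨GE.card_fam (by decide) (by decide), fun t ht => ?_, fun t ht u hu htu => ?_⟩
  · obtain ⟨x, hx, rfl⟩ := GE.mem_fam.1 ht
    rw [card_gfs, eD_zero, GE.fs_subset_iff (by revert x; decide)]
    revert x; decide +kernel
  · obtain ⟨x, hx, rfl⟩ := GE.mem_fam.1 ht
    obtain ⟨y, hy, rfl⟩ := GE.mem_fam.1 hu
    have : x ≠ y := fun e => htu (by rw [e])
    rw [← GE.fs_or, hex_iff (by clear this htu ht hu; revert x y; decide)]
    clear htu ht hu
    revert x y; decide +kernel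

theorem uniq_chk : allN 759 (fun i => force (Nat.land (oM i) dod0) fun h =>
    or' (not' (and' (Nat.beq (Nat.land h 7) 7) (Nat.beq (pop24 h) 6)))
      (or' (elemL (Nat.xor h 7) [0x50040, 0x2300, 0x1018])
        (not' (anyN 759 fun j => Nat.beq (Nat.land (oM j) dod0) (Nat.lor (Nat.xor h 7) 0x1018))))) =
    true := by decide +kernel

theorem eq_eQ0 {Q : Finset (Finset GolayPt)} (hQ : Q ∈ quartets (eD 0)) (ht : GE.fs 7 ∈ Q)
    (hu : GE.fs 0x1018 ∈ Q) : Q = eQ 0 := by
  refine Finset.eq_of_subset_of_card_le (fun v hv => ?_) (by rw [hQ.1, eQ0_mem.1])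
  rw [eQ_zero]
  obtain ⟨x, hx, rfl⟩ := GE.exists_fs v
  rw [GE.fs_mem_fam (by decide) hx]
  by_contra hn
  simp only [List.mem_cons, List.not_mem_nil, or_false, not_or] at hn
  have h1 := hQ.2.2 _ hv _ ht fun e => hn.2.2.2 (GE.fs_inj hx (by decide) e)
  have h2 := hQ.2.2 _ hv _ hu fun e => hn.2.2.1 (GE.fs_inj hx (by decide) e)
  have c := Finset.card_union_add_card_inter (GE.fs x) (GE.fs 7)
  rw [h1.1, (hQ.2.1 _ hv).1, (hQ.2.1 _ ht).1] at c
  have d : x &&& 7 = 0 := (GE.fs_disjoint_iff hx).1
    (Finset.disjoint_iff_inter_eq_empty.2 (Finset.card_eq_zero.1 (by omega)))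
  rw [← GE.fs_or, hex_iff (Nat.or_lt_two_pow hx (by decide))] at h1 h2
  obtain ⟨i, hi, e⟩ := (anyN_iff _ _).1 h1.2
  have k := (allN_iff _ _).1 uniq_chk i hi
  rw [beq_iff] at e
  have e1 : Nat.xor (x ||| 7) 7 = x := by
    refine Nat.eq_of_testBit_eq fun j => ?_
    have := congrArg (·.testBit j) d
    change ((x ||| 7) ^^^ 7).testBit j = _
    simp only [Nat.testBit_and, Nat.zero_testBit, Nat.testBit_xor, Nat.testBit_or] at this ⊢
    revert this
    cases x.testBit j <;> cases (7 : ℕ).testBit j <;> simp
  have e2 : Nat.land (x ||| 7) 7 = 7 := by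
    refine Nat.eq_of_testBit_eq fun j => ?_
    change ((x ||| 7) &&& 7).testBit j = _
    simp only [Nat.testBit_and, Nat.testBit_or]
    cases x.testBit j <;> cases (7 : ℕ).testBit j <;> simp
  simp only [force_eq, e, e1, e2, h1.1, or'_eq, and'_eq, not'_eq, Bool.or_eq_true, elemL_iff,
    Bool.not_eq_true', List.mem_cons, List.not_mem_nil, or_false] at k
  rcases k with k | k | k
  · exact absurd k (by decide)
  · tauto
  · exact absurd (h2.2.symm.trans k) (by decide)

theorem exists_pair {d : Finset GolayPt} (hd : d ∈ dodecads) {t u : Finset GolayPt}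
    (ht : t.card = 3) (hu : u.card = 3) (htu : Disjoint t u) (hh : t ∪ u ∈ hexadsOn d) :
    ∃ g : MM, g • eD 0 = d ∧ g • GE.fs 7 = t ∧ g • GE.fs 0x1018 = u := by
  obtain ⟨a, b, c, hab, hac, hbc, rfl⟩ := Finset.card_eq_three.1 ht
  obtain ⟨x, y, z, hxy, hxz, hyz, rfl⟩ := Finset.card_eq_three.1 hu
  obtain ⟨h6, o, ho, e⟩ := hh
  have hs : ∀ p ∈ ({a, b, c} ∪ {x, y, z} : Finset GolayPt), p ∈ o ∧ p ∈ d := fun p hp =>
    Finset.mem_inter.1 (e ▸ hp)
  simp only [Finset.disjoint_insert_left, Finset.disjoint_singleton_left, Finset.mem_insert,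
    Finset.mem_singleton, not_or] at htu
  obtain ⟨g, rfl, h⟩ := exists_smul_dod hd [a, b, c, x, y] (by simp; tauto)
    (fun p hp => (hs p (by simp at hp ⊢; tauto)).2) (by simp)
  simp only [List.length_cons, List.length_nil, List.take, List.map, List.cons.injEq, and_true,
    Nat.reduceAdd] at h
  obtain ⟨rfl, rfl, rfl, rfl, rfl⟩ := h
  have e7 : GE.fs 7 = {GE.e 0, GE.e 1, GE.e 2} := by decide +kernel
  have h7 : g • GE.fs 7 = {g • GE.e 0, g • GE.e 1, g • GE.e 2} := by
    rw [e7]; simp [Finset.smul_finset_insert]
  refine ⟨g, rfl, h7, ?_⟩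
  obtain ⟨o, rfl⟩ := exists_eq_smul g o
  rw [mm_smul_octads] at ho
  obtain rfl : o = GE.fs 0x149f := by
    refine octad_eq_of_five ho (fs_mem_octads_of (by decide +kernel))
      (le_trans (by decide +kernel : 5 ≤ (GE.fs 0x1f).card)
        (Finset.card_le_card (Finset.subset_inter (fun p hp => ?_) (by decide +kernel))))
    have : p ∈ ({GE.e 0, GE.e 1, GE.e 2, GE.e 3, GE.e 4} : Finset GolayPt) := by
      revert p; decide +kernel
    rw [← Finset.smul_mem_smul_finset_iff g]
    refine (hs _ ?_).1
    simp only [Finset.mem_insert, Finset.mem_singleton] at this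
    rcases this with rfl | rfl | rfl | rfl | rfl <;> simp
  rw [← mm_smul_inter, show GE.fs 0x149f ∩ eD 0 = GE.fs 7 ∪ GE.fs 0x1018 by
    rw [eD_zero, ← GE.fs_and, ← GE.fs_or]; rfl, mm_smul_union, h7] at e
  have d1 : Disjoint (g • GE.fs 7) (g • GE.fs 0x1018) := (mm_smul_disjoint g).2 (by decide +kernel)
  rw [h7] at d1
  have d2 : Disjoint ({g • GE.e 0, g • GE.e 1, g • GE.e 2} : Finset GolayPt)
      {g • GE.e 3, g • GE.e 4, z} := by
    simp only [Finset.disjoint_insert_left, Finset.disjoint_singleton_left, Finset.mem_insert,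
      Finset.mem_singleton, not_or]
    exact htu
  rw [← Finset.union_sdiff_cancel_left d1, e, Finset.union_sdiff_cancel_left d2]

theorem exists_smul_eQ {d : Finset GolayPt} (hd : d ∈ dodecads) {Q : Finset (Finset GolayPt)}
    (hQ : Q ∈ quartets d) : ∃ g : MM, g • eD 0 = d ∧ g • eQ 0 = Q := by
  obtain ⟨t, ht, u, hu, htu⟩ := Finset.one_lt_card.1 (by rw [hQ.1]; norm_num : 1 < Q.card)
  have hh := hQ.2.2 t ht u hu htu
  have c := Finset.card_union_add_card_inter t u
  rw [hh.1, (hQ.2.1 _ ht).1, (hQ.2.1 _ hu).1] at c
  obtain ⟨g, rfl, rfl, rfl⟩ := exists_pair hd (hQ.2.1 _ ht).1 (hQ.2.1 _ hu).1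
    (Finset.disjoint_iff_inter_eq_empty.2 (Finset.card_eq_zero.1 (by omega))) hh
  obtain ⟨Q, rfl⟩ := exists_eq_smul g Q
  rw [Finset.smul_mem_smul_finset_iff] at ht hu
  exact ⟨g, rfl, by rw [eq_eQ0 ((smul_quart_iff g).1 hQ) ht hu]⟩

theorem orbit_eQ : orbit H12 (eQ 0) = quartets (eD 0) := by
  ext Q
  constructor
  · rintro ⟨g, rfl⟩
    have := smul_quart (g : MM) eQ0_mem
    rwa [mem_stabilizer_iff.1 g.2] at this
  · intro h
    obtain ⟨g, a, b⟩ := exists_smul_eQ (eD_zero ▸ dod0_mem) h
    exact ⟨⟨g, a⟩, b⟩

theorem quart_eq : quartets (eD 0) = mset 220 eQ (ones 220) ∧ (quartets (eD 0)).ncard = 220 := by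
  rw [← orbit_eQ]
  exact gQ_acts.orbit_ncard (k := 7) (d := 8) cl_gD eQ_inj (by norm_num) (by norm_num)
    (by decide +kernel)

theorem eQ_mem {i : Nat} (hi : i < 220) : eQ i ∈ quartets (eD 0) := by
  rw [quart_eq.1]; exact (mem_mset eQ_inj hi).2 ((testBit_ones _ _).2 hi)

noncomputable abbrev HQ : Subgroup MM := H12 ⊓ stabilizer MM (eQ 0)

theorem card_HQ : Nat.card HQ = 432 :=
  card_stab_of_orbit H12 _ (m := 220) (orbit_eQ ▸ quart_eq.2) (by norm_num) card_stab_eD

noncomputable def hN : List Net := [(.cons 1 0x41100 (.cons 2 0x222222 (.cons 4 0x80805 (.cons 8 0xd3 (.cons 16 0xe3 (.cons 8 0x60 (.cons 4 0xe0200 (.cons 2 0x210 (.cons 1 0x444000 .nil))))))))),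
  (.cons 1 0x541015 (.cons 2 0x323212 (.cons 4 0xc0704 (.cons 8 0xd3 (.cons 16 0xe7 (.cons 8 0x67 (.cons 4 0xf0800 (.cons 2 0x112000 (.cons 1 0x551404 .nil)))))))))]
theorem h_acts : ActsL 24 GE.e (hN.map mm) hN := actsL_mm (by decide +kernel)
theorem cl_h : cl (hN.map mm) = HQ := h_acts.mm_cl_eq (mem_inf_of (h_acts.stab_eD (by decide +kernel))
  (eQ_zero ▸ GE.stab_fam h_acts (by decide +kernel))) card_HQ.le
  [([1, 3, 0, 3, 0], (.cons 1 0x540100 (.cons 2 0x1020 (.cons 4 0x30000 (.cons 8 0xc0 (.cons 16 0x38 (.cons 4 0x30000 (.cons 2 0x1020 (.cons 1 0x40000 .nil))))))))),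
  ([5, 2, 2, 2, 2, 5], (.cons 1 0x451514 (.cons 2 0x110132 (.cons 4 0x40300 (.cons 8 0xfa (.cons 16 0xde (.cons 8 0x8e (.cons 4 0x10700 (.cons 2 0x130200 (.cons 1 0x40454 .nil)))))))))),
  ([1, 3, 1, 2, 0, 3], (.cons 1 0x54404 (.cons 2 0x203102 (.cons 4 0x40d00 (.cons 8 0xca (.cons 16 0x2a (.cons 8 0xa (.cons 4 0xc00 (.cons 2 0x203100 (.cons 1 0x54404 .nil)))))))))),
  ([3, 3, 5], (.cons 1 0x154500 (.cons 2 0x102100 (.cons 4 0x10c00 (.cons 8 0xdf (.cons 16 0xf (.cons 8 0xf (.cons 4 0x10c00 (.cons 2 0x102100 (.cons 1 0x54500 .nil)))))))))),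
  ([1, 1, 3], (.cons 1 0x54404 (.cons 2 0x203102 (.cons 4 0x40d00 (.cons 8 0xca (.cons 16 0x2a (.cons 8 0xa (.cons 4 0xc00 (.cons 2 0x203100 (.cons 1 0x54404 .nil))))))))))]
  [5, 6, 4, 3, 2, 1, 0] [(0, 1, 2), (3, 2, 2), (4, 1, 2), (1, 1, 1)] (by decide +kernel)
noncomputable def hQ : List Net := [(.cons 1 0x401141510411551454500045451405010405504544014111015444
 (.cons 2 0x221000332230320002322022223103202132130222010301303012
 (.cons 4 0xc0b000707040f0e000e090a050802050204000c0e080f0905070e
 (.cons 8 0xc20099009400c20050002e00ce006500f700f20067008500fa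
 (.cons 16 0x56f0000cb9d0000aad900002f17000040f4000016220000c3b0
 (.cons 32 0x2b8594c3000000003d94c76600000000000f2310
 (.cons 64 0xcad46630000000000000000efeacd323ab53bdc
 (.cons 128 0xa10bb0533777dff550f42f8
 (.cons 64 0x10fa0d9000000000000000022414dbf50000000
 (.cons 32 0x3764fbd000000003118a4bc000000000201a888
 (.cons 16 0x50300002741000008640000c80400004e480000822000009000
 (.cons 8 0x200f5004c004100f1009100380098008400fa0002006200300000
 (.cons 4 0xa080b070a07000e010e050e0a0c020402050d0e0b02000c050506
 (.cons 2 0x3211203100200311112200130032212330122210030200012101010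
 (.cons 1 0x5550154411550405014504045014451144551115414401001045500
 .nil))))))))))))))),
 (.cons 1 0x5000511015154541401440410051455545444401545515451555444
 (.cons 2 0x1330330202003311130013131231101130331020333032032220230
 (.cons 4 0x80e04090301080d000b0900070e0609010f08030f0a0a02000c08
 (.cons 8 0x7007500f80054004800970085003a00a800c100b6008100ea0060
 (.cons 16 0xfad0000476c00005f52000053cf00002aeb00006cd400009d40
 (.cons 32 0x8bd52a4c000000006c46a3d10000000001206aa8
 (.cons 64 0x9df4bcd0000000000000000b4e2f3ff5d9d8980
 (.cons 128 0x392a240ef9b5df6766b5d66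
 (.cons 64 0x500a92000000000000000008b08513650000000
 (.cons 32 0xc85e28bc000000000840e84100000000024a0064
 (.cons 16 0x4db00001a930000bf7e000087860000018f0000203c00006000
 (.cons 8 0x5002f00340019002300fc000400e9002d00c600090001001b0010
 (.cons 4 0x303060f0d0c0206020309090d0207000c090f000a0b090d0c0600
 (.cons 2 0x1213021200031213010112323111132233322021331030010003000
 (.cons 1 0x4544040105451004410044050144450005114514155411445051004
 .nil)))))))))))))))]
theorem hQ_acts : ActsL 220 eQ (hN.map mm) hQ := GE.actsL_tfam h_acts (by decide +kernel)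

noncomputable def nN : List Net := [(.cons 1 0x544005 (.cons 2 0x201212 (.cons 4 0xc0a04 (.cons 8 0x48 (.cons 16 0x28 (.cons 8 0x28 (.cons 4 0x80000 (.cons 2 0x103010 (.cons 1 0x540104 .nil))))))))),
  (.cons 1 0x5411 (.cons 2 0x203021 (.cons 4 0x80c08 (.cons 8 0x58 (.cons 16 0x50 (.cons 8 0x40 (.cons 4 0x900 (.cons 2 0x102120 (.cons 1 0x1510 .nil))))))))),
  (.cons 1 0x455050 (.cons 2 0x13120 (.cons 4 0xb0608 (.cons 8 0x8a (.cons 16 0x3a (.cons 8 0x1a (.cons 4 0xb0200 (.cons 2 0x33120 (.cons 1 0x155150 .nil))))))))),
  (.cons 1 0x504005 (.cons 2 0x301012 (.cons 4 0x90d04 (.cons 8 0x85 (.cons 16 0xb1 (.cons 8 0x81 (.cons 4 0x90500 (.cons 2 0x11010 (.cons 1 0x4004 .nil))))))))),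
  (.cons 1 0x455541 (.cons 2 0x32001 (.cons 4 0x90500 (.cons 8 0x40 (.cons 16 0xe0 (.cons 8 0x60 (.cons 4 0x80000 (.cons 2 0x312000 (.cons 1 0x151440 .nil))))))))),
  (.cons 1 0x155150 (.cons 2 0x33120 (.cons 4 0x30e08 (.cons 8 0x9a (.cons 16 0xb2 (.cons 8 0x82 (.cons 4 0x30a00 (.cons 2 0x13120 (.cons 1 0x455050 .nil))))))))),
  (.cons 1 0x150545 (.cons 2 0x312202 (.cons 4 0xd0c00 (.cons 8 0x24 (.cons 16 0xa4 (.cons 8 0x4 (.cons 4 0xc0000 (.cons 2 0x32200 (.cons 1 0x454444 .nil))))))))),
  (.cons 1 0x551451 (.cons 2 0x22021 (.cons 4 0x20608 (.cons 8 0x86 (.cons 16 0x36 (.cons 8 0x6 (.cons 4 0x20200 (.cons 2 0x302020 (.cons 1 0x51450 .nil)))))))))]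
theorem n_acts : ActsL 24 GE.e (nN.map mm) nN := actsL_mm (by decide +kernel)
noncomputable def hM : List Net := [(.cons 1 0x14 (.cons 2 0x21 (.cons 4 0xa (.cons 1 0x40 .nil)))),
  (.cons 1 0x11 (.cons 2 0x12 (.cons 4 0x3 (.cons 2 0x30 (.cons 1 0x50 .nil)))))]
theorem hM_acts : ActsL 8 (cjT (nN.map mm)) (hN.map mm) hM :=
  n_acts.toCj (K := 5) (fun _ => MM_faithful) h_acts (by decide +kernel)
def eV (i : Nat) : Fin 2 → ZMod 3 := nth 0 [![0, 1], ![0, 2], ![1, 0], ![1, 1], ![1, 2], ![2, 0], ![2, 1], ![2, 2]] i
noncomputable def xs : List (GL (Fin 2) (ZMod 3)) := [⟨!![0, 1; 1, 1], !![2, 1; 1, 0], by decide +kernel, by decide +kernel⟩, ⟨!![1, 2; 0, 1], !![1, 1; 0, 1], by decide +kernel, by decide +kernel⟩]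
theorem ax {x : GL (Fin 2) (ZMod 3)} {N : Net}
    (h : N.valid 8 = true ∧ ∀ i < 8, x.1 *ᵥ eV i = eV (N.fn i)) : Acts 8 eV x N :=
  ⟨Net.ok_of_valid h.1, h.2⟩
theorem xa : ActsL 8 eV xs hM :=
  .cons (ax (by decide +kernel)) (.cons (ax (by decide +kernel)) .nil)
theorem cX : Nat.card (GL (Fin 2) (ZMod 3)) = 48 := by
  rw [Matrix.card_GL_field, ZMod.card]; simp [Fin.prod_univ_two]
theorem iso : Nonempty (GL (Fin 2) (ZMod 3) ≃* netGrp 8 hM) :=
  xa.iso_of_hom (fun i hi j hj h => (by decide +kernel : ∀ i < 8, ∀ j < 8, eV i = eV j → i = j)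
    i hi j hj h) (MonoidHom.id _) (fun g hg i _ => by rw [show g = 1 from hg, one_smul]) cX.le
    (le_card_netGrp (K := 3) (by norm_num) (fun _ => xa.ok) [([1, 2, 2, 1, 3, 1, 3], (.cons 1 0x10 (.cons 4 0xc .nil))),
  ([5, 3, 3], (.cons 1 0x44 (.cons 2 0x30 (.cons 4 0x4 (.cons 2 0x10 .nil)))))]
  [2, 3, 1, 0] [(0, 2, 2), (2, 2, 2)] (by decide +kernel))

theorem struct : ∃ (N : Subgroup HQ) (_ : N.Normal), Nat.card N = 9 ∧
    Nonempty (HQ ⧸ N ≃* GL (Fin 2) (ZMod 3)) := by
  obtain ⟨N, a, -, d, e⟩ := hM_acts.quot_iso (hM_acts.injOn (k := 5) (by decide +kernel)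
    (n_acts.cjT_zero_inj GE.injOn (by decide +kernel))) cl_h iso
  rw [cX, card_HQ] at e
  exact ⟨N, a, by omega, d⟩

theorem trans_pts {p q : GolayPt} (hp : p ∈ eD 0) (hq : q ∈ eD 0) : ∃ g ∈ HQ, g • p = q := by
  rw [eD_zero, ← GE.e_ix p, GE.e_mem_fs (GE.ix_lt p)] at hp
  rw [eD_zero, ← GE.e_ix q, GE.e_mem_fs (GE.ix_lt q)] at hq
  have := h_acts.conn_mask (k := 4) (b := 0) (X := dod0) (H := HQ) (fun g hg => cl_h ▸ mem_cl hg)
    (by norm_num) (by decide +kernel) hp hq
  rwa [GE.e_ix, GE.e_ix] at this

end H8.Quart
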