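import Cfsg.Agent.H8.Jan
import Cfsg.Agent.H7.MinAct
import Cfsg.Agent.H3.Critical

/-! A normal 2-complement criterion of Isaacs and Navarro. -/

namespace H8

open Subgroup Cfsg
open scoped Pointwise commutatorElement

variable {G : Type*} [Group G] [Finite G]

theorem npc_of_real_central
    (h : ∀ x : G, (∃ j : ℕ, orderOf x = 2 ^ j) → IsConj x x⁻¹ → x ∈ center G) :
    HasNormalPComplement 2 G := by
  by_contra hn
  obtain ⟨P⟩ : Nonempty (Sylow 2 G) := inferInstance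
  obtain ⟨Q, hQ, q, hq, hq2, -, g, k, hk, hgN, hgC⟩ := H3.exists_primePow_not_centralizing P hn
  have hC : centralizer (zpowers g : Set G) = centralizer {g} := by
    rw [zpowers_eq_closure, centralizer_closure]
  obtain ⟨U, ⟨hU1, hU2⟩, hUQ, hmin⟩ := H1.exists_minimal_le
    (fun U : Subgroup G => zpowers g ≤ normalizer (U : Set G) ∧ ⁅U, zpowers g⁆ ≠ ⊥) (N := Q)
    ⟨zpowers_le.2 hgN, fun h1 => hgC (H5.commutator_eq_bot_iff'.1 h1 (mem_zpowers g))⟩
  have hUp : IsPGroup 2 U := P.isPGroup'.to_le (hUQ.trans hQ)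
  have hmin' : ∀ V : Subgroup G, V < U → zpowers g ≤ normalizer (V : Set G) →
      ⁅V, zpowers g⁆ = ⊥ := fun V h1 h2 => by
    by_contra h3
    exact h1.ne (hmin V ⟨h2, h3⟩ h1.le)
  obtain ⟨-, h2, h3, h4, -⟩ := H7.minimal_action hUp hU1 le_rfl le_normalizer
    (by rw [Nat.card_zpowers, hk]
        exact ((Nat.coprime_primes hq Nat.prime_two).2 hq2).pow_left k) hU2 hmin'
  have hnle : ¬ U ≤ centralizer (zpowers g : Set G) := fun h1 =>
    hU2 (commutator_eq_bot_iff_le_centralizer.2 h1)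
  obtain ⟨x, hx, hxC⟩ := SetLike.not_le_iff_exists.1 hnle
  have hc : ∀ a ∈ U, ∀ b ∈ U, ∀ c ∈ U, c * ⁅a, b⁆ = ⁅a, b⁆ * c := fun a ha b hb c hc =>
    h4 (commutator_mem_commutator ha hb) c hc
  let T : Subgroup G :=
    { carrier := {z | ∃ y ∈ U, ⁅y, x⁆ = z}
      one_mem' := ⟨1, one_mem _, by simp⟩
      mul_mem' := by
        rintro _ _ ⟨a, ha, rfl⟩ ⟨b, hb, rfl⟩
        refine ⟨b * a, mul_mem hb ha, ?_⟩
        calc ⁅b * a, x⁆ = (b * ⁅a, x⁆) * b⁻¹ * ⁅b, x⁆ := by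
              simp only [commutatorElement_def]; group
          _ = _ := by rw [hc a ha x hx b hb]; group
      inv_mem' := by
        rintro _ ⟨a, ha, rfl⟩
        refine ⟨a⁻¹, inv_mem ha, ?_⟩
        calc ⁅a⁻¹, x⁆ = a⁻¹ * (⁅a, x⁆⁻¹ * a) := by simp only [commutatorElement_def]; group
          _ = _ := by
            rw [commutatorElement_inv, ← hc x hx a ha a ha]; group }
  have hTU : T ≤ ⁅U, U⁆ := by
    rintro _ ⟨a, ha, rfl⟩; exact commutator_mem_commutator ha hx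
  have hTn : ∀ L : Subgroup G, ⁅U, U⁆ ≤ centralizer (L : Set G) → L ≤ normalizer (T : Set G) :=
    fun L hL => (le_centralizer_iff.1 (hTU.trans hL)).trans (centralizer_le_normalizer _)
  have hUT : ⁅U, U⁆ ≤ T := by
    by_contra h5
    have h6 := hmin' (U ⊓ H5.centMod U T)
      (lt_of_le_of_ne inf_le_left fun h6 => h5 (H5.le_centMod.1 (h6.ge.trans inf_le_right)).2)
      (H1.le_normalizer_inf hU1 (le_norm_centMod hU1 (hTn _ (h2 ▸ inf_le_right))))
    refine hxC (commutator_eq_bot_iff_le_centralizer.1 h6 (mem_inf.2 ⟨hx, hTn U h4 hx,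
      fun z hz => ?_⟩))
    rw [← commutatorElement_inv]
    exact inv_mem ⟨z, hz, rfl⟩
  obtain ⟨y, -, hy⟩ := hUT (inv_mem (h3 ▸ H3.pow_mem_map_frattini hUp hx))
  have hreal : y * x * y⁻¹ = x⁻¹ := by
    calc y * x * y⁻¹ = ⁅y, x⁆ * x := by simp only [commutatorElement_def]; group
      _ = x⁻¹ := by rw [hy]; group
  have h5 := h x (exists_orderOf_eq_of_mem hUp hx) (isConj_iff.2 ⟨y, hreal⟩)
  exact hxC fun z _ => mem_center_iff.1 h5 z

end H8
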