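import Mathlib
import Cfsg.Agent.H9.Basic

/-! Primes between `n / 2` and `n`, and elements of prime order in symmetric groups. -/

set_option autoImplicit false

namespace H8.Sy
open Nat Equiv Equiv.Perm

theorem exists_prime_ne_large (n q : ℕ) (hn : 512 ≤ n) :
    ∃ p : ℕ, p.Prime ∧ n < p ∧ p ≤ 2 * n ∧ p ≠ q := by
  wlog hq : n < q ∧ q ≤ 2 * n generalizing q
  · obtain ⟨p, h1, h2, h3, -⟩ := this (n + 1) (by omega)
    exact ⟨p, h1, h2, h3, by omega⟩
  have h0 : 4 ^ n < n * n.centralBinom := Nat.four_pow_lt_mul_centralBinom n (by omega)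
  contrapose! h0
  suffices h : n.centralBinom ≤ (2 * n) ^ sqrt (2 * n) * 4 ^ (2 * n / 3) by
    grw [h, ← mul_assoc, bertrand_main_inequality hn]
  let f x := x ^ n.centralBinom.factorization x
  let S := {p ∈ Finset.range (2 * n / 3 + 1) | Nat.Prime p}
  have fle : ∀ p, f p ≤ 2 * n := fun p => pow_factorization_choose_le (by omega)
  have e : n.centralBinom = f q * ∏ x ∈ S, f x := by
    rw [← Finset.prod_insert (by simp [S]; omega)]
    refine (Eq.trans ?_ n.prod_pow_factorization_centralBinom).symm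
    apply Finset.prod_subset
    · intro x hx
      simp only [Finset.mem_insert, S, Finset.mem_filter, Finset.mem_range] at hx ⊢
      omega
    intro x hx h2x
    simp only [Finset.mem_insert, S, Finset.mem_filter, Finset.mem_range, not_or, not_and] at hx h2x
    by_cases hp : x.Prime
    · have h2 := h0 x hp
      have h3 : ¬ x < 2 * n / 3 + 1 := fun h => h2x.2 h hp
      simp only [f]
      rw [factorization_centralBinom_of_two_mul_self_lt_three_mul (by omega) (by omega) (by omega),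
        Nat.pow_zero]
    · simp only [f]; rw [factorization_eq_zero_of_not_prime n.centralBinom hp, Nat.pow_zero]
  have s1 : 1 ≤ sqrt (2 * n) := by rw [Nat.le_sqrt]; omega
  rw [e, ← Finset.prod_filter_mul_prod_filter_not S (· ≤ sqrt (2 * n)), ← mul_assoc]
  apply mul_le_mul'
  · obtain ⟨k, hk⟩ : ∃ k, sqrt (2 * n) = k + 1 := ⟨_, (Nat.sub_add_cancel s1).symm⟩
    rw [hk, _root_.pow_succ']
    refine mul_le_mul' (fle _) ((Finset.prod_le_prod' fun p _ => fle p).trans ?_)
    have : (Finset.Icc 2 (k + 1)).card = k := by rw [card_Icc]; omega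
    rw [Finset.prod_const]
    refine pow_right_mono₀ (by omega) ((Finset.card_le_card fun x hx => ?_).trans this.le)
    obtain ⟨h1, h2⟩ := Finset.mem_filter.1 hx
    exact Finset.mem_Icc.mpr ⟨(Finset.mem_filter.1 h1).2.two_le, h2⟩
  · refine le_trans ?_ (primorial_le_four_pow (2 * n / 3))
    refine (Finset.prod_le_prod' fun p hp => (?_ : f p ≤ p)).trans ?_
    · obtain ⟨h1, h2⟩ := Finset.mem_filter.1 hp
      refine (pow_right_mono₀ (Finset.mem_filter.1 h1).2.one_lt.le ?_).trans (pow_one p).le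
      exact Nat.factorization_choose_le_one (sqrt_lt'.mp <| not_le.1 h2)
    refine Finset.prod_le_prod_of_subset_of_one_le' (Finset.filter_subset _ _) ?_
    exact fun p hp _ => (Finset.mem_filter.1 hp).2.one_lt.le

theorem exists_two_primes (n : ℕ) (hn : 11 ≤ n) :
    ∃ p q : ℕ, p.Prime ∧ q.Prime ∧ p < q ∧ n < 2 * p ∧ q ≤ n := by
  by_cases h : 1024 ≤ n
  · obtain ⟨p, h1, h2, h3, -⟩ := exists_prime_ne_large (n / 2) 0 (by omega)
    obtain ⟨q, k1, k2, k3, k4⟩ := exists_prime_ne_large (n / 2) p (by omega)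
    rcases lt_or_gt_of_ne k4 with c | c
    · exact ⟨q, p, k1, h1, c, by omega, by omega⟩
    · exact ⟨p, q, h1, k1, c, by omega, by omega⟩
  by_cases h : 607 ≤ n
  · exact ⟨601, 607, by norm_num, by norm_num, by omega, by omega, h⟩
  by_cases h : 311 ≤ n
  · exact ⟨307, 311, by norm_num, by norm_num, by omega, by omega, h⟩
  by_cases h : 163 ≤ n
  · exact ⟨157, 163, by norm_num, by norm_num, by omega, by omega, h⟩
  by_cases h : 89 ≤ n
  · exact ⟨83, 89, by norm_num, by norm_num, by omega, by omega, h⟩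
  by_cases h : 53 ≤ n
  · exact ⟨47, 53, by norm_num, by norm_num, by omega, by omega, h⟩
  by_cases h : 31 ≤ n
  · exact ⟨29, 31, by norm_num, by norm_num, by omega, by omega, h⟩
  by_cases h : 19 ≤ n
  · exact ⟨17, 19, by norm_num, by norm_num, by omega, by omega, h⟩
  by_cases h : 13 ≤ n
  · exact ⟨11, 13, by norm_num, by norm_num, by omega, by omega, h⟩
  exact ⟨7, 11, by norm_num, by norm_num, by omega, by omega, hn⟩

theorem le_of_pow_dvd_factorial {p k n : ℕ} (hp : p.Prime) (hn : n < p * p) (h : p ^ k ∣ n !) :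
    k * p ≤ n := by
  have h1 := (hp.pow_dvd_iff_le_factorization (factorial_ne_zero n)).1 h
  rw [factorization_factorial hp (b := 2) (log_lt_of_lt_pow' (by omega) (by rwa [pow_two]))] at h1
  simp only [Nat.Ico_succ_singleton, Finset.sum_singleton, pow_one] at h1
  exact (Nat.le_div_iff_mul_le hp.pos).1 h1

theorem not_sq_dvd_factorial {p n : ℕ} (hp : p.Prime) (hn : n < 2 * p) : ¬ p ^ 2 ∣ n ! := fun h => by
  have := le_of_pow_dvd_factorial hp (hn.trans_le (Nat.mul_le_mul_right p hp.two_le)) h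
  omega

variable {α : Type*} [Fintype α] [DecidableEq α]

theorem add_le_of_dvd_orderOf {σ : Perm α} {p q : ℕ} (hp : p.Prime) (hq : q.Prime) (hpq : p ≠ q)
    (h : p * q ∣ orderOf σ) : p + q ≤ Fintype.card α := by
  have k : ∀ r : ℕ, r.Prime → r ∣ orderOf σ → ∃ a ∈ σ.cycleType, r ∣ a := fun r hr h => by
    rw [← lcm_cycleType] at h
    exact (Prime.exists_mem_multiset_dvd hr.prime
      (h.trans (Multiset.lcm_dvd.2 fun b hb => Multiset.dvd_prod hb)))
  obtain ⟨a, ha, pa⟩ := k p hp ((Dvd.intro _ rfl).trans h)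
  obtain ⟨b, hb, qb⟩ := k q hq ((Dvd.intro_left _ rfl).trans h)
  have a0 := two_le_of_mem_cycleType ha
  have b0 := two_le_of_mem_cycleType hb
  have s : σ.cycleType.sum ≤ Fintype.card α := σ.sum_cycleType_le
  by_cases e : a = b
  · subst e
    have h1 := Nat.le_of_dvd (by omega) (((coprime_primes hp hq).2 hpq).mul_dvd_of_dvd_of_dvd pa qb)
    have h2 := Multiset.single_le_sum (fun _ _ => Nat.zero_le _) a ha
    have := Nat.add_le_mul hp.two_le hq.two_le
    omega
  · obtain ⟨t, ht⟩ := Multiset.exists_cons_of_mem ha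
    have hb' : b ∈ t := by rw [ht] at hb; exact (Multiset.mem_cons.1 hb).resolve_left (Ne.symm e)
    have h2 := Multiset.single_le_sum (fun _ _ => Nat.zero_le _) b hb'
    rw [ht, Multiset.sum_cons] at s
    have := Nat.le_of_dvd (by omega) pa
    have := Nat.le_of_dvd (by omega) qb
    omega

theorem exists_alt_odd {p q : ℕ} (hp : p.Prime) (hq : q.Prime) (hpq : p ≠ q) (p2 : p ≠ 2) (q2 : q ≠ 2)
    (h : p + q ≤ Fintype.card α) : ∃ g : alternatingGroup α, orderOf g = p * q := by
  obtain ⟨g, hg⟩ := (exists_with_cycleType_iff α (m := {p, q})).2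
    ⟨by simpa using h, by simp [hp.two_le, hq.two_le]⟩
  refine ⟨⟨g, mem_alternatingGroup.2 ?_⟩, ?_⟩
  · rw [sign_of_cycleType, hg]
    refine Even.neg_one_pow ?_
    simpa using ((hp.odd_of_ne_two p2).add_odd (hq.odd_of_ne_two q2)).add even_two
  · rw [Subgroup.orderOf_mk, ← lcm_cycleType, hg]
    simpa [lcm_eq_nat_lcm] using ((coprime_primes hp hq).2 hpq).lcm_eq_mul

theorem exists_alt_two {q : ℕ} (hq : q.Prime) (q2 : q ≠ 2)
    (h : q + 4 ≤ Fintype.card α) : ∃ g : alternatingGroup α, orderOf g = 2 * q := by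
  obtain ⟨g, hg⟩ := (exists_with_cycleType_iff α (m := {2, 2, q})).2
    ⟨by simp; omega, by simp [hq.two_le]⟩
  refine ⟨⟨g, mem_alternatingGroup.2 ?_⟩, ?_⟩
  · rw [sign_of_cycleType, hg]
    refine Even.neg_one_pow ?_
    obtain ⟨k, hk⟩ := hq.odd_of_ne_two q2
    exact ⟨k + 4, by simp; omega⟩
  · rw [Subgroup.orderOf_mk, ← lcm_cycleType, hg]
    have := ((coprime_primes prime_two hq).2 q2.symm).lcm_eq_mul
    simp [← lcm_assoc, lcm_eq_nat_lcm, this]

end H8.Sy
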