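import Cfsg.Agent.H8.TI2
import Cfsg.Agent.H8.TI3
import Cfsg.Agent.H1.Solvable
import Cfsg.Agent.H2.FPF2
import Cfsg.Agent.S0206
import Cfsg.Agent.S0564
import Cfsg.Agent.S1230
import Cfsg.Agent.S2503

/-!
Bender's count of involutions: the two cases of index two.
-/

set_option autoImplicit false
set_option linter.unusedSectionVars false

namespace H8.TI

open Subgroup

variable {G : Type*} [Group G]

theorem exists_conj_mem [Finite G] {H : Subgroup G} {p : ℕ} (hp : p.Prime) {y : G}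
    (hy : orderOf y = p) (h : ¬ p ∣ H.index) : ∃ g, g * y * g⁻¹ ∈ H := by
  haveI := Fact.mk hp
  have hP : IsPGroup p (Subgroup.zpowers y) := IsPGroup.of_card (n := 1) (by simp [hy])
  obtain ⟨c, hc⟩ := hP.nonempty_fixed_point_of_prime_not_dvd_card (G ⧸ H) h
  obtain ⟨g, rfl⟩ := QuotientGroup.mk_surjective c
  have := QuotientGroup.eq.1 (hc ⟨y, Subgroup.mem_zpowers y⟩)
  exact ⟨g⁻¹, by simpa [mul_assoc] using H.inv_mem this⟩

namespace Hz

variable [Finite G] {M : Subgroup G} {z : G} (h : Hz M z)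
include h

theorem cyclic_of {A : Subgroup G} (hA : IsCyclic A) (hc : Nat.card A = Nat.card M)
    (hco : (Nat.card M).Coprime M.index) : IsCyclic M := by
  have h1 := (Subgroup.one_lt_card_iff_ne_bot _).2 h.ne
  obtain ⟨r, hr, hrd⟩ := Nat.exists_prime_and_dvd h1.ne'
  haveI := Fact.mk hr
  obtain ⟨a, ha⟩ := exists_prime_orderOf_dvd_card' (G := A) r (hc ▸ hrd)
  have ha' : orderOf (a : G) = r := by rw [Subgroup.orderOf_coe, ha]
  obtain ⟨g, hg⟩ := exists_conj_mem hr ha' (H := M) (fun k =>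
    hr.one_lt.ne' (Nat.eq_one_of_dvd_coprimes hco hrd k))
  have a1 : g * a * g⁻¹ ≠ 1 := fun k => by
    have : (a : G) = 1 := by simpa using k
    rw [this, orderOf_one] at ha'
    exact hr.one_lt.ne ha'
  have hm : ∀ b : A, g * b * g⁻¹ ∈ M := fun b => h.cent hg a1 (by
    have : (b : G) * a = a * b := congrArg Subtype.val (hA.commutative.is_comm.comm b a)
    calc g * b * g⁻¹ * (g * a * g⁻¹) = g * (b * a) * g⁻¹ := by group
      _ = _ := by rw [this]; group)
  let f : A →* M := ((MulAut.conj g).toMonoidHom.comp A.subtype).codRestrict M hm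
  have hf : Function.Injective f := fun b b' e => Subtype.ext (by
    have := congrArg Subtype.val e
    simpa [f] using this)
  exact isCyclic_of_surjective f (hf.bijective_of_nat_card_le hc.ge).2

theorem caseA2 (hA : ∀ c ∈ Nm M, c * z = z * c → c = 1 ∨ c = z) {d : ℕ} (hd : 1 ≤ d)
    (hX : Nat.card (Subgroup.centralizer ({z} : Set G)) = 2 ^ (d + 1))
    (hM : Nat.card M = 2 ^ (d + 1) + 1)
    (hG : Nat.card G = Nat.card M * (2 ^ (d + 1) * (2 ^ (d + 1) - 1)))
    (hJ : ∀ j : G, j ≠ 1 → j * j = 1 → IsConj z j) :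
    ∃ (F : Type) (_ : Field F) (_ : Fintype F) (e : ℕ), 1 < e ∧ Fintype.card F = 2 ^ e ∧
      IsCyclic ↥M ∧ Nat.card M = 2 ^ e + 1 ∧
      Nonempty (G ≃* Matrix.ProjectiveSpecialLinearGroup (Fin 2) F) := by
  have h4 : 4 ≤ 2 ^ (d + 1) := by
    calc 4 = 2 ^ 2 := rfl
      _ ≤ _ := Nat.pow_le_pow_right (by norm_num) (by omega)
  have hev : 2 ∣ 2 ^ (d + 1) := dvd_pow_self 2 (by omega)
  have hi : (Subgroup.centralizer ({z} : Set G)).index = Nat.card M * (2 ^ (d + 1) - 1) := by
    have := (Subgroup.centralizer ({z} : Set G)).index_mul_card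
    rw [hX, hG] at this
    apply Nat.eq_of_mul_eq_mul_right (show 0 < 2 ^ (d + 1) by omega)
    rw [this]; ring
  have hi2 : ¬ 2 ∣ (Subgroup.centralizer ({z} : Set G)).index := by
    rw [hi, Nat.prime_two.dvd_mul, hM]; omega
  let T : Sylow 2 G := (h.pg_X hA).toSylow hi2
  have hT : (T : Subgroup G) = Subgroup.centralizer ({z} : Set G) := rfl
  obtain ⟨F, _, _, hF, ⟨e⟩⟩ := Cfsg.Agent.S1230.result T (by
      rw [hT]
      intro hc
      obtain ⟨g, hg⟩ := hc.exists_ofOrder_eq_natCard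
      have : orderOf g ∣ 2 := orderOf_dvd_of_pow_eq_one (Subtype.ext (by
        simpa [pow_two] using h.sq_X hA (Subgroup.mem_centralizer_singleton_iff.1 g.2)))
      have := Nat.le_of_dvd (by norm_num) this
      omega)
    (by
      rw [hT]
      intro hn
      obtain ⟨x, hx, x1⟩ := h.exists_ne
      have k := Subgroup.mem_centralizer_singleton_iff.1
        (hn.conj_mem z (Subgroup.mem_centralizer_singleton_iff.2 rfl) x)
      rcases hA _ (mul_mem (mul_mem (leN hx) h.zN) (inv_mem (leN hx))) k with k | k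
      · exact h.z1 (by simpa using k)
      · exact x1 (h.eq_one_of_z hx (mul_inv_eq_iff_eq_mul.1 k)))
    (by
      intro t ht
      obtain ⟨t1, t2⟩ := H26.orderOf_eq_two_iff'.1 ht
      obtain ⟨g, rfl⟩ := isConj_iff.1 (hJ t t1 t2)
      have key : ∀ c ∈ Subgroup.centralizer ({g * z * g⁻¹} : Set G), c * c = 1 := by
        intro c hc
        have e1 := Subgroup.mem_centralizer_singleton_iff.1 hc
        have e2 := h.sq_X hA (g := g⁻¹ * c * g) (by
          calc g⁻¹ * c * g * z = g⁻¹ * (c * (g * z * g⁻¹)) * g := by group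
            _ = _ := by rw [e1]; group)
        calc c * c = g * (g⁻¹ * c * g * (g⁻¹ * c * g)) * g⁻¹ := by group
          _ = 1 := by rw [e2]; group
      refine ⟨⟨⟨fun a b => Subtype.ext ?_⟩⟩, fun c hc => by rw [pow_two, key c hc]⟩
      have := inv_eq_of_sq (key _ (mul_mem a.2 b.2))
      rw [mul_inv_rev, inv_eq_of_sq (key _ a.2), inv_eq_of_sq (key _ b.2)] at this
      exact this.symm)
  rw [hT, hX] at hF
  refine ⟨F, inferInstance, inferInstance, d + 1, by omega, hF, ?_, hM, ⟨e⟩⟩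
  obtain ⟨A, -, hA1, hA2, -⟩ := Cfsg.Agent.S2503.result (F := F) (hF ▸ hev) (hF ▸ h4)
  have eA := A.equivMapOfInjective e.symm.toMonoidHom e.symm.injective
  refine h.cyclic_of (A := A.map e.symm.toMonoidHom) (isCyclic_of_surjective eA eA.surjective) ?_ ?_
  · rw [← Nat.card_congr eA.toEquiv, hA2, hF, hM]
  · have := M.index_mul_card
    rw [hG, mul_comm] at this
    rw [Nat.eq_of_mul_eq_mul_left Nat.card_pos this, hM]
    refine Nat.Coprime.mul_right (by simp; rw [Nat.odd_iff]; omega) ?_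
    obtain ⟨q, hq⟩ : ∃ q, 2 ^ (d + 1) = q + 1 := ⟨2 ^ (d + 1) - 1, by omega⟩
    rw [hq, Nat.add_sub_cancel, add_assoc, Nat.coprime_self_add_left, Nat.coprime_two_left]
    rw [Nat.odd_iff]; omega

theorem caseA1 (hA : ∀ c ∈ Nm M, c * z = z * c → c = 1 ∨ c = z) {d : ℕ} (hd : 1 ≤ d)
    (hM : Nat.card M = 2 ^ d + 1) (hG : Nat.card G = Nat.card M * 2 ^ (2 * d + 1)) :
    ∃ E : Subgroup G, E.Normal ∧ Cfsg.IsElementaryAbelian 2 E ∧ Nat.card E = 2 ^ (2 * d) ∧
      E ⊓ Nm M = ⊥ ∧ E ⊔ Nm M = ⊤ ∧ Nonempty (Nm M ≃* DihedralGroup (2 ^ d + 1)) := by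
  obtain ⟨S, hS⟩ := Sylow.exists_subgroup_card_pow_prime 2 (G := G) (n := 2 * d + 1)
    (hG ▸ dvd_mul_left _ _)
  have hc : S.IsComplement' M := Subgroup.isComplement'_of_coprime (by rw [hS, hG, mul_comm])
    (by rw [hS]; exact Nat.Coprime.pow_left _ (Nat.coprime_two_left.2 h.odd_M))
  have hsol : Group.IsSolvable G := by
    refine Cfsg.Agent.S0564.result S M (IsPGroup.of_card hS).isNilpotent ?_ fun g => ?_
    · haveI := h.isComm
      letI : CommGroup M := { (inferInstance : Group M) with mul_comm := mul_comm' }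
      infer_instance
    · obtain ⟨⟨a, b⟩, e⟩ := hc.2 g
      exact ⟨a, a.2, b, b.2, e.symm⟩
  obtain ⟨g0, hg0⟩ := h.nn
  obtain ⟨E, p, hE, E1, -, hp, hEc, hEp, -, -⟩ := H1.exists_minimal_normal_elementary
    (⊤ : Subgroup G) inferInstance (fun k => hg0 (by
      have : g0 = 1 := (Subgroup.eq_bot_iff_forall _).1 k g0 trivial
      rw [this]; exact one_mem _))
  have hEM : ∀ x ∈ E, x ∈ M → x = 1 := by
    intro x hx hxM
    by_contra x1
    refine x1 (h.ti g0 hg0 x hxM (h.cent hxM x1 ?_))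
    exact congrArg Subtype.val (hEc.is_comm.comm (⟨_, hE.conj_mem x hx g0⟩ : E) ⟨x, hx⟩)
  obtain ⟨x0, hx0, x01⟩ := h.exists_ne
  have hEN : E ⊓ Nm M = ⊥ := by
    rw [Subgroup.eq_bot_iff_forall]
    intro y hy
    have e := hEM (y * x0 * y⁻¹ * x0⁻¹)
      (by simpa [mul_assoc] using mul_mem hy.1 (hE.conj_mem _ (inv_mem hy.1) x0))
      (mul_mem (conj_mem hy.2 hx0) (inv_mem hx0))
    rw [mul_inv_eq_one, mul_inv_eq_iff_eq_mul] at e
    exact hEM y hy.1 (h.cent hx0 x01 e)
  have hfp : ∀ a ∈ M, a ≠ 1 → E ⊓ Subgroup.centralizer {a} = ⊥ := by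
    intro a ha a1
    rw [Subgroup.eq_bot_iff_forall]
    intro y hy
    exact hEM y hy.1 (h.cent ha a1 (Subgroup.mem_centralizer_singleton_iff.1 hy.2))
  have hnE : ∀ K : Subgroup G, K ≤ Subgroup.normalizer (E : Set G) := fun K => by
    rw [Subgroup.normalizer_eq_top]; exact le_top
  have hcard := FT.Cfsg.IsComplIn.card (FT.compl_sup' hEN (Or.inr (hnE _)))
  have hdv := Subgroup.card_subgroup_dvd_card (E ⊔ Nm M)
  rw [← hcard, h.card_N hA, hG] at hdv
  have hdv2 : Nat.card E ∣ 2 ^ (2 * d) := by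
    apply Nat.dvd_of_mul_dvd_mul_right (show 0 < 2 * Nat.card M by
      have : 0 < Nat.card M := Nat.card_pos
      omega)
    convert hdv using 1
    ring
  obtain ⟨j, hj, hEj⟩ := (Nat.dvd_prime_pow Nat.prime_two).1 hdv2
  have hE1 := (Subgroup.one_lt_card_iff_ne_bot _).2 E1
  have hj1 : 1 ≤ j := by
    rcases j with _ | j
    · simp [hEj] at hE1
    · omega
  have hj2 : j = 2 * d := arith2 hj1 hj (by rw [← hM, ← hEj]; exact FT.sreg_dvd (hnE _) hfp)
  subst hj2
  have hp2 : p = 2 := by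
    obtain ⟨y, hy, y1⟩ : ∃ y ∈ E, y ≠ 1 := by
      by_contra k
      push Not at k
      exact E1 ((Subgroup.eq_bot_iff_forall _).2 k)
    haveI := Fact.mk hp
    have h1 : orderOf y = p := orderOf_eq_prime (hEp y hy) y1
    have h2 : p ∣ Nat.card E := h1 ▸ Subgroup.orderOf_dvd_natCard E hy
    rw [hEj] at h2
    exact (Nat.prime_dvd_prime_iff_eq hp Nat.prime_two).1 (hp.dvd_of_dvd_pow h2)
  subst hp2
  refine ⟨E, hE, ⟨hEc, hEp⟩, hEj, hEN, ?_, ?_⟩
  · apply Subgroup.eq_top_of_card_eq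
    rw [← hcard, h.card_N hA, hG, hEj]; ring
  · haveI := h.isComm
    have hcy : IsCyclic M := H2.isCyclic_of_fpf_comm M E E1 (hnE _) hfp
    obtain ⟨a, ha⟩ := hcy.exists_generator
    have hao : orderOf (a : G) = 2 ^ d + 1 := by
      rw [Subgroup.orderOf_coe, orderOf_eq_card_of_forall_mem_zpowers ha, hM]
    have hza : orderOf (z * a) = 2 := H26.orderOf_eq_two_iff'.2
      ⟨fun k => h.z_not_mem (by rw [eq_inv_of_mul_eq_one_left k]; exact inv_mem a.2),
        by rw [← mul_assoc, h.zx a.2, inv_mul_cancel]⟩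
    have a1 : (a : G) ≠ 1 := fun k => by
      rw [k, orderOf_one] at hao
      have : 0 < 2 ^ d := by positivity
      omega
    have := Cfsg.Agent.S0206.result z (z * a) (H26.orderOf_eq_two_iff'.2 ⟨h.z1, h.zz⟩) hza
      (fun k => a1 (by simpa using k))
    rw [← mul_assoc, h.zz, one_mul, hao] at this
    have e : Subgroup.closure ({z, z * a} : Set G) = Nm M := by
      apply le_antisymm
      · rw [Subgroup.closure_le]
        rintro _ (rfl | rfl)
        · exact h.zN
        · exact mul_mem h.zN (leN a.2)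
      · have hz : z ∈ Subgroup.closure ({z, z * a} : Set G) := Subgroup.subset_closure (by simp)
        have ha2 : (a : G) ∈ Subgroup.closure ({z, z * a} : Set G) := by
          have h2 : z * a ∈ Subgroup.closure ({z, z * a} : Set G) := Subgroup.subset_closure (by simp)
          simpa using mul_mem (inv_mem hz) h2
        have hMle : ∀ x ∈ M, x ∈ Subgroup.closure ({z, z * a} : Set G) := by
          intro x hx
          obtain ⟨n, hn⟩ := ha ⟨x, hx⟩
          have : x = (a : G) ^ n := by simpa using (congrArg Subtype.val hn).symm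
          rw [this]; exact zpow_mem ha2 n
        intro g hg
        rcases h.memN hA hg with k | k
        · exact hMle g k
        · simpa using mul_mem (hMle _ k) (inv_mem hz)
    rw [← e]; exact this

end Hz

end H8.TI
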