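import Cfsg.Agent.H8.UT5c
import Cfsg.Agent.H8.UT5d
import Cfsg.Agent.H10.GD3
/-! Groups whose Sylow 2-subgroups are the quotient of the unitriangular group of degree five by its centre:
the abelian subgroup of order 64 is normal modulo the core. -/
set_option autoImplicit false
namespace H8.UT5
open Cfsg Cfsg.Agent.S3171 Subgroup H16

universe u
variable {G : Type u} [Group G] [Finite G]

theorem hs_of (P : Sylow 2 G) (e : P ≃* S) : HS G := by
  have := Fact.mk Nat.prime_two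
  intro T hT
  obtain ⟨Q, hQ⟩ := hT.exists_le_sylow
  refine ⟨(Q : Subgroup G).subtype.comp (e.symm.trans (Sylow.equiv P Q)).toMonoidHom,
    Subtype.val_injective.comp (e.symm.trans (Sylow.equiv P Q)).injective, fun x hx => ?_⟩
  obtain ⟨y, hy⟩ := (e.symm.trans (Sylow.equiv P Q)).surjective ⟨x, hQ hx⟩
  exact ⟨y, congrArg Subtype.val hy⟩

theorem exists_phi {ι : S →* G} (hι : Function.Injective ι) :
    ∃ Φ : N[rho.ker.map ι] →* EV, ∀ n x, ι (emb (Φ n x)) = n * ι (emb x) * (n : G)⁻¹ := by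
  have k : ∀ (n : N[rho.ker.map ι]) (x : V), ∃ y, ι (emb y) = n * ι (emb x) * (n : G)⁻¹ := by
    intro n x
    obtain ⟨a, ha, e⟩ := conj_mem n.2 (mem_map_of_mem ι (emb_mem x))
    exact ⟨co a, by rw [emb_co ha, e]⟩
  choose f hf using k
  have inj : ∀ {x y}, ι (emb x) = ι (emb y) → x = y := fun h => emb_inj (hι h)
  let φ : N[rho.ker.map ι] → EV := fun n => AddMonoidHom.mk' (f n) fun x y => inj (by
    rw [hf, emb_add, emb_add, map_mul, map_mul, hf, hf]; group)
  refine ⟨⟨⟨φ, AddMonoidHom.ext fun x => inj ?_⟩, fun a b => AddMonoidHom.ext fun x => inj ?_⟩, hf⟩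
  · change ι (emb (f 1 x)) = ι (emb x)
    rw [hf]; simp
  · change ι (emb (f (a * b) x)) = ι (emb (f a (f b x)))
    rw [hf, hf, hf, coe_mul]; group

theorem norm_cent_of {ι : S →* G} (hι : Function.Injective ι) {K : Subgroup G} [K.Normal]
    (ho : Odd ((rho.ker.map ι).relIndex K)) (hK : rho.ker.map ι ≤ K) :
    K ⊓ N[rho.ker.map ι] ≤ C[rho.ker.map ι] := by
  set A := rho.ker.map ι with hA
  obtain ⟨Φ, hΦ⟩ := exists_phi hι
  have inj : ∀ {x y}, ι (emb x) = ι (emb y) → x = y := fun h => emb_inj (hι h)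
  have nA : ∀ d, ι d ∈ N[A] := fun d => (le_norm_iff (A := ι.range)).2 (by
    rintro _ ⟨d, rfl⟩ _ ⟨a, ha, rfl⟩
    exact ⟨d * a * d⁻¹, (inferInstance : rho.ker.Normal).conj_mem _ ha d, by simp⟩) ⟨d, rfl⟩
  have pa : ∀ d, Φ ⟨ι d, nA d⟩ = act d := fun d => AddMonoidHom.ext fun x => inj ((hΦ _ x).trans (by
    change _ = ι (emb (co (d * emb x * d⁻¹)))
    rw [emb_act]; simp))
  have nm : ∀ (d : S) (X : EV) (h : X * X = 1), d * d = 1 → act d = X →
      ∀ γ ∈ (K.subgroupOf N[A]).map Φ.toHomUnits, uu X h * γ * uu X h ∈ (K.subgroupOf N[A]).map Φ.toHomUnits := by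
    rintro d X h d2 rfl _ ⟨n, hn, rfl⟩
    refine ⟨⟨ι d, nA d⟩ * n * ⟨ι d, nA d⟩, ?_, Units.ext ?_⟩
    · have := (inferInstance : K.Normal).conj_mem _ hn (ι d)
      rwa [inv_eq_of_mul_eq_one_right (show ι d * ι d = 1 by rw [← map_mul, d2, map_one])] at this
    · simp only [map_mul, MonoidHom.coe_toHomUnits, Units.val_mul, pa]; rfl
  haveI : (A.subgroupOf (K ⊓ N[A])).Normal := normal_subgroupOf_of_le_normalizer inf_le_right
  have om : Odd (A.relIndex (K ⊓ N[A])) :=
    ho.of_dvd_nat ⟨_, (relIndex_mul_relIndex A (K ⊓ N[A]) K (le_inf hK (le_norm A)) inf_le_left).symm⟩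
  have := odd_triv ((K.subgroupOf N[A]).map Φ.toHomUnits) om (by
      rintro _ ⟨n, hn, rfl⟩
      have : (n : G) ^ A.relIndex (K ⊓ N[A]) ∈ A :=
        pow_index_mem (H := A.subgroupOf (K ⊓ N[A])) (⟨n, hn, n.2⟩ : ↥(K ⊓ N[A]))
      obtain ⟨a, ha, e⟩ := this
      rw [← map_pow]
      refine Units.ext (AddMonoidHom.ext fun x => inj ?_)
      change ι (emb (Φ _ x)) = ι (emb x)
      rw [hΦ, SubgroupClass.coe_pow, ← e, ← map_mul, ker_comm ha (emb_mem x), map_mul, mul_inv_cancel_right])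
    (nm r0 _ _ (by decide +kernel) rfl) (nm s0 _ _ (by decide +kernel) rfl) (nm u0 _ _ (by decide +kernel) rfl)
  intro n hn
  have e : Φ.toHomUnits ⟨n, hn.2⟩ = 1 := mem_bot.1 (this ▸ mem_map_of_mem _ (show (⟨n, hn.2⟩ : N[A]) ∈ _ from hn.1))
  have e' : Φ ⟨n, hn.2⟩ = 1 := congrArg Units.val e
  refine mem_cent.2 ?_
  rintro _ ⟨a, ha, rfl⟩
  have := hΦ ⟨n, hn.2⟩ (co a)
  rw [e'] at this
  change ι (emb (co a)) = n * _ * n⁻¹ at this
  rw [emb_co ha] at this
  conv_lhs => rw [this]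
  group

theorem normal_of (hO : pPrimeCore 2 G = ⊥) (P : Sylow 2 G) (e : P ≃* S) {A : Subgroup G} (b : Ab A)
    (l : A ≤ P) : A.Normal := by
  have := Fact.mk Nat.prime_two
  have h := hs_of P e
  have h0 : H10.SA (P : Subgroup G) A :=
    ⟨H10.isSylowIn_top P, l, H16.comm_iff.1 b.comm, fun a ha g hg => h.sc P.isPGroup' b l ha hg⟩
  set K := normalClosure (A : Set G) with hK
  have AK : A ≤ K := le_normalClosure
  have hO' : pPrimeCore 2 K = ⊥ := by
    have := H1.map_pPrimeCore_subtype_le 2 K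
    rw [hO, le_bot_iff, map_eq_bot_iff_of_injective _ K.subtype_injective] at this
    exact this
  have h1 := h0.sub AK
  have eq := h1.eq_sup h0.ncl_sub hO'
  have PK : (P : Subgroup G) ⊓ K = A := by
    refine le_antisymm (fun x hx => by_contra fun c => ?_) (le_inf l AK)
    obtain ⟨y, hy, a1, a2⟩ := h.f5 (P.isPGroup'.to_le inf_le_left) b (le_inf l AK) hx c
    have : (⟨y, hy.2⟩ : K) ∈ A.subgroupOf K := by
      rw [eq]
      exact mem_sup_right (subset_closure ⟨hy, Subtype.ext (by simp [sq, a2])⟩)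
    exact a1 this
  obtain ⟨Q, hQ⟩ := h1.syl.exists_sylow_top
  rw [PK] at hQ
  obtain ⟨ι, hι, l'⟩ := h P P.isPGroup'
  have eA := b.eq_map hι (l.trans l')
  have ho : Odd (A.relIndex K) := by
    have := Q.not_dvd_index
    rw [hQ] at this
    exact Nat.not_even_iff_odd.1 fun c => this c.two_dvd
  have nc : K ⊓ N[A] ≤ C[A] := by
    have := norm_cent_of hι (K := K) (by rwa [eA]) (by rwa [eA])
    rwa [eA] at this
  have hP : normalizer ((Q : Subgroup K) : Set K) ≤ centralizer ((Q : Subgroup K) : Set K) := by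
    rw [hQ]
    intro n hn
    have : (n : G) ∈ N[A] := mem_norm_of_cj_le (cj_le_forall.2 fun a ha =>
      mem_subgroupOf.1 (conj_mem hn (show (⟨a, AK ha⟩ : K) ∈ A.subgroupOf K from ha)))
    exact mem_cent.2 fun a ha => Subtype.ext (mem_cent.1 (nc ⟨n.2, this⟩) a ha)
  have c := MonoidHom.ker_transferSylow_isComplement' Q hP
  have z := H1.pPrimeCore_eq_bot_iff.1 hO' _ inferInstance
    (Nat.prime_two.coprime_iff_not_dvd.2 (MonoidHom.not_dvd_card_ker_transferSylow Q hP)).symm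
  rw [z, isComplement'_bot_left, hQ, subgroupOf_eq_top] at c
  rw [le_antisymm AK c]
  infer_instance

end H8.UT5
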