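import Cfsg.Agent.H3.Hd2

set_option autoImplicit false
open Subgroup Cfsg.Agent.H3 Cfsg.Agent.H3.Hd

namespace H8Y1

variable {G : Type*} [Group G] [Finite G] {A B : Subgroup G} [B.Normal] {a : G}

theorem cc (T : Subgroup (G ⧸ B)) :
    Nat.card (T.comap (QuotientGroup.mk' B)) = Nat.card B * Nat.card T := by
  have h1 := crd (K := B) (D := T.comap (QuotientGroup.mk' B))
  rw [inf_eq_left.2 (QuotientGroup.le_comap_mk' B T)] at h1
  rw [← h1]
  congr 1
  have h2 := relIndex_ker (T.comap (QuotientGroup.mk' B)) (QuotientGroup.mk' B)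
  rwa [QuotientGroup.ker_mk', map_comap_eq_self_of_surjective (QuotientGroup.mk'_surjective B)]
    at h2

theorem y1 (h : St A B) (g : Gd A B) (ha : a ∈ A) (aB : a ∉ B) (c4 : Nat.card ↥(A ⊓ B) = 4)
    (c64 : 64 ≤ Nat.card (centralizer ((A ⊓ B : Subgroup G) : Set G))) :
    ∃ Y, Y1 B (centralizer ((A ⊓ B : Subgroup G) : Set G)) Y a := by
  set S := centralizer ((A ⊓ B : Subgroup G) : Set G) with hS
  set q := QuotientGroup.mk' B with hq
  have c8 := h.c8
  have a8 := h.a8
  have aC : a ∉ centralizer (B : Set G) := fun e => aB (g.ac ⟨ha, e⟩)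
  have CS : centralizer (B : Set G) ≤ S := centralizer_le fun y hy => hy.2
  have BS : B ≤ S := h.BC.trans CS
  have aS : a ∈ S := fun y hy => h.aab hy.1 ha
  have aa := h.a2 a ha
  have cP := (tv c8 h.e2 h.ab aa aC).1
  have eS : (S.map q).comap q = S := by
    rw [comap_map_eq, QuotientGroup.ker_mk', sup_eq_left.2 BS]
  have cS := cc (B := B) (S.map q)
  rw [← hq, eS, c8] at cS
  have qe : ∀ x y : G, q x = q y ↔ x⁻¹ * y ∈ B := fun x y => QuotientGroup.eq
  have h1 : centralizer {a} ⊓ S ≤ A := fun x hx => h.cA.le fun y hy => by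
    by_cases e : y ∈ B
    · exact hx.2 y ⟨hy, e⟩
    have h2 := H17.Mw.two_mul (inf_le_left : A ⊓ B ≤ A) (by omega) hy (inv_mem ha)
      (fun e' => e e'.2) fun e' => aB (inv_mem_iff.1 e'.2)
    have := (show Commute (y * a⁻¹) x from hx.2 _ h2).mul_left
      (show Commute a x from (mem_centralizer_singleton_iff.1 hx.1).symm)
    rwa [inv_mul_cancel_right] at this
  have h4 : Nat.card ↥(centralizer {q a} ⊓ S.map q) ≤ 4 := by
    have h2 := cc (B := B) (centralizer {q a} ⊓ S.map q)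
    rw [← hq, comap_inf, eS] at h2
    have h3 := bd (X := (centralizer {q a}).comap q ⊓ S) (L := B ⊓ centralizer {a}) (a := a)
      fun x hx => by
        have : x * a * x⁻¹ * a⁻¹ ∈ B := by
          rw [← QuotientGroup.ker_mk' B, MonoidHom.mem_ker, ← hq, map_mul, map_mul, map_mul,
            mem_centralizer_singleton_iff.1 hx.1, map_inv, map_inv]
          group
        exact ⟨this, cinv aa (h.e2 _ this)⟩
    have h5 := card_le_of_le ((inf_le_inf_left _ inf_le_right).trans h1 :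
      centralizer {a} ⊓ ((centralizer {q a}).comap q ⊓ S) ≤ A)
    nlinarith
  have sqC : ∀ u ∈ S, u * u ∈ centralizer (B : Set G) := fun u hu b hb => by
    by_cases e : b ∈ A
    · exact ((show Commute b u from hu b ⟨e, hb⟩).mul_right (hu b ⟨e, hb⟩)).eq
    have h2 := H17.Mw.two_mul (inf_le_right : A ⊓ B ≤ B) (by omega)
      (Normal.conj_mem ‹B.Normal› b hb u) (inv_mem hb) (fun e' => e (by
        have := hu _ e'
        rw [inv_mul_cancel_right, mul_assoc, mul_right_inj] at this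
        rw [this, ← mul_assoc]
        exact e'.1)) fun e' => e (inv_mem_iff.1 e'.1)
    have h3 := hu _ h2
    have h5 := h.e2 _ h2.2
    set p := u * b * u⁻¹ * b⁻¹ with hp
    have h6 : u * b = p * b * u := by rw [hp]; group
    symm
    calc u * u * b = u * p * b * u := by rw [mul_assoc, h6]; group
      _ = p * (u * b) * u := by rw [← h3]; group
      _ = p * p * b * (u * u) := by rw [h6]; group
      _ = _ := by rw [h5, one_mul]
  have dec : ∀ u y : G, q y ∈ zpowers (q u * q u) → ∃ k : ℤ, ∃ b ∈ B, y = (u * u) ^ k * b := by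
    rintro u y ⟨k, hk⟩
    refine ⟨k, _, (qe ((u * u) ^ k) y).1 ?_, by group⟩
    rw [map_zpow, map_mul]
    exact hk
  have inC : ∀ u ∈ S, ∀ y, q y ∈ zpowers (q u * q u) → y ∈ centralizer (B : Set G) :=
    fun u hu y hy => by
      obtain ⟨k, b, hb, rfl⟩ := dec u y hy
      exact mul_mem (zpow_mem (sqC u hu) k) (h.BC hb)
  obtain ⟨_, ⟨u, hu, rfl⟩, m1, m2, m3, m4, m5⟩ := mc (h.hG.to_quotient B) (T := S.map q)
    (mem_map_of_mem q aS) (by rw [← map_mul, aa, map_one]) h4 (by omega) (by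
      rintro _ ⟨u, hu, rfl⟩ e
      exact aC (inC u hu a e))
  refine ⟨(zpowers (q u * q u)).comap q, QuotientGroup.le_comap_mk' B _, inC u hu,
    fun y hy => CS (inC u hu y hy), fun x hx y hy => ?_,
    fun r hr => mem_comap.2 (by rw [map_mul]; exact m1 _ (mem_map_of_mem q hr)),
    by rwa [relIndex_comap], fun y hy => ?_, ⟨u, hu, fun e => m4 ?_, dec u⟩,
    fun a' ha' s hs e1 e2 e3 e4 e5 e6 y hy e => m5 _ (mem_map_of_mem q ha') _ (mem_map_of_mem q hs)
      (by rw [← map_mul, e1, map_one]) e2 (by rwa [← map_inv, ← map_mul]) e4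
      (by rwa [← map_inv, ← map_mul]) (by rwa [← map_inv, ← map_mul]) _ hy
      (by rw [← map_mul, e, map_mul])⟩
  · obtain ⟨k, b, hb, rfl⟩ := dec u x hx
    refine Commute.mul_left ?_ (inC u hu y hy b hb)
    obtain ⟨j, c, hc, rfl⟩ := dec u y hy
    exact ((Commute.refl _).zpow_zpow k j).mul_right
      (Commute.zpow_left (sqC u hu c hc).symm k)
  · obtain ⟨_, ⟨r, hr, rfl⟩, e⟩ := m3 _ hy
    refine ⟨r, hr, _, (qe (r * a * r⁻¹ * a⁻¹) y).1 ?_, by group⟩
    rw [e, map_mul, map_mul, map_mul, map_inv, map_inv]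
  · rw [← map_mul]
    exact (QuotientGroup.eq_one_iff _).2 e

end H8Y1
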