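import Cfsg.Agent.H8.Z4a
import Cfsg.Agent.H5.G0s
import Cfsg.Agent.H19.BS3
import Cfsg.Agent.H3.Alperin
import Cfsg.Agent.H6.DH

/-! Perfect groups whose Sylow `2`-subgroup has centre of index four. -/

set_option autoImplicit false
set_option linter.unusedSectionVars false

namespace H8.Z4
open Subgroup H10 Cfsg
open scoped commutatorElement

variable {G : Type*} [Group G] [Finite G]
variable {P A B S S' D : Subgroup G} {z s a b c t u v x y w g n : G}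

theorem sq_of_conj (h : z * z = 1) (e : IsConj z y) : y * y = 1 := by
  obtain ⟨g, rfl⟩ := isConj_iff.1 e
  rw [conj_mul, h]; simp

theorem MA.not_sq (h : MA P A) (k : T4 P z) (hy : y ∈ A) (e : IsConj z y) (hne : y ≠ z) (hc : c ∈ A) :
    c * c ≠ z := fun e' => by
  obtain ⟨S, k1, h1⟩ := h.exists_over k hy e
  exact hne (k1.eq_of_conj (e' ▸ k1.sq (h1.le hc)) e.symm).symm

theorem T4.conj_of_nc (k : T4 P z) (hu : u ∈ P) (hv : v ∈ P) (e : u * v ≠ v * u) :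
    u * v * u⁻¹ = v * z :=
  (k.comm u hu v hv).resolve_left fun e' => e (by rw [← mul_inv_eq_iff_eq_mul, e'])

theorem T4.mul_sq (k : T4 P z) (hu : u ∈ P) (hv : v ∈ P) (u2 : u * u = 1) (v2 : v * v = 1)
    (e : u * v ≠ v * u) : u * v * (u * v) = z := by
  have := k.conj_of_nc hu hv e
  rw [inv_eq_of_mul_eq_one_right u2] at this
  rw [← mul_assoc, this, mul_assoc, ← k.zc v hv, ← mul_assoc, v2, one_mul]

theorem not_CC (hu : u ∈ P) (e : u * v ≠ v * u) : v ∉ CC(P) := fun h => e (h u hu)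

theorem T4.three_nc (k : T4 P z) (hu : u ∈ P) (hv : v ∈ P) (hw : w ∈ P) (e1 : IsConj z u)
    (e2 : IsConj z v) (e3 : IsConj z w) (n1 : u * v ≠ v * u) (n2 : w * u ≠ u * w)
    (n3 : w * v ≠ v * w) : False := by
  have w1 : w ∉ CC(P) := not_CC hu n2.symm
  refine (k.ma hw w1).not_sq k ⟨hw, mem_centralizer_singleton_iff.2 rfl⟩ e3
    (fun e => w1 (e ▸ k.zc)) (c := u * v) ⟨mul_mem hu hv, mem_centralizer_singleton_iff.2 ?_⟩
    (k.mul_sq hu hv (sq_of_conj k.zz e1) (sq_of_conj k.zz e2) n1)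
  have : w * (u * v) * w⁻¹ = u * v := by
    rw [← conj_mul, k.conj_of_nc hw hu n2, k.conj_of_nc hw hv n3, mul_assoc, ← mul_assoc z,
      ← k.zc v hv, mul_assoc, k.zz, mul_one]
  rw [← mul_inv_eq_iff_eq_mul.1 this]

theorem T4.gen (k : T4 P z) (hu : u ∈ P) (hv : v ∈ P) (e : v * u ≠ u * v) {K : Subgroup G}
    (hZ : P ⊓ CC(P) ≤ K) (uK : u ∈ K) (vK : v ∈ K) : P ≤ K := by
  have u1 : u ∉ CC(P) := not_CC hv e
  have h := k.ma hu u1
  have m : u ∈ P ⊓ centralizer {u} := ⟨hu, mem_centralizer_singleton_iff.2 rfl⟩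
  have q : P ⊓ centralizer {u} ≤ K := fun a ha => by
    by_cases c : a ∈ CC(P)
    · exact hZ ⟨ha.1, c⟩
    · exact (mul_mem_cancel_right uK).1 (hZ ⟨mul_mem ha.1 hu, h.two k ha m c u1⟩)
  intro x hx
  by_cases c : x ∈ P ⊓ centralizer {u}
  · exact q c
  · exact (mul_mem_cancel_right vK).1 (q (mul_mem_two h.idx hx hv c
      (fun c => e (mem_centralizer_singleton_iff.1 c.2))))

/-- elements of `P` fixed by `g` modulo the centre -/
def fixMod (g : G) (P : Subgroup G) : Subgroup G where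
  carrier := {x | x ∈ P ∧ g * x * g⁻¹ * x⁻¹ ∈ CC(P)}
  one_mem' := ⟨one_mem _, by simp⟩
  mul_mem' := fun {x y} hx hy => ⟨mul_mem hx.1 hy.1, by
    have : g * (x * y) * g⁻¹ * (x * y)⁻¹ = g * x * g⁻¹ * x⁻¹ * (x * (g * y * g⁻¹ * y⁻¹) * x⁻¹) := by
      group
    rw [this, hy.2 x hx.1, mul_inv_cancel_right]
    exact mul_mem hx.2 hy.2⟩
  inv_mem' := fun {x} hx => ⟨inv_mem hx.1, by
    have : g * x⁻¹ * g⁻¹ * x⁻¹⁻¹ = x⁻¹ * (g * x * g⁻¹ * x⁻¹)⁻¹ * x := by group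
    rw [this, inv_mem hx.2 _ (inv_mem hx.1), inv_mul_cancel_right]
    exact inv_mem hx.2⟩

theorem conj_CC (hn : n ∈ NN(P)) (hc : c ∈ CC(P)) : n * c * n⁻¹ ∈ CC(P) :=
  conj_mem_of_mem_NN (NN_le_NN_CC P hn) hc

theorem not_conj_CC (hn : n ∈ NN(P)) (hc : c ∉ CC(P)) : n * c * n⁻¹ ∉ CC(P) := fun h =>
  hc (by simpa [mul_assoc] using conj_mem_of_mem_NN' (NN_le_NN_CC P hn) h)

theorem T4.mem_stab (k : T4 P z) (hn : n ∈ NN(P)) (hu : u ∈ P) (hv : v ∈ P) (e : v * u ≠ u * v)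
    (h1 : n * u * n⁻¹ * u⁻¹ ∈ CC(P)) (h2 : n * v * n⁻¹ * v⁻¹ ∈ CC(P)) : n ∈ stabMod P CC(P) :=
  ⟨NN_le_NN_CC P hn, fun _ hx => (k.gen (K := fixMod n P) hu hv e
    (fun _ hc => ⟨hc.1, mul_mem (conj_CC hn hc.2) (inv_mem hc.2)⟩) ⟨hu, h1⟩ ⟨hv, h2⟩ hx).2⟩

theorem T4.of_sq (k : T4 P z) (hn : n ∈ NN(P)) (h : n * n ∈ stabMod P CC(P)) :
    n ∈ stabMod P CC(P) := by
  have := normal_subgroupOf (N := P) (L := NN(P)) le_rfl
  have h1 : n ^ P.relIndex NN(P) ∈ P := (P.subgroupOf NN(P)).pow_index_mem ⟨n, hn⟩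
  have h2 := (k.syl.of_le (le_NN_self P) le_top).not_dvd_relIndex
  obtain ⟨m, hm⟩ := Nat.not_even_iff_odd.1 (fun e => h2 (even_iff_two_dvd.1 e))
  have h3 : n ^ P.relIndex NN(P) ∈ stabMod P CC(P) := by
    generalize n ^ P.relIndex NN(P) = p at h1
    refine ⟨NN_le_NN_CC P (le_NN_self P h1), fun v hv => ?_⟩
    rw [commutatorElement_def]
    rcases k.comm p h1 v hv with e | e <;> rw [e]
    · simp
    · rw [k.zc v hv, mul_inv_cancel_right]; exact k.zc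
  rw [hm, pow_succ, pow_mul, pow_two] at h3
  exact (mul_mem_cancel_left (pow_mem h m)).1 h3

theorem T4.N_le (k : T4 P z) (hy : y ∈ P) (e : IsConj z y) (hne : y ≠ z) :
    NN(P) ≤ stabMod P CC(P) := fun n hn => by
  have y0 : y ∉ CC(P) := fun c => hne (k.eq_of_conj c e)
  have h := k.ma hy y0
  have m : y ∈ P ⊓ centralizer {y} := ⟨hy, mem_centralizer_singleton_iff.2 rfl⟩
  have yi : y⁻¹ = y := inv_eq_of_mul_eq_one_right (sq_of_conj k.zz e)
  have nn : ∀ x : G, n * n * x * (n * n)⁻¹ = n * (n * x * n⁻¹) * n⁻¹ := fun x => by group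
  have p1 := conj_mem_of_mem_NN hn hy
  have p2 := conj_mem_of_mem_NN hn p1
  have c1 := not_conj_CC hn y0
  have c2 := not_conj_CC hn c1
  refine k.of_sq hn ?_
  by_cases a1 : n * y * n⁻¹ * y = y * (n * y * n⁻¹)
  · have hA := h.cjm n
    rw [cj_eq_of_mem_NN hn] at hA
    have nA := mem_NN.2 (hA.eq h k (conj_mem_cj m) ⟨p1, mem_centralizer_singleton_iff.2 a1⟩ c1)
    obtain ⟨t, ht, ht'⟩ := h.exists_not
    refine k.mem_stab (mul_mem hn hn) hy ht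
      (fun c => ht' ⟨ht, mem_centralizer_singleton_iff.2 c⟩) ?_ ?_
    · rw [nn, yi]
      exact h.two k (conj_mem_of_mem_NN nA (conj_mem_of_mem_NN nA m)) m c2 y0
    · have d : n * t * n⁻¹ * t⁻¹ ∈ P ⊓ centralizer {y} :=
        mul_mem_two h.idx (conj_mem_of_mem_NN hn ht) (inv_mem ht)
          (fun c => ht' (by simpa [mul_assoc] using conj_mem_of_mem_NN' nA c))
          (fun c => ht' (inv_mem_iff.1 c))
      rw [show n * n * t * (n * n)⁻¹ * t⁻¹ = n * (n * t * n⁻¹ * t⁻¹) * n⁻¹ * (n * t * n⁻¹ * t⁻¹) by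
        group]
      by_cases c : n * t * n⁻¹ * t⁻¹ ∈ CC(P)
      · exact mul_mem (conj_CC hn c) c
      · exact h.two k (conj_mem_of_mem_NN nA d) d (not_conj_CC hn c) c
  by_cases a2 : n * (n * y * n⁻¹) * n⁻¹ * y = y * (n * (n * y * n⁻¹) * n⁻¹)
  · have q : n * n * y * (n * n)⁻¹ * y⁻¹ ∈ CC(P) := by
      rw [nn, yi]
      exact h.two k ⟨p2, mem_centralizer_singleton_iff.2 a2⟩ m c2 y0
    refine k.mem_stab (mul_mem hn hn) hy p1 a1 q ?_
    have := conj_CC hn q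
    rwa [show n * (n * n * y * (n * n)⁻¹ * y⁻¹) * n⁻¹ =
      n * n * (n * y * n⁻¹) * (n * n)⁻¹ * (n * y * n⁻¹)⁻¹ by group] at this
  have e1 : IsConj z (n * y * n⁻¹) := e.trans (isConj_iff.2 ⟨n, rfl⟩)
  refine (k.three_nc hy p1 p2 e e1 (e1.trans (isConj_iff.2 ⟨n, rfl⟩)) (Ne.symm a1) a2 fun c => a1 ?_).elim
  rw [conj_mul, conj_mul] at c
  simpa using c

theorem MA.N_le (h : MA P A) (k : T4 P z) (hN : NN(P) ≤ stabMod P CC(P)) : NN(P) ≤ NN(A) :=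
  le_NN_iff.2 fun n hn a ha => by
    have p := conj_mem_of_mem_NN hn (h.le ha)
    have := h.Z_le k (mul_mem p (inv_mem (h.le ha))) ((hN hn).2 a (h.le ha))
    exact (mul_mem_cancel_right (inv_mem ha)).1 this

/-- elements central in all Sylow subgroups meeting `P` in an abelian subgroup of index two -/
def DD (P : Subgroup G) : Subgroup G :=
  P ⊓ sInf {X | ∃ A S s, MA P A ∧ MA S A ∧ T4 S s ∧ X = CC(S)}

theorem mem_DD : c ∈ DD P ↔ c ∈ P ∧ ∀ A S s, MA P A → MA S A → T4 S s → c ∈ CC(S) := by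
  simp only [DD, mem_inf, mem_sInf, Set.mem_setOf_eq]
  exact and_congr_right fun _ => ⟨fun h A S s h1 h2 h3 => h _ ⟨A, S, s, h1, h2, h3, rfl⟩,
    fun h X ⟨A, S, s, h1, h2, h3, e⟩ => e ▸ h A S s h1 h2 h3⟩

theorem T4.DD_le (k : T4 P z) : DD P ≤ CC(P) := fun _ hc => by
  obtain ⟨A, hA, -⟩ := k.exists_ma k.zP
  exact (mem_DD.1 hc).2 A P z hA hA k

theorem N_le_DD : NN(P) ≤ NN(DD P) := le_NN_iff.2 fun g hg x hx => by
  obtain ⟨h1, h2⟩ := mem_DD.1 hx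
  refine mem_DD.2 ⟨conj_mem_of_mem_NN hg h1, fun A S s hA hS k => ?_⟩
  have hA' := hA.cjm g⁻¹
  rw [cj_eq_of_mem_NN (inv_mem hg)] at hA'
  have := h2 _ _ _ hA' (hS.cjm g⁻¹) (k.conj g⁻¹)
  rwa [← cj_centralizer, mem_cj, inv_inv] at this

theorem T4.sc_DD (k : T4 P z) (hx : x ∈ DD P) (hg : g * x * g⁻¹ ∈ P) : g * x * g⁻¹ ∈ DD P := by
  refine (k.fusion (R := fun a b => a ∈ DD P ↔ b ∈ DD P) ⟨fun _ => Iff.rfl, Iff.symm, Iff.trans⟩
    (fun x _ n hn => ?_) (fun A S s hA hS k1 _ a _ ha => ?_) hx.1 hg).1 hx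
  · exact (mem_normalizer_iff.1 (N_le_DD hn) x)
  · exact iff_of_false (fun c => ha ((mem_DD.1 c).2 A S s hA hS k1))
      (fun c => ha ((mul_mem_cancel_right k1.zc).1 ((mem_DD.1 c).2 A S s hA hS k1)))

theorem T4.isConj (k : T4 P z) (k' : T4 S s) : IsConj z s := by
  obtain ⟨s', e, k1⟩ := k.of_syl k'.syl
  exact k1.uniq k' ▸ e

theorem T4.comm_mem_DD (k : T4 P z) (hN : NN(P) ≤ stabMod P CC(P)) (hn : n ∈ NN(P)) (hc : c ∈ P)
    (hc' : c ∈ CC(P)) : n * c * n⁻¹ * c⁻¹ ∈ DD P := by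
  have p := conj_mem_of_mem_NN hn hc
  refine mem_DD.2 ⟨mul_mem p (inv_mem hc), fun A S s hA hS k1 => ?_⟩
  have e := k.isConj k1
  have cA := hA.Z_le k hc hc'
  have sA := hS.z_mem k1
  by_cases hs : s = z
  · subst hs
    exact hS.Z_eq k1 hA k (mul_mem (conj_mem_of_mem_NN (hA.N_le k hN hn) cA) (inv_mem cA))
      (mul_mem (conj_CC hn hc') (inv_mem hc'))
  have z1 : z ∉ CC(S) := fun c => hs (k1.eq_of_conj c e.symm).symm
  have main : ∀ m ∈ NN(P), m * s * m⁻¹ = s → m * c * m⁻¹ * c⁻¹ ∈ CC(S) := fun m hm es => by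
    have mA := hA.N_le k hN hm
    have q : ∀ a ∈ A, a ∈ CC(S) → m * a * m⁻¹ ∈ CC(S) := fun a ha h1 => by
      have h2 := hS.cjm m
      have k2 := k1.conj m
      rw [cj_eq_of_mem_NN mA] at h2
      rw [es] at k2
      exact hS.Z_eq k1 h2 k2 (conj_mem_of_mem_NN mA ha)
        (by rw [← cj_centralizer]; exact conj_mem_cj h1)
    by_cases h1 : c ∈ CC(S)
    · exact mul_mem (q c cA h1) (inv_mem h1)
    · have h2 := hS.two k1 cA (hA.z_mem k) h1 z1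
      have := mul_mem (q _ (mul_mem cA (hA.z_mem k)) h2) (inv_mem h2)
      rwa [← conj_mul, k.fix hm, mul_inv_rev, mul_assoc, mul_inv_cancel_left] at this
  rcases hA.three k sA e hs (conj_mem_of_mem_NN (hA.N_le k hN hn) sA)
    (e.trans (isConj_iff.2 ⟨n, rfl⟩)) with e1 | e1 | e1
  · exact (hs (by simpa using e1.trans (k.fix hn).symm)).elim
  · exact main n hn e1
  · obtain ⟨t, ht, ht'⟩ := hA.exists_not
    have h1 := hA.conj k sA (fun c => hs (k.eq_of_conj c e)) ht ht'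
    have := main (t * n) (mul_mem (le_NN_self P ht) hn) (by
      rw [show t * n * s * (t * n)⁻¹ = t * (n * s * n⁻¹) * t⁻¹ by group, e1, ← conj_mul, h1,
        k.zc t ht, mul_inv_cancel_right, mul_assoc, k.zz, mul_one])
    rwa [show t * n * c * (t * n)⁻¹ = t * (n * c * n⁻¹) * t⁻¹ by group, conj_CC hn hc' t ht,
      mul_inv_cancel_right] at this

/-- involutions of an abelian subgroup -/
def om (D : Subgroup G) (h : D ≤ CC(D)) : Subgroup G where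
  carrier := {c | c ∈ D ∧ c * c = 1}
  one_mem' := ⟨one_mem _, mul_one _⟩
  mul_mem' := fun {a b} ha hb => ⟨mul_mem ha.1 hb.1, by
    rw [mul_assoc, ← mul_assoc b, ← h hb.1 a ha.1, mul_assoc, hb.2, mul_one, ha.2]⟩
  inv_mem' := fun {a} ha => ⟨inv_mem ha.1, by rw [← mul_inv_rev, ha.2, inv_one]⟩

theorem om_ea (h : D ≤ CC(D)) : IsElementaryAbelian 2 (om D h) :=
  ⟨isMulCommutative_iff_le_CC.2 fun a ha b hb => h ha.1 b hb.1, fun _ ha => by rw [pow_two, ha.2]⟩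

theorem om_ne_bot (h : D ≤ CC(D)) (h2 : IsPGroup 2 D) (h1 : D ≠ ⊥) : om D h ≠ ⊥ := fun e => by
  obtain ⟨x, hx, ox⟩ := exists_orderOf_eq_of_ne_bot h2 h1
  have : x ∈ om D h := ⟨hx, by rw [← pow_two, ← ox, pow_orderOf_eq_one]⟩
  rw [e, mem_bot] at this
  simp [this] at ox

theorem sc_om (hP : IsSylowIn 2 P ⊤) (hD : D ≤ P) (h : D ≤ CC(D))
    (hs : ∀ x ∈ D, ∀ g : G, g * x * g⁻¹ ∈ P → g * x * g⁻¹ ∈ D) : H5.Gd.SC (om D h) ⊤ :=
  H5.Gd.sc_of_sylow hP (fun _ hx => hD hx.1) (om_ea h) fun a ha g _ hg =>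
    ⟨hs a ha.1 g hg, by rw [conj_mul, ha.2]; simp⟩

theorem T4.focal (k : T4 P z) (hp : commutator G = ⊤) {Y : Subgroup G}
    (hW : ∀ w ∈ P, IsConj z w → w ∈ Y) (hn : P ≤ NN(Y))
    (hN : ∀ x ∈ P, ∀ n ∈ NN(P), n * x * n⁻¹ * x⁻¹ ∈ Y) : P ≤ Y := by
  obtain ⟨Q, rfl⟩ := k.syl.exists_sylow_top
  have := commutator_inf_eq_focalSubgroup Q
  rw [hp, top_inf_eq] at this
  refine this.le.trans (H3.focalSubgroup_le_of fun x hx g hg => ?_)
  refine k.fusion (R := fun a b => b * a⁻¹ ∈ Y) ⟨fun _ => by simp, fun h => by simpa using inv_mem h,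
    fun h h' => by simpa [mul_assoc] using mul_mem h' h⟩ hN (fun A S s hA hS k1 e a ha _ => ?_) hx hg
  exact conj_mem_of_mem_NN (hn (hA.le ha)) (hW s (hA.le (hS.z_mem k1)) e)

theorem T4.exists_conj (k : T4 P z) (hz : ¬ IsIsolatedInvolution z) :
    ∃ y ∈ P, IsConj z y ∧ y ≠ z := by
  have oz : orderOf z = 2 := orderOf_eq_prime (by rw [pow_two, k.zz]) k.z1
  simp only [IsIsolatedInvolution, oz, true_and, not_forall] at hz
  obtain ⟨g, h1, h2⟩ := hz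
  have l : P ≤ centralizer {z} := fun x hx => mem_centralizer_singleton_iff.2 (k.zc x hx)
  obtain ⟨c, hc, hle⟩ := (k.syl.of_le l le_top).exists_cj_le (P := zpowers (g * z * g⁻¹))
    (isPGroup_zpowers (k := 1) (by rw [pow_one, pow_two, conj_mul, k.zz]; simp))
    (zpowers_le.2 (mem_centralizer_singleton_iff.2 h1.symm))
  refine ⟨_, hle (conj_mem_cj (mem_zpowers _)), isConj_iff.2 ⟨c * g, by group⟩, fun e => h2 ?_⟩
  have := mem_centralizer_singleton_iff.1 hc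
  rw [mul_inv_eq_iff_eq_mul, ← this] at e
  exact mul_left_cancel e

/-- the Sylow subgroup is dihedral of order eight -/
theorem T4.dh (k : T4 P z) (hp : commutator G = ⊤) (hz : ¬ IsIsolatedInvolution z)
    (hG : ∀ A : Subgroup G, A ≠ ⊥ → H5.Gd.SC A ⊤ → H5.Gd.Om A ⊤) : ∃ x y, H6.DH P 1 x y := by
  obtain ⟨y, hy, e, hne⟩ := k.exists_conj hz
  have hN := k.N_le hy e hne
  have y0 : y ∉ CC(P) := fun c => hne (k.eq_of_conj c e)
  have hA := k.ma hy y0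
  have m : y ∈ P ⊓ centralizer {y} := ⟨hy, mem_centralizer_singleton_iff.2 rfl⟩
  have hD : DD P = ⊥ := by
    by_contra h1
    have ab : DD P ≤ CC(DD P) := k.DD_le.trans (CC_anti inf_le_left)
    have := hG _ (om_ne_bot ab (k.syl.isPGroup.to_le inf_le_left) h1)
      (sc_om k.syl inf_le_left ab fun _ hx _ => k.sc_DD hx) P k.syl.isPGroup (fun _ h => h.1.1)
      le_top z k.zP k.zz
    obtain ⟨S, k1, hS⟩ := hA.exists_over k m e
    exact hne (k1.eq_of_conj ((mem_DD.1 this.1).2 _ S y hA hS k1) e.symm).symm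
  have fx : ∀ n ∈ NN(P), ∀ c ∈ P, c ∈ CC(P) → n * c * n⁻¹ = c := fun n hn c hc hc' => by
    have := k.comm_mem_DD hN hn hc hc'
    rwa [hD, mem_bot, mul_inv_eq_one] at this
  have WP : closure {w | w ∈ P ∧ IsConj z w} ≤ P := (closure_le _).2 fun _ h => h.1
  have NW : NN(P) ≤ NN(closure {w | w ∈ P ∧ IsConj z w}) := le_NN_of_cj_le fun g hg => by
    rw [cj, MonoidHom.map_closure, closure_le]
    rintro _ ⟨w, hw, rfl⟩
    exact subset_closure ⟨conj_mem_of_mem_NN hg hw.1, hw.2.trans (isConj_iff.2 ⟨g, rfl⟩)⟩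
  have NZ : NN(P) ≤ NN((P ⊓ CC(P) : Subgroup G)) := le_NN_inf le_rfl (NN_le_NN_CC P)
  have r1 : P ≤ closure {w | w ∈ P ∧ IsConj z w} ⊔ (P ⊓ CC(P)) :=
    k.focal hp (fun w hw e => mem_sup_left (subset_closure ⟨hw, e⟩))
      ((le_NN_self P).trans (le_NN_sup NW NZ)) fun x hx n hn =>
      mem_sup_right ⟨P.mul_mem (conj_mem_of_mem_NN hn hx) (P.inv_mem hx), (hN hn).2 x hx⟩
  have r2 : P ≤ closure {w | w ∈ P ∧ IsConj z w} :=
    k.focal hp (fun w hw e => subset_closure ⟨hw, e⟩) ((le_NN_self P).trans NW) fun x hx n hn => by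
      obtain ⟨w, hw, c, hc, rfl⟩ := (mem_sup_of_NN (WP.trans ((le_NN_self P).trans NZ))).1 (r1 hx)
      rw [← conj_mul, fx n hn c hc.1 hc.2, mul_inv_rev, mul_assoc, mul_inv_cancel_left]
      exact Subgroup.mul_mem _ (conj_mem_of_mem_NN (NW hn) hw) (Subgroup.inv_mem _ hw)
  obtain ⟨v, hv, ev, nv⟩ : ∃ v ∈ P, IsConj z v ∧ v * y ≠ y * v := by
    by_contra hn
    push Not at hn
    obtain ⟨t, ht, ht'⟩ := hA.exists_not
    exact ht' ((closure_le _).2 (fun w hw => (⟨hw.1, mem_centralizer_singleton_iff.2 (hn w hw.1 hw.2)⟩ :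
      w ∈ P ⊓ centralizer {y})) (r2 ht))
  have y2 := sq_of_conj k.zz e
  have v2 := sq_of_conj k.zz ev
  have sq := k.mul_sq hy hv y2 v2 nv.symm
  have v0 : v ∉ CC(P) := not_CC hy nv.symm
  have cj : y * (y * v) * y⁻¹ = (y * v)⁻¹ := by
    rw [← mul_assoc, y2, one_mul, mul_inv_rev, inv_eq_of_mul_eq_one_right v2]
  have r3 : P ≤ zpowers (y * v) ⊔ zpowers y := r2.trans ((closure_le _).2 fun w hw => by
    have m1 : y ∈ zpowers (y * v) ⊔ zpowers y := mem_sup_right (mem_zpowers y)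
    have m0 : y * v ∈ zpowers (y * v) ⊔ zpowers y := mem_sup_left (mem_zpowers _)
    have m2 : v ∈ zpowers (y * v) ⊔ zpowers y := (mul_mem_cancel_left m1).1 m0
    have m3 : z ∈ zpowers (y * v) ⊔ zpowers y := sq ▸ mul_mem m0 m0
    by_cases c1 : w * y = y * w
    · rcases hA.three k m e hne ⟨hw.1, mem_centralizer_singleton_iff.2 c1⟩ hw.2 with rfl | rfl | rfl
      exacts [m3, m1, mul_mem m1 m3]
    by_cases c2 : w * v = v * w
    · rcases (k.ma hv v0).three k ⟨hv, mem_centralizer_singleton_iff.2 rfl⟩ ev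
        (fun c => v0 (c ▸ k.zc)) ⟨hw.1, mem_centralizer_singleton_iff.2 c2⟩ hw.2 with rfl | rfl | rfl
      exacts [m3, m2, mul_mem m2 m3]
    exact (k.three_nc hy hv hw.1 e ev hw.2 nv.symm c1 c2).elim)
  refine ⟨y * v, y, ?_, y2, cj, fun c => nv ?_, fun g => ⟨fun hg => ?_, ?_⟩⟩
  · refine orderOf_eq_prime_pow (by rw [pow_one, pow_two, sq]; exact k.z1) ?_
    rw [show 2 ^ (1 + 1) = 2 * 2 by norm_num, pow_mul, pow_two, pow_two, sq, k.zz]
  · obtain ⟨i, hi⟩ := mem_zpowers_iff.1 c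
    have : Commute (y * v) y := by have := Commute.self_zpow (y * v) i; rwa [hi] at this
    exact mul_left_cancel (a := y) (by rw [← mul_assoc, this.eq])
  · have nn : zpowers y ≤ NN(zpowers (y * v)) := zpowers_le.2 (mem_NN.2 (by
      rw [cj_zpowers, cj, zpowers_inv]))
    obtain ⟨a, ha, b, hb, rfl⟩ := (mem_sup_of_NN' nn).1 (r3 hg)
    obtain ⟨i, rfl⟩ := mem_zpowers_iff.1 ha
    obtain ⟨j, rfl⟩ := mem_zpowers_iff.1 hb
    refine ⟨i, ?_⟩
    rcases Int.even_or_odd' j with ⟨l, rfl | rfl⟩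
    · left; rw [zpow_mul, zpow_two, y2]; simp
    · right; rw [zpow_add, zpow_mul, zpow_two, y2]; simp
  · rintro ⟨i, rfl | rfl⟩
    exacts [zpow_mem (mul_mem hy hv) i, mul_mem (zpow_mem (mul_mem hy hv) i) hy]

end H8.Z4
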